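import Cfsg.Agent.Lib.SL2Mat
import Cfsg.Agent.Cit.HexForm
set_option linter.all false

-- part: H148/SLTwo
section
/-!
# Rank one lemmas on `SL(2,K)` (helper148)

`ldu`, `exists_ulu`: Gauss decompositions; `exists_twisted`: a noncentral matrix is conjugate to one with a prescribed
first entry.
-/

set_option autoImplicit false

namespace Cfsg.Agent.H148.SLTwo

open Cfsg.Agent.Lib.SL2Mat

variable {K : Type*} [Field K]

/-- `SL(2,K)` -/
abbrev S (K : Type*) [Field K] := Matrix.SpecialLinearGroup (Fin 2) K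

theorem ldu (M : S K) (h : ent M 0 0 ≠ 0) :
    M = lo (ent M 1 0 / ent M 0 0) * dg (ent M 0 0) h * up (ent M 0 1 / ent M 0 0) := by
  have hd := det_eq M
  refine ext_ent ?_ ?_ ?_ ?_
  all_goals simp only [ent_mul, lo_00, lo_01, lo_10, lo_11, dg_00, dg_01, dg_10, dg_11, up_00, up_01, up_10, up_11]
  · ring
  · field_simp
    ring
  · field_simp
    ring
  · field_simp
    linear_combination hd

theorem exists_ulu (M : S K) : ∃ (x y z : K) (hz : z ≠ 0) (w : K), M = up x * lo y * dg z hz * up w := by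
  by_cases h : ent M 0 0 = 0
  · have hd := det_eq M
    have h10 : ent M 1 0 ≠ 0 := by
      intro h1
      rw [h, h1] at hd
      simp at hd
    obtain ⟨N, hN⟩ : ∃ N, N = up (-(-1 / ent M 1 0)) * M := ⟨_, rfl⟩
    have e00 : ent N 0 0 = 1 := by
      rw [hN, ent_mul, up_00, up_01, h]
      field_simp
      ring
    have h1 : ent N 0 0 ≠ 0 := by rw [e00]; exact one_ne_zero
    have h2 := ldu _ h1
    refine ⟨-1 / ent M 1 0, ent N 1 0 / ent N 0 0, ent N 0 0, h1, ent N 0 1 / ent N 0 0, ?_⟩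
    have h3 : M = up (-1 / ent M 1 0) * N := by
      rw [hN, ← mul_assoc, up_mul, add_neg_cancel, up_zero, one_mul]
    have h4 : up (-1 / ent M 1 0) * N = up (-1 / ent M 1 0) *
        (lo (ent N 1 0 / ent N 0 0) * dg (ent N 0 0) h1 * up (ent N 0 1 / ent N 0 0)) := by
      exact congrArg (up (-1 / ent M 1 0) * ·) h2
    exact h3.trans (h4.trans (by simp only [mul_assoc]))
  · refine ⟨0, ent M 1 0 / ent M 0 0, ent M 0 0, h, ent M 0 1 / ent M 0 0, ?_⟩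
    rw [up_zero, one_mul]
    exact ldu M h

theorem exists_twisted (M : S K) (a : K) (ha : a ≠ 0)
    (hM : ¬ (ent M 0 1 = 0 ∧ ent M 1 0 = 0 ∧ ent M 0 0 * a = ent M 1 1)) (κ : K) :
    ∃ m : S K, ent (m * M * conjGL (dgl a ha) m⁻¹) 0 0 = κ := by
  -- the row `(p, q)` with `(p, q) A` independent of it
  obtain ⟨p, q, hΔ⟩ : ∃ p q : K, p * (p * ent M 0 1 + q * ent M 1 1) -
      q * ((p * ent M 0 0 + q * ent M 1 0) * a) ≠ 0 := by
    by_cases h01 : ent M 0 1 = 0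
    · by_cases h10 : ent M 1 0 = 0
      · refine ⟨1, 1, fun h => hM ⟨h01, h10, ?_⟩⟩
        rw [h01, h10] at h
        linear_combination -h
      · refine ⟨0, 1, fun h => h10 ?_⟩
        have h1 : ent M 1 0 * a = 0 := by linear_combination -h
        exact (mul_eq_zero.1 h1).resolve_right ha
    · exact ⟨1, 0, fun h => h01 (by linear_combination h)⟩
  obtain ⟨u, hu⟩ : ∃ u, u = (p * ent M 0 0 + q * ent M 1 0) * a := ⟨_, rfl⟩
  obtain ⟨v, hv⟩ : ∃ v, v = p * ent M 0 1 + q * ent M 1 1 := ⟨_, rfl⟩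
  obtain ⟨Δ, hΔe⟩ : ∃ Δ, Δ = p * v - q * u := ⟨_, rfl⟩
  rw [← hu, ← hv, ← hΔe] at hΔ
  -- `r2 = α r1 + β r1 A`
  have e1 : p * ((-(κ * a) * q + v) / Δ) - q * ((-(κ * a) * p + u) / Δ) = 1 := by
    field_simp
    rw [hΔe]
    ring
  refine ⟨mk p q ((-(κ * a) * p + u) / Δ) ((-(κ * a) * q + v) / Δ) e1, ?_⟩
  rw [conjGL_dgl_ent, ent_mul, mk_00, mk_10, ent_inv, mk_00, mk_10, ent_mul, ent_mul, mk_00, mk_01, mk_10, mk_11]
  have e2 : p * ent M 0 0 + q * ent M 1 0 = u / a := by rw [hu]; field_simp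
  rw [e2, ← hv]
  field_simp
  rw [hΔe]
  ring

end Cfsg.Agent.H148.SLTwo
end

-- part: H148/Cell
section
/-!
# Groups of type `G₂` and `³D₄`: the big cell (helper148)

`exists_conj_cell`: every element of a `HexGrp` is conjugate to an element `v t u` of the big cell.
-/

set_option autoImplicit false

namespace Cfsg.Agent.H148.Hex

open Cfsg.Agent.SplitTwo Cfsg.Agent.TitsThree.RankTwoZ Cfsg.Agent.Lib.SL2Mat Cfsg.Agent.Cit.HexBase
  Cfsg.Agent.Cit.HexBase.HexGrp Cfsg.Agent.H148.SLTwo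

universe u

variable {E : Type*} [Field E] {σ : E ≃+* E} {L : Type u} [Group L] (c : HexGrp σ L)

/-- the set of roots `s` absorbs the commutators with the root `k` -/
def Cl (k : ZMod (2 * 6)) (s : Finset (ZMod (2 * 6))) : Prop := ∀ j ∈ s, j = k ∨ (k ≠ j + 6 ∧ bt k j ⊆ s)

instance instDecidableCl148 (k : ZMod (2 * 6)) (s : Finset (ZMod (2 * 6))) : Decidable (Cl k s) := by unfold Cl; infer_instance

theorem conj_conj_mem {H : Subgroup L} {a b : L} (ha : ∀ g ∈ H, a * g * a⁻¹ ∈ H) (hb : ∀ g ∈ H, b * g * b⁻¹ ∈ H) :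
    ∀ g ∈ H, a * b * g * (a * b)⁻¹ ∈ H := by
  intro g hg
  have := ha _ (hb g hg)
  have e : a * b * g * (a * b)⁻¹ = a * (b * g * b⁻¹) * a⁻¹ := by group
  rwa [e]

theorem pa_conj {s : Finset (ZMod (2 * 6))} (h6 : Cl 6 s) (h0 : Cl 0 s) (m : SL2 ↥(fx σ)) :
    ∀ g ∈ Sg c.X s, c.pa m * g * (c.pa m)⁻¹ ∈ Sg c.X s := by
  obtain ⟨a, b, d, e, rfl⟩ := exists_up_lo m
  have h1 : ∀ a, ∀ g ∈ Sg c.X s, c.pa (up a) * g * (c.pa (up a))⁻¹ ∈ Sg c.X s := fun a g hg =>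
    c.conj_mem_Sg h6 (by rw [c.pa_up]; exact c.mem6 a.2) hg
  have h2 : ∀ a, ∀ g ∈ Sg c.X s, c.pa (lo a) * g * (c.pa (lo a))⁻¹ ∈ Sg c.X s := fun a g hg =>
    c.conj_mem_Sg h0 ((c.pa_lo _).2 ⟨a, rfl⟩) hg
  rw [map_mul, map_mul, map_mul]
  exact conj_conj_mem (conj_conj_mem (conj_conj_mem (h1 _) (h2 _)) (h1 _)) (h2 _)

theorem pb_conj {s : Finset (ZMod (2 * 6))} (h1 : Cl 1 s) (h7 : Cl 7 s) (m : SL2 E) :
    ∀ g ∈ Sg c.X s, c.pb m * g * (c.pb m)⁻¹ ∈ Sg c.X s := by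
  obtain ⟨a, b, d, e, rfl⟩ := exists_up_lo m
  have k1 : ∀ a, ∀ g ∈ Sg c.X s, c.pb (up a) * g * (c.pb (up a))⁻¹ ∈ Sg c.X s := fun a g hg =>
    c.conj_mem_Sg h1 (by rw [c.pb_up]; exact c.mem1 a) hg
  have k2 : ∀ a, ∀ g ∈ Sg c.X s, c.pb (lo a) * g * (c.pb (lo a))⁻¹ ∈ Sg c.X s := fun a g hg =>
    c.conj_mem_Sg h7 ((c.pb_lo _).2 ⟨a, rfl⟩) hg
  rw [map_mul, map_mul, map_mul]
  exact conj_conj_mem (conj_conj_mem (conj_conj_mem (k1 _) (k2 _)) (k1 _)) (k2 _)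

theorem pa_up_mem {s : Finset (ZMod (2 * 6))} (h : (6 : ZMod (2 * 6)) ∈ s) (a : ↥(fx σ)) :
    c.pa (up a) ∈ Sg c.X s := c.sg h (by rw [c.pa_up]; exact c.mem6 a.2)

theorem pa_lo_mem {s : Finset (ZMod (2 * 6))} (h : (0 : ZMod (2 * 6)) ∈ s) (a : ↥(fx σ)) :
    c.pa (lo a) ∈ Sg c.X s := c.sg h ((c.pa_lo _).2 ⟨a, rfl⟩)

theorem pb_up_mem {s : Finset (ZMod (2 * 6))} (h : (1 : ZMod (2 * 6)) ∈ s) (a : E) :
    c.pb (up a) ∈ Sg c.X s := c.sg h (by rw [c.pb_up]; exact c.mem1 a)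

theorem pb_lo_mem {s : Finset (ZMod (2 * 6))} (h : (7 : ZMod (2 * 6)) ∈ s) (a : E) :
    c.pb (lo a) ∈ Sg c.X s := c.sg h ((c.pb_lo _).2 ⟨a, rfl⟩)

/-! ### The torus -/

/-- an element `pb (dg s) * pa (dg r)` of the torus -/
def IsT (t : L) : Prop := ∃ (s : E) (hs : s ≠ 0) (r : ↥(fx σ)) (hr : r ≠ 0), t = c.pb (dg s hs) * c.pa (dg r hr)

theorem pb_dg_T0 (s : E) (hs : s ≠ 0) : c.pb (dg s hs) ∈ c.T0 := ⟨_, _, c.act_b s hs⟩
theorem pa_dg_T0 (r : ↥(fx σ)) (hr : r ≠ 0) : c.pa (dg r hr) ∈ c.T0 := ⟨_, _, c.act_a r hr⟩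

variable {c}

theorem IsT.mem {t : L} (h : IsT c t) : t ∈ c.T0 := by
  obtain ⟨s, hs, r, hr, rfl⟩ := h
  exact mul_mem (pb_dg_T0 c s hs) (pa_dg_T0 c r hr)

theorem IsT.mul {t t' : L} (h : IsT c t) (h' : IsT c t') : IsT c (t * t') := by
  obtain ⟨s, hs, r, hr, rfl⟩ := h
  obtain ⟨s', hs', r', hr', rfl⟩ := h'
  refine ⟨s * s', mul_ne_zero hs hs', r * r', mul_ne_zero hr hr', ?_⟩
  rw [← dg_mul_dg s s' hs hs', ← dg_mul_dg r r' hr hr', map_mul, map_mul]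
  have := c.T0_comm (pa_dg_T0 c r hr) (pb_dg_T0 c s' hs')
  calc c.pb (dg s hs) * c.pa (dg r hr) * (c.pb (dg s' hs') * c.pa (dg r' hr'))
      = c.pb (dg s hs) * (c.pa (dg r hr) * c.pb (dg s' hs')) * c.pa (dg r' hr') := by group
    _ = _ := by rw [this]; group

variable (c)

theorem isT_pb (s : E) (hs : s ≠ 0) : IsT c (c.pb (dg s hs)) :=
  ⟨s, hs, 1, one_ne_zero, by rw [dg_one', map_one, mul_one]⟩

theorem isT_pa (r : ↥(fx σ)) (hr : r ≠ 0) : IsT c (c.pa (dg r hr)) :=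
  ⟨1, one_ne_zero, r, hr, by rw [dg_one', map_one, one_mul]⟩

theorem isT_one : IsT c (1 : L) :=
  ⟨1, one_ne_zero, 1, one_ne_zero, by rw [dg_one', dg_one', map_one, map_one, one_mul]⟩

variable {c}

/-- moving a torus element to the left -/
theorem T0_comm_left {s : Finset (ZMod (2 * 6))} {t g : L} (ht : t ∈ c.T0) (hg : g ∈ Sg c.X s) :
    ∃ g' ∈ Sg c.X s, g * t = t * g' := by
  refine ⟨t⁻¹ * g * t, ?_, by group⟩
  have := c.T0_conj (inv_mem ht) hg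
  rwa [inv_inv] at this

/-- moving a torus element to the right -/
theorem T0_comm_right {s : Finset (ZMod (2 * 6))} {t g : L} (ht : t ∈ c.T0) (hg : g ∈ Sg c.X s) :
    ∃ g' ∈ Sg c.X s, t * g = g' * t :=
  ⟨t * g * t⁻¹, c.T0_conj ht hg, by group⟩

variable (c)

/-! ### The big cell -/

/-- `P N T P` -/
def Cell2 (g : L) : Prop := ∃ p ∈ Sg c.X Pos, ∃ v ∈ Sg c.X Neg, ∃ t, IsT c t ∧ ∃ u ∈ Sg c.X Pos, g = p * v * t * u

variable {c}

theorem Cell2.pa {g : L} (h : Cell2 c g) (m : SL2 ↥(fx σ)) : Cell2 c (c.pa m * g) := by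
  obtain ⟨p, hp, v, hv, t, ht, u, hu, rfl⟩ := h
  obtain ⟨q, hq, w, hw, rfl⟩ := c.exists_mul' (k := 6) (s := {1, 2, 3, 4, 5}) (by decide +kernel)
    (Sg_mono (by decide +kernel) hp : p ∈ Sg c.X (insert 6 {1, 2, 3, 4, 5}))
  obtain ⟨y, hy, q', hq', rfl⟩ := c.exists_mul (k := 0) (s := {7, 8, 9, 10, 11}) (by decide +kernel)
    (Sg_mono (by decide +kernel) hv : v ∈ Sg c.X (insert 0 {7, 8, 9, 10, 11}))
  obtain ⟨d, hd, rfl⟩ := (c.par.mem6 _).1 hw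
  obtain ⟨b, rfl⟩ := (c.pa_lo _).1 hy
  obtain ⟨x', y', z', hz', w', e⟩ := exists_ulu (m * up ⟨d, hd⟩ * lo b)
  have h1 : c.pa m * q * (c.pa m)⁻¹ ∈ Sg c.X {1, 2, 3, 4, 5} :=
    pa_conj c (by decide +kernel) (by decide +kernel) m q hq
  have h2 : c.pa (dg z' hz' * up w') * q' * (c.pa (dg z' hz' * up w'))⁻¹ ∈ Sg c.X {7, 8, 9, 10, 11} :=
    pa_conj c (by decide +kernel) (by decide +kernel) _ q' hq'
  obtain ⟨a, ha, ea⟩ := T0_comm_left (c := c) (s := {6}) ht.mem (g := c.pa (up w'))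
    (pa_up_mem c (by decide) _)
  refine ⟨(c.pa m * q * (c.pa m)⁻¹) * c.pa (up x'), mul_mem (Sg_mono (by decide +kernel) h1)
    (pa_up_mem c (by decide) _), c.pa (lo y') *
    (c.pa (dg z' hz' * up w') * q' * (c.pa (dg z' hz' * up w'))⁻¹), mul_mem (pa_lo_mem c (by decide) _)
    (Sg_mono (by decide +kernel) h2), c.pa (dg z' hz') * t, (isT_pa c z' hz').mul ht, a * u,
    mul_mem (Sg_mono (by decide +kernel) ha) hu, ?_⟩
  have e6 : c.x6 d = c.pa (up ⟨d, hd⟩) := (c.pa_up ⟨d, hd⟩).symm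
  have e7 : c.pa m * c.pa (up ⟨d, hd⟩) * c.pa (lo b) = c.pa (up x') * c.pa (lo y') * c.pa (dg z' hz') * c.pa (up w') := by
    rw [← map_mul, ← map_mul, e, map_mul, map_mul, map_mul]
  calc c.pa m * (q * c.x6 d * (c.pa (lo b) * q') * t * u)
      = (c.pa m * q * (c.pa m)⁻¹) * (c.pa m * c.pa (up ⟨d, hd⟩) * c.pa (lo b)) * q' * t * u := by rw [e6]; group
    _ = (c.pa m * q * (c.pa m)⁻¹) * (c.pa (up x') * c.pa (lo y') * c.pa (dg z' hz') * c.pa (up w')) * q' * t * u := by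
        rw [e7]
    _ = (c.pa m * q * (c.pa m)⁻¹) * c.pa (up x') * (c.pa (lo y') *
          (c.pa (dg z' hz' * up w') * q' * (c.pa (dg z' hz' * up w'))⁻¹)) * c.pa (dg z' hz') * (c.pa (up w') * t) * u := by
        rw [map_mul]; group
    _ = _ := by rw [ea]; group

theorem Cell2.pb {g : L} (h : Cell2 c g) (m : SL2 E) : Cell2 c (c.pb m * g) := by
  obtain ⟨p, hp, v, hv, t, ht, u, hu, rfl⟩ := h
  obtain ⟨q, hq, w, hw, rfl⟩ := c.exists_mul' (k := 1) (s := {2, 3, 4, 5, 6}) (by decide +kernel)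
    (Sg_mono (by decide +kernel) hp : p ∈ Sg c.X (insert 1 {2, 3, 4, 5, 6}))
  obtain ⟨y, hy, q', hq', rfl⟩ := c.exists_mul (k := 7) (s := {8, 9, 10, 11, 0}) (by decide +kernel)
    (Sg_mono (by decide +kernel) hv : v ∈ Sg c.X (insert 7 {8, 9, 10, 11, 0}))
  obtain ⟨d, rfl⟩ := (c.par.mem1 _).1 hw
  obtain ⟨b, rfl⟩ := (c.pb_lo _).1 hy
  obtain ⟨x', y', z', hz', w', e⟩ := exists_ulu (m * up d * lo b)
  have h1 : c.pb m * q * (c.pb m)⁻¹ ∈ Sg c.X {2, 3, 4, 5, 6} :=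
    pb_conj c (by decide +kernel) (by decide +kernel) m q hq
  have h2 : c.pb (dg z' hz' * up w') * q' * (c.pb (dg z' hz' * up w'))⁻¹ ∈ Sg c.X {8, 9, 10, 11, 0} :=
    pb_conj c (by decide +kernel) (by decide +kernel) _ q' hq'
  obtain ⟨a, ha, ea⟩ := T0_comm_left (c := c) (s := {1}) ht.mem (g := c.pb (up w'))
    (pb_up_mem c (by decide) _)
  refine ⟨(c.pb m * q * (c.pb m)⁻¹) * c.pb (up x'), mul_mem (Sg_mono (by decide +kernel) h1)
    (pb_up_mem c (by decide) _), c.pb (lo y') *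
    (c.pb (dg z' hz' * up w') * q' * (c.pb (dg z' hz' * up w'))⁻¹), mul_mem (pb_lo_mem c (by decide) _)
    (Sg_mono (by decide +kernel) h2), c.pb (dg z' hz') * t, (isT_pb c z' hz').mul ht, a * u,
    mul_mem (Sg_mono (by decide +kernel) ha) hu, ?_⟩
  have e6 : c.x1 d = c.pb (up d) := (c.pb_up d).symm
  have e7 : c.pb m * c.pb (up d) * c.pb (lo b) = c.pb (up x') * c.pb (lo y') * c.pb (dg z' hz') * c.pb (up w') := by
    rw [← map_mul, ← map_mul, e, map_mul, map_mul, map_mul]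
  calc c.pb m * (q * c.x1 d * (c.pb (lo b) * q') * t * u)
      = (c.pb m * q * (c.pb m)⁻¹) * (c.pb m * c.pb (up d) * c.pb (lo b)) * q' * t * u := by rw [e6]; group
    _ = (c.pb m * q * (c.pb m)⁻¹) * (c.pb (up x') * c.pb (lo y') * c.pb (dg z' hz') * c.pb (up w')) * q' * t * u := by
        rw [e7]
    _ = (c.pb m * q * (c.pb m)⁻¹) * c.pb (up x') * (c.pb (lo y') *
          (c.pb (dg z' hz' * up w') * q' * (c.pb (dg z' hz' * up w'))⁻¹)) * c.pb (dg z' hz') * (c.pb (up w') * t) * u := by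
        rw [map_mul]; group
    _ = _ := by rw [ea]; group

theorem cell2_one : Cell2 c (1 : L) := ⟨1, one_mem _, 1, one_mem _, 1, isT_one c, 1, one_mem _, by group⟩

/-- every element lies in `P N T P` -/
theorem cell2 (g : L) : Cell2 c g := by
  let H : Subgroup L :=
    { carrier := {h | ∀ g, Cell2 c g → Cell2 c (h * g) ∧ Cell2 c (h⁻¹ * g)}
      mul_mem' := by
        intro a b ha hb g hg
        rw [mul_assoc, mul_inv_rev, mul_assoc]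
        exact ⟨(ha _ (hb g hg).1).1, (hb _ (ha g hg).2).2⟩
      one_mem' := by
        intro g hg
        rw [inv_one, one_mul]
        exact ⟨hg, hg⟩
      inv_mem' := by
        intro a ha g hg
        rw [inv_inv]
        exact (ha g hg).symm }
  have htop : H = ⊤ := by
    apply c.closure_eq_top
    · intro x g hg
      rw [← map_inv]
      exact ⟨hg.pa x, hg.pa x⁻¹⟩
    · intro x g hg
      rw [← map_inv]
      exact ⟨hg.pb x, hg.pb x⁻¹⟩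
  have h1 : g ∈ H := by rw [htop]; exact Subgroup.mem_top g
  have := (h1 1 cell2_one).1
  rwa [mul_one] at this

/-- every element is conjugate to an element of the big cell -/
theorem exists_conj_cell (g : L) : ∃ y : L, ∃ v ∈ Sg c.X Neg, ∃ t, IsT c t ∧ ∃ u ∈ Sg c.X Pos, y * g * y⁻¹ = v * t * u := by
  obtain ⟨p, hp, v, hv, t, ht, u, hu, rfl⟩ := cell2 (c := c) g
  refine ⟨p⁻¹, v, hv, t, ht, u * p, mul_mem hu hp, by group⟩

end Cfsg.Agent.H148.Hex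
end

-- part: H148/Levi
section
/-!
# Groups of type `G₂` and `³D₄`: the long root Levi subgroup acting on its unipotent radical (helper148)

* `p3`, `n3`: the root `SL₂` of the short roots `3, 9`, commuting with `pa`;
* `W`, `V`: coordinates on `Qb = ⟨X 1, …, X 5⟩` and on `⟨X 2, X 3, X 4⟩`, the action of `pa` on them;
* `fpf_Qb`: a criterion for `pa X₀ * s` to act fixed point freely on `Qb`.
-/

set_option autoImplicit false

namespace Cfsg.Agent.H148.Hex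

open Cfsg.Agent.SplitTwo Cfsg.Agent.TitsThree.RankTwoZ Cfsg.Agent.Lib.SL2Mat Cfsg.Agent.Cit.HexBase
  Cfsg.Agent.Cit.HexBase.HexGrp Cfsg.Agent.H148.SLTwo

universe u

variable {E : Type*} [Field E] {σ : E ≃+* E} {L : Type u} [Group L] (c : HexGrp σ L)

/-! ### `X 3` commutes with `pa` -/

theorem comm63 {g x : L} (hg : g ∈ c.X 6) (hx : x ∈ c.X 3) : g * x = x * g := by
  obtain ⟨t, ht, rfl⟩ := (c.par.mem6 _).1 hg
  obtain ⟨a, rfl⟩ := (c.par.mem3 _).1 hx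
  exact (eq_of_kk (c.par.rel.c36 a t ht)).symm

/-- transport of commutation by a monomial element -/
theorem comm_of_maps {n : L} {f : ZMod (2 * 6) → ZMod (2 * 6)} (hn : Maps c.X n f) {i j k l : ZMod (2 * 6)}
    (h : ∀ g ∈ c.X i, ∀ x ∈ c.X j, g * x = x * g) (hi : f k = i) (hj : f l = j) :
    ∀ g ∈ c.X k, ∀ x ∈ c.X l, g * x = x * g := by
  intro g hg x hx
  have h1 := h _ (maps_mem hn hg hi) _ (maps_mem hn hx hj)
  have h4 : n * (g * x) * n⁻¹ = n * (x * g) * n⁻¹ := by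
    calc _ = n * g * n⁻¹ * (n * x * n⁻¹) := by group
      _ = _ := by rw [h1]; group
  exact mul_left_cancel (mul_right_cancel h4)

theorem comm03 : ∀ g ∈ c.X 0, ∀ x ∈ c.X 3, g * x = x * g :=
  comm_of_maps c c.maps_n6 (i := 6) (j := 3) (fun _ hg _ hx => comm63 c hg hx) (by decide) (by decide)

theorem pa_comm3 (y : SL2 ↥(fx σ)) {x : L} (hx : x ∈ c.X 3) : c.pa y * x = x * c.pa y := by
  have h1 : ∀ a, c.pa (up a) ∈ Subgroup.centralizer {x} := fun a => by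
    rw [Subgroup.mem_centralizer_singleton_iff, c.pa_up]
    exact comm63 c (c.mem6 a.2) hx
  have h2 : ∀ a, c.pa (lo a) ∈ Subgroup.centralizer {x} := fun a => by
    rw [Subgroup.mem_centralizer_singleton_iff]
    exact comm03 c _ ((c.pa_lo _).2 ⟨a, rfl⟩) _ hx
  obtain ⟨a, b, d, e, rfl⟩ := exists_up_lo y
  rw [← Subgroup.mem_centralizer_singleton_iff]
  rw [map_mul, map_mul, map_mul]
  exact mul_mem (mul_mem (mul_mem (h1 _) (h2 _)) (h1 _)) (h2 _)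

/-! ### The root group `SL₂` of the roots `3`, `9` -/

/-- the root `SL₂` of the roots `3, 9` -/
def p3 : SL2 E →* L := (MulAut.conj (c.n1 * c.n6)).toMonoidHom.comp c.pb

theorem p3_apply (x : SL2 E) : p3 c x = c.n1 * c.n6 * c.pb x * (c.n1 * c.n6)⁻¹ := rfl

theorem p3_up_mem (t : E) : p3 c (up t) ∈ c.X 3 := by
  refine maps_mem c.maps_rot2 (k := 1) ?_ (by decide)
  rw [c.pb_up]
  exact c.mem1 t

theorem p3_lo_mem (t : E) : p3 c (lo t) ∈ c.X 9 :=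
  maps_mem c.maps_rot2 (k := 7) ((c.pb_lo _).2 ⟨t, rfl⟩) (by decide)

/-- the reflection at the root `3` -/
def n3 : L := p3 c (wm 1 one_ne_zero)

theorem n3_eq : n3 c = c.n1 * c.n6 * c.n1 * (c.n1 * c.n6)⁻¹ := rfl

theorem maps_n3 : Maps c.X (n3 c) (fun k => -k) := by
  have h1 : Maps c.X (c.n1 * c.n6)⁻¹ (fun k => k - 2) := c.maps_rot2.inv fun k => by ring
  rw [n3_eq]
  refine ((c.maps_rot2.mul c.maps_n1).mul h1).congr fun k => ?_
  simp only [Function.comp]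
  have : (12 : ZMod (2 * 6)) = 0 := by decide
  linear_combination this

theorem maps_n3_inv : Maps c.X (n3 c)⁻¹ (fun k => -k) := (maps_n3 c).inv fun k => by ring

theorem comm39 : ∀ g ∈ c.X 9, ∀ x ∈ c.X 6, g * x = x * g :=
  comm_of_maps c (maps_n3 c) (i := 3) (j := 6) (fun _ hg _ hx => (comm63 c hx hg).symm) (by decide) (by decide)

theorem comm90 : ∀ g ∈ c.X 9, ∀ x ∈ c.X 0, g * x = x * g :=
  comm_of_maps c (maps_n3 c) (i := 3) (j := 0) (fun _ hg _ hx => (comm03 c _ hx _ hg).symm) (by decide) (by decide)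

theorem pa_comm9 (y : SL2 ↥(fx σ)) {x : L} (hx : x ∈ c.X 9) : c.pa y * x = x * c.pa y := by
  have h1 : ∀ a, c.pa (up a) ∈ Subgroup.centralizer {x} := fun a => by
    rw [Subgroup.mem_centralizer_singleton_iff, c.pa_up]
    exact (comm39 c _ hx _ (c.mem6 a.2)).symm
  have h2 : ∀ a, c.pa (lo a) ∈ Subgroup.centralizer {x} := fun a => by
    rw [Subgroup.mem_centralizer_singleton_iff]
    exact (comm90 c _ hx _ ((c.pa_lo _).2 ⟨a, rfl⟩)).symm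
  obtain ⟨a, b, d, e, rfl⟩ := exists_up_lo y
  rw [← Subgroup.mem_centralizer_singleton_iff]
  rw [map_mul, map_mul, map_mul]
  exact mul_mem (mul_mem (mul_mem (h1 _) (h2 _)) (h1 _)) (h2 _)

/-- `p3` and `pa` commute -/
theorem comm_pa_p3 (y : SL2 ↥(fx σ)) (x : SL2 E) : c.pa y * p3 c x = p3 c x * c.pa y := by
  have h1 : ∀ a, p3 c (up a) ∈ Subgroup.centralizer {c.pa y} := fun a => by
    rw [Subgroup.mem_centralizer_singleton_iff]
    exact (pa_comm3 c y (p3_up_mem c a)).symm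
  have h2 : ∀ a, p3 c (lo a) ∈ Subgroup.centralizer {c.pa y} := fun a => by
    rw [Subgroup.mem_centralizer_singleton_iff]
    exact (pa_comm9 c y (p3_lo_mem c a)).symm
  obtain ⟨a, b, d, e, rfl⟩ := exists_up_lo x
  symm
  rw [← Subgroup.mem_centralizer_singleton_iff]
  rw [map_mul, map_mul, map_mul]
  exact mul_mem (mul_mem (mul_mem (h1 _) (h2 _)) (h1 _)) (h2 _)

theorem comm_pa_n3 (y : SL2 ↥(fx σ)) : n3 c * c.pa y * (n3 c)⁻¹ = c.pa y := by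
  rw [n3, ← comm_pa_p3, mul_inv_cancel_right]

variable {c}

/-- the reflection `n3` on the torus -/
theorem Act.n3 {g : L} {c1 c6 : E} (h : c.Act g c1 c6) : c.Act (n3 c * g * (n3 c)⁻¹) (c6 * c1)⁻¹ c6 := by
  obtain ⟨g', hg'⟩ : ∃ g', g' = (c.n1 * c.n6)⁻¹ * g * (c.n1 * c.n6) := ⟨_, rfl⟩
  -- `n6⁻¹ n1⁻¹ g n1 n6`, `n1` and `n6` are involutions modulo the torus
  have n1 := h.ne1
  have n6 := h.ne6
  have nn := nrm_ne (σ := σ) h.ne1
  have hf := h.fix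
  have hN := c.nf c1
  -- conjugation by `n1⁻¹`, `n6⁻¹` is given by the same formulas
  have i1 : ∀ {g : L} {c1 c6 : E}, c.Act g c1 c6 → c.Act (c.n1⁻¹ * g * c.n1) c1⁻¹ (c6 * nrm σ c1) := by
    intro g c1 c6 h
    have h1 := h.n1
    have h2 : c.Act (c.n1 * c.n1) 1 (-1) := by
      have e : c.n1 * c.n1 = c.pb (dg (-1) (neg_ne_zero.2 one_ne_zero)) := by
        rw [HexGrp.n1, ← map_mul]
        congr 1
        refine ext_ent ?_ ?_ ?_ ?_ <;> simp [ent_mul]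
      rw [e]
      exact (c.act_b (-1) (neg_ne_zero.2 one_ne_zero)).congr rfl (by ring) (by rw [nrm_neg, nrm_one]; norm_num)
    have h3 : c.n1⁻¹ * g * c.n1 = (c.n1 * c.n1)⁻¹ * (c.n1 * g * c.n1⁻¹) * (c.n1 * c.n1) := by group
    rw [h3]
    have h4 : (c.n1 * c.n1)⁻¹ * (c.n1 * g * c.n1⁻¹) * (c.n1 * c.n1) = c.n1 * g * c.n1⁻¹ := by
      rw [mul_assoc, c.T0_comm ⟨_, _, h1⟩ ⟨_, _, h2⟩, inv_mul_cancel_left]
    rw [h4]
    exact h1
  have i6 : ∀ {g : L} {c1 c6 : E}, c.Act g c1 c6 → c.Act (c.n6⁻¹ * g * c.n6) (c6 * c1) c6⁻¹ := by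
    intro g c1 c6 h
    have h1 := h.n6
    have h2 : c.Act (c.n6 * c.n6) (-1) 1 := by
      have e : c.n6 * c.n6 = c.pa (dg (-1) (neg_ne_zero.2 one_ne_zero)) := by
        rw [HexGrp.n6, ← map_mul]
        congr 1
        refine ext_ent ?_ ?_ ?_ ?_ <;> simp [ent_mul]
      rw [e]
      refine (c.act_a (-1) (neg_ne_zero.2 one_ne_zero)).congr rfl ?_ ?_
      · change (-(1 : E))⁻¹ = -1
        norm_num
      · change (-(1 : E)) ^ 2 = 1
        norm_num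
    have h3 : c.n6⁻¹ * g * c.n6 = (c.n6 * c.n6)⁻¹ * (c.n6 * g * c.n6⁻¹) * (c.n6 * c.n6) := by group
    rw [h3]
    have h4 : (c.n6 * c.n6)⁻¹ * (c.n6 * g * c.n6⁻¹) * (c.n6 * c.n6) = c.n6 * g * c.n6⁻¹ := by
      rw [mul_assoc, c.T0_comm ⟨_, _, h1⟩ ⟨_, _, h2⟩, inv_mul_cancel_left]
    rw [h4]
    exact h1
  have h5 := (i6 (i1 h)).n1.n6.n1
  refine h5.congr ?_ ?_ ?_
  · rw [n3_eq]
    group
  · generalize hNe : nrm σ c1 = N at *
    have e1 : nrm σ (c6 * N * c1⁻¹) = c6 ^ 3 * N ^ 2 := by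
      rw [nrm_mul, nrm_mul, nrm_inv, nrm_of_fix hf, nrm_of_fix hN, hNe]
      field_simp
    rw [e1]
    field_simp
  · generalize hNe : nrm σ c1 = N at *
    have e1 : nrm σ (c6 * N * c1⁻¹) = c6 ^ 3 * N ^ 2 := by
      rw [nrm_mul, nrm_mul, nrm_inv, nrm_of_fix hf, nrm_of_fix hN, hNe]
      field_simp
    have e2 : (c6 * N)⁻¹ * nrm σ (c6 * N * c1⁻¹) * (c6 * N * c1⁻¹)⁻¹ = c6 * c1 := by
      rw [e1]
      field_simp
    rw [e2, e1, nrm_mul, nrm_of_fix hf, hNe]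
    field_simp

end Cfsg.Agent.H148.Hex
end

-- part: H148/Coord
section
/-!
# Groups of type `G₂` and `³D₄`: coordinates on `Qb` (helper148)
-/

set_option autoImplicit false

namespace Cfsg.Agent.H148.Hex

open Cfsg.Agent.SplitTwo Cfsg.Agent.TitsThree.RankTwoZ Cfsg.Agent.Lib.SL2Mat Cfsg.Agent.Cit.HexBase
  Cfsg.Agent.Cit.HexBase.HexGrp Cfsg.Agent.H148.SLTwo

universe u

variable {E : Type*} [Field E] {σ : E ≃+* E} {L : Type u} [Group L] (c : HexGrp σ L)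

/-! ### Coordinates on `Sg {2, 3, 4}` -/

/-- coordinates on `Sg {2, 3, 4}` -/
def V (g : L) (t2 b t4 : E) : Prop := σ t2 = t2 ∧ σ t4 = t4 ∧ g = c.x2 t2 * c.x3 b * c.x4 t4

theorem comm24 {a b : E} (ha : σ a = a) (hb : σ b = b) : c.x2 a * c.x4 b = c.x4 b * c.x2 a :=
  eq_of_kk (c.par.rel.c24 a b ha hb)

theorem comm23 {a : E} (b : E) (ha : σ a = a) : c.x2 a * c.x3 b = c.x3 b * c.x2 a :=
  eq_of_kk (c.par.rel.c23 a b ha)

theorem comm34 {b : E} (a : E) (hb : σ b = b) : c.x3 a * c.x4 b = c.x4 b * c.x3 a :=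
  eq_of_kk (c.par.rel.c34 a b hb)

variable {c}

theorem V.mem {g : L} {t2 b t4 : E} (h : V c g t2 b t4) : g ∈ Sg c.X {2, 3, 4} := by
  obtain ⟨h2, h4, rfl⟩ := h
  exact mul_mem (mul_mem (c.sg (by decide) (c.mem2 h2)) (c.sg (by decide) (c.mem3 b))) (c.sg (by decide) (c.mem4 h4))

variable (c)

theorem exists_V {g : L} (hg : g ∈ Sg c.X {2, 3, 4}) : ∃ t2 b t4, V c g t2 b t4 := by
  obtain ⟨a2, h2, v2, hv2, rfl⟩ := c.exists_mul (k := 2) (s := {3, 4}) (by decide +kernel) hg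
  obtain ⟨a3, h3, v3, hv3, rfl⟩ := c.exists_mul (k := 3) (s := {4}) (by decide +kernel) hv2
  have h4 : v3 ∈ c.X 4 := (Sg_le fun k hk => by rw [Finset.mem_singleton.1 hk] : Sg c.X {4} ≤ c.X 4) hv3
  obtain ⟨b2, f2, rfl⟩ := (c.par.mem2 _).1 h2
  obtain ⟨b3, rfl⟩ := (c.par.mem3 _).1 h3
  obtain ⟨b4, f4, rfl⟩ := (c.par.mem4 _).1 h4
  exact ⟨b2, b3, b4, f2, f4, by group⟩

variable {c}

theorem V.mul {g h : L} {t2 b t4 s2 d s4 : E} (hg : V c g t2 b t4) (hh : V c h s2 d s4) :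
    V c (g * h) (t2 + s2) (b + d) (t4 + s4) := by
  obtain ⟨h2, h4, rfl⟩ := hg
  obtain ⟨k2, k4, rfl⟩ := hh
  refine ⟨add_fix h2 k2, add_fix h4 k4, ?_⟩
  rw [c.x2_add h2 k2, c.x3_add, c.x4_add h4 k4]
  have e1 := comm24 c k2 h4
  have e2 := comm34 c d h4
  have e3 := comm23 c b k2
  calc c.x2 t2 * c.x3 b * c.x4 t4 * (c.x2 s2 * c.x3 d * c.x4 s4)
      = c.x2 t2 * c.x3 b * (c.x4 t4 * c.x2 s2) * c.x3 d * c.x4 s4 := by group
    _ = c.x2 t2 * (c.x3 b * c.x2 s2) * (c.x4 t4 * c.x3 d) * c.x4 s4 := by rw [← e1]; group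
    _ = _ := by rw [← e2, ← e3]; group

theorem V.congr {g g' : L} {t2 b t4 s2 d s4 : E} (h : V c g t2 b t4) (e : g = g') (e2 : t2 = s2) (e3 : b = d)
    (e4 : t4 = s4) : V c g' s2 d s4 := by
  subst e e2 e3 e4
  exact h

theorem V.unique {g : L} {t2 b t4 s2 d s4 : E} (h : V c g t2 b t4) (h' : V c g s2 d s4) :
    t2 = s2 ∧ b = d ∧ t4 = s4 := by
  obtain ⟨h2, h4, e⟩ := h
  obtain ⟨k2, k4, e'⟩ := h'
  have h := c.uniq25 (c.mem2 h2) (c.mem3 b) (c.mem4 h4) (c.mem5 0) (c.mem2 k2) (c.mem3 d) (c.mem4 k4) (c.mem5 0)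
    (by rw [← e, ← e'])
  exact ⟨c.x2_inj h2 k2 h.1, c.x3_inj h.2.1, c.x4_inj h4 k4 h.2.2.1⟩

theorem V.zero : V c 1 0 0 0 :=
  ⟨map_zero σ, map_zero σ, by rw [c.x2_zero, c.x3_zero, c.x4_zero]; group⟩

variable (c)

theorem v2 {t : E} (h : σ t = t) : V c (c.x2 t) t 0 0 := ⟨h, map_zero σ, by rw [c.x3_zero, c.x4_zero]; group⟩
theorem v3 (t : E) : V c (c.x3 t) 0 t 0 := ⟨map_zero σ, map_zero σ, by rw [c.x2_zero, c.x4_zero]; group⟩
theorem v4 {t : E} (h : σ t = t) : V c (c.x4 t) 0 0 t := ⟨map_zero σ, h, by rw [c.x2_zero, c.x3_zero]; group⟩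

/-! ### `pa` on `X 2`, `X 4` -/

theorem x6_x2 {s t : E} (hs : σ s = s) (ht : σ t = t) :
    c.x6 s * c.x2 t * (c.x6 s)⁻¹ = c.x2 t * c.x4 (-(t * s)) := by
  have h := c.par.rel.c26 t (-s) ht (neg_fix hs)
  rw [show t * -s = -(t * s) by ring] at h
  rw [← h]
  unfold kk
  rw [c.x6_neg hs]
  group

theorem x6_x4 {s t : E} (hs : σ s = s) (ht : σ t = t) : c.x6 s * c.x4 t * (c.x6 s)⁻¹ = c.x4 t := by
  have h := eq_of_kk (c.par.rel.c46 t s ht hs)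
  rw [← h]
  group

theorem comm46 : ∀ g ∈ c.X 4, ∀ x ∈ c.X 6, g * x = x * g := by
  intro g hg x hx
  obtain ⟨t, ht, rfl⟩ := (c.par.mem4 _).1 hg
  obtain ⟨s, hs, rfl⟩ := (c.par.mem6 _).1 hx
  exact eq_of_kk (c.par.rel.c46 t s ht hs)

/-- `X 2` and `X 0` commute -/
theorem comm20 : ∀ g ∈ c.X 2, ∀ x ∈ c.X 0, g * x = x * g :=
  comm_of_maps c c.maps_n6 (i := 4) (j := 6) (comm46 c) (by decide) (by decide)

theorem lo_x2 (s : ↥(fx σ)) {t : E} (ht : σ t = t) : c.pa (lo s) * c.x2 t * (c.pa (lo s))⁻¹ = c.x2 t := by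
  rw [← comm20 c _ (c.mem2 ht) _ ((c.pa_lo _).2 ⟨s, rfl⟩)]
  group

/-- `[X 0, X 4] ≤ X 2` -/
theorem lo_x4_aux (s : ↥(fx σ)) {t : E} (ht : σ t = t) :
    ∃ v, σ v = v ∧ c.pa (lo s) * c.x4 t * (c.pa (lo s))⁻¹ = c.x4 t * c.x2 v := by
  -- conjugate by `n6`
  have h1 : c.n6 * c.pa (lo s) * c.n6⁻¹ ∈ c.X 6 := maps_mem c.maps_n6 ((c.pa_lo _).2 ⟨s, rfl⟩) (by decide)
  have h2 : c.n6 * c.x4 t * c.n6⁻¹ ∈ c.X 2 := maps_mem c.maps_n6 (c.mem4 ht) (by decide)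
  obtain ⟨a, ha, e1⟩ := (c.par.mem6 _).1 h1
  obtain ⟨b, hb, e2⟩ := (c.par.mem2 _).1 h2
  have h3 := x6_x2 c ha hb
  have h4 : c.n6⁻¹ * c.x4 (-(b * a)) * c.n6 ∈ c.X 2 :=
    maps_mem' c.maps_n6 (c.mem4 (neg_fix (mul_fix hb ha))) (by decide)
  obtain ⟨v, hv, e4⟩ := (c.par.mem2 _).1 h4
  refine ⟨v, hv, ?_⟩
  rw [e4]
  calc c.pa (lo s) * c.x4 t * (c.pa (lo s))⁻¹
      = c.n6⁻¹ * ((c.n6 * c.pa (lo s) * c.n6⁻¹) * (c.n6 * c.x4 t * c.n6⁻¹) * (c.n6 * c.pa (lo s) * c.n6⁻¹)⁻¹) * c.n6 := by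
        group
    _ = c.n6⁻¹ * (c.x2 b * c.x4 (-(b * a))) * c.n6 := by rw [← e1, ← e2, h3]
    _ = (c.n6⁻¹ * c.x2 b * c.n6) * (c.n6⁻¹ * c.x4 (-(b * a)) * c.n6) := by group
    _ = _ := by rw [e2]; group

theorem wm_eq2 {K : Type*} [Field K] (b : K) (hb : b ≠ 0) : wm b hb = up b * lo (-b⁻¹) * up b := by
  refine ext_ent ?_ ?_ ?_ ?_ <;> simp [ent_mul, hb]

theorem n6_x2 {t : E} (ht : σ t = t) : c.n6 * c.x2 t * c.n6⁻¹ = c.x4 (-t) := by
  have h1 : c.n6 = c.pa (up 1) * c.pa (lo (-1⁻¹)) * c.pa (up 1) := by rw [HexGrp.n6, wm_eq2, map_mul, map_mul]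
  have hm : c.n6 * c.x2 t * c.n6⁻¹ ∈ c.X 4 := maps_mem c.maps_n6 (c.mem2 ht) (by decide)
  obtain ⟨w, hw, ew⟩ := (c.par.mem4 _).1 hm
  obtain ⟨v, hv, ev⟩ := lo_x4_aux c (-1⁻¹) (neg_fix ht)
  have e6 : c.pa (up 1) = c.x6 1 := c.pa_up 1
  have k1 := x6_x2 c (map_one σ) ht
  rw [mul_one] at k1
  have k2 := lo_x2 c (-1⁻¹) ht
  have k3 := x6_x2 c (map_one σ) (add_fix ht hv)
  have k4 := x6_x4 c (map_one σ) (neg_fix ht)
  have e : c.n6 * c.x2 t * c.n6⁻¹ = c.x2 (t + v) * c.x4 (-((t + v) * 1)) * c.x4 (-t) := by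
    calc c.n6 * c.x2 t * c.n6⁻¹
        = c.x6 1 * (c.pa (lo (-1⁻¹)) * (c.x6 1 * c.x2 t * (c.x6 1)⁻¹) * (c.pa (lo (-1⁻¹)))⁻¹) * (c.x6 1)⁻¹ := by
          rw [h1, e6]; group
      _ = c.x6 1 * ((c.pa (lo (-1⁻¹)) * c.x2 t * (c.pa (lo (-1⁻¹)))⁻¹) *
            (c.pa (lo (-1⁻¹)) * c.x4 (-t) * (c.pa (lo (-1⁻¹)))⁻¹)) * (c.x6 1)⁻¹ := by rw [k1]; group
      _ = c.x6 1 * (c.x2 t * (c.x4 (-t) * c.x2 v)) * (c.x6 1)⁻¹ := by rw [k2, ev]
      _ = c.x6 1 * (c.x2 t * c.x2 v * c.x4 (-t)) * (c.x6 1)⁻¹ := by rw [← comm24 c hv (neg_fix ht)]; group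
      _ = (c.x6 1 * c.x2 (t + v) * (c.x6 1)⁻¹) * (c.x6 1 * c.x4 (-t) * (c.x6 1)⁻¹) := by
          rw [c.x2_add ht hv]; group
      _ = _ := by rw [k3, k4]
  rw [← ew] at e
  have hu := (v4 c hw).unique ((((v2 c (add_fix ht hv)).mul (v4 c (neg_fix (mul_fix (add_fix ht hv) (map_one σ))))).mul
    (v4 c (neg_fix ht))).congr e.symm rfl rfl rfl)
  obtain ⟨u1, -, u3⟩ := hu
  have u4 : t + v = 0 := by linear_combination -u1
  rw [← ew, u3, u4]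
  congr 1
  ring

theorem n6_x4 {t : E} (ht : σ t = t) : c.n6 * c.x4 t * c.n6⁻¹ = c.x2 t := by
  have h1 := n6_x2 c (neg_fix ht)
  rw [neg_neg] at h1
  have e : c.n6 * c.n6 = c.pa (dg (-1) (neg_ne_zero.2 one_ne_zero)) := by
    rw [HexGrp.n6, ← map_mul]
    congr 1
    refine ext_ent ?_ ?_ ?_ ?_ <;> simp [ent_mul]
  have h2 : c.Act (c.n6 * c.n6) (-1) 1 := by
    rw [e]
    refine (c.act_a (-1) (neg_ne_zero.2 one_ne_zero)).congr rfl ?_ ?_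
    · change (-(1 : E))⁻¹ = -1
      norm_num
    · change (-(1 : E)) ^ 2 = 1
      norm_num
  rw [← h1, show c.n6 * (c.n6 * c.x2 (-t) * c.n6⁻¹) * c.n6⁻¹ = c.n6 * c.n6 * c.x2 (-t) * (c.n6 * c.n6)⁻¹ by group,
    h2.a2 _ (neg_fix ht), nrm_neg, nrm_one]
  congr 1
  ring

theorem lo_x4 (s : ↥(fx σ)) {t : E} (ht : σ t = t) :
    c.pa (lo s) * c.x4 t * (c.pa (lo s))⁻¹ = c.x4 t * c.x2 (-(t * s)) := by
  have h1 := n6_x2 c (t := -t) (neg_fix ht)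
  rw [neg_neg] at h1
  have h2 : c.n6 * c.x6 (-(s : E)) * c.n6⁻¹ = c.pa (lo s) := by
    have e : c.x6 (-(s : E)) = c.pa (up (-s)) := (c.pa_up (-s)).symm
    rw [e, HexGrp.n6, ← map_inv, ← map_mul, ← map_mul, wm_up']
    congr 2
    ring
  have hs : σ (s : E) = s := s.2
  have k := x6_x2 c (s := -(s : E)) (neg_fix hs) (neg_fix ht)
  rw [← h1, ← h2]
  calc _ = c.n6 * (c.x6 (-(s : E)) * c.x2 (-t) * (c.x6 (-(s : E)))⁻¹) * c.n6⁻¹ := by group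
    _ = (c.n6 * c.x2 (-t) * c.n6⁻¹) * (c.n6 * c.x4 (-(-t * -(s : E))) * c.n6⁻¹) := by rw [k]; group
    _ = _ := by
      rw [n6_x4 c (neg_fix (mul_fix (neg_fix ht) (neg_fix hs)))]
      congr 3
      ring

/-- `pa` on `Sg {2, 3, 4}` -/
theorem V.pa {g : L} {t2 b t4 : E} (h : V c g t2 b t4) (m : SL2 ↥(fx σ)) :
    V c (c.pa m * g * (c.pa m)⁻¹) (ent m 1 1 * t2 - ent m 1 0 * t4) b (ent m 0 0 * t4 - ent m 0 1 * t2) := by
  -- `up` and `lo`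
  have hu : ∀ (s : ↥(fx σ)) {g : L} {t2 b t4 : E}, V c g t2 b t4 →
      V c (c.pa (up s) * g * (c.pa (up s))⁻¹) t2 b (t4 - s * t2) := by
    rintro s g t2 b t4 ⟨h2, h4, rfl⟩
    have hs : σ (s : E) = s := s.2
    have k2 : V c (c.pa (up s) * c.x2 t2 * (c.pa (up s))⁻¹) t2 0 (-(t2 * s)) := by
      rw [c.pa_up, x6_x2 c hs h2]
      exact ((v2 c h2).mul (v4 c (neg_fix (mul_fix h2 hs)))).congr rfl (by ring) (by ring) (by ring)
    have k3 : V c (c.pa (up s) * c.x3 b * (c.pa (up s))⁻¹) 0 b 0 := by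
      rw [pa_comm3 c _ (c.mem3 b), mul_inv_cancel_right]
      exact v3 c b
    have k4 : V c (c.pa (up s) * c.x4 t4 * (c.pa (up s))⁻¹) 0 0 t4 := by
      rw [c.pa_up, x6_x4 c hs h4]
      exact v4 c h4
    exact ((k2.mul k3).mul k4).congr (by group) (by ring) (by ring) (by ring)
  have hl : ∀ (s : ↥(fx σ)) {g : L} {t2 b t4 : E}, V c g t2 b t4 →
      V c (c.pa (lo s) * g * (c.pa (lo s))⁻¹) (t2 - s * t4) b t4 := by
    rintro s g t2 b t4 ⟨h2, h4, rfl⟩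
    have hs : σ (s : E) = s := s.2
    have k2 : V c (c.pa (lo s) * c.x2 t2 * (c.pa (lo s))⁻¹) t2 0 0 := by
      rw [lo_x2 c s h2]
      exact v2 c h2
    have k3 : V c (c.pa (lo s) * c.x3 b * (c.pa (lo s))⁻¹) 0 b 0 := by
      rw [pa_comm3 c _ (c.mem3 b), mul_inv_cancel_right]
      exact v3 c b
    have k4 : V c (c.pa (lo s) * c.x4 t4 * (c.pa (lo s))⁻¹) (-(t4 * s)) 0 t4 := by
      rw [lo_x4 c s h4]
      exact ((v4 c h4).mul (v2 c (neg_fix (mul_fix h4 hs)))).congr rfl (by ring) (by ring) (by ring)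
    exact ((k2.mul k3).mul k4).congr (by group) (by ring) (by ring) (by ring)
  obtain ⟨p, q, r, s, rfl⟩ := exists_up_lo m
  refine (hu p (hl q (hu r (hl s h)))).congr ?_ ?_ rfl ?_
  · rw [map_mul, map_mul, map_mul]
    group
  · simp only [ent_mul, up_00, up_01, up_10, up_11, lo_00, lo_01, lo_10, lo_11]
    push_cast
    ring
  · simp only [ent_mul, up_00, up_01, up_10, up_11, lo_00, lo_01, lo_10, lo_11]
    push_cast
    ring

end Cfsg.Agent.H148.Hex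
end
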