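import Cfsg.Agent.H148.SmallBad
set_option linter.all false

-- part: H148/D42Comb
section
/-!
# Thompson's conjecture for `³D₄(2)`: combinatorics (helper148)
-/

set_option autoImplicit false

namespace Cfsg.Agent.H148.Hex

open Cfsg.Agent.SplitTwo Cfsg.Agent.Lib.SL2Mat Cfsg.Agent.Cit.HexBase Cfsg.Agent.H148.SLTwo

variable {E : Type*} [Field E] {σ : E ≃+* E}

/-- the condition on the middle factor `M` and the two cubic forms -/
def Cond (c1 : E) (M : SL2 E) (A B : E → E → E) : Prop :=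
  ∀ p q p' q' : E, p * q' - q * p' ≠ 0 →
    ((p * ent M 0 0 + q * ent M 1 0) * q' - (p * ent M 0 1 + q * ent M 1 1) * p' = p * q' - q * p' ∨
      (p * ent M 0 0 + q * ent M 1 0) * q' - (p * ent M 0 1 + q * ent M 1 1) * p' = c1 * (p * q' - q * p') ∨
      ((p * ent M 0 0 + q * ent M 1 0) * q' - (p * ent M 0 1 + q * ent M 1 1) * p') * c1 = p * q' - q * p') →
    A p q + B p' q' = 1

variable [Fintype E]

theorem sum_id (h8 : Fintype.card E = 8) : ∑ x : E, x = 0 := by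
  have := FiniteField.sum_pow_lt_card_sub_one (K := E) 1 (by rw [h8]; norm_num)
  simpa using this

theorem sum_sq (h8 : Fintype.card E = 8) (k : ℕ) (hk : k < 7) : ∑ x : E, x ^ k = 0 :=
  FiniteField.sum_pow_lt_card_sub_one (K := E) k (by rw [h8]; omega)

variable (σ)

/-- the sum of a cubic form -/
theorem sum_cf [CharP E 2] (h8 : Fintype.card E = 8) (b2 b3 b5 b6 : E) :
    ∑ v : E × E, cf σ b2 b3 b5 b6 v.1 v.2 = 0 := by
  have h20 := two_eq_zero E
  have hc : ∀ f : E → E, ∑ _x : E, ∑ y : E, f y = 0 := by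
    intro f
    rw [Finset.sum_const, Finset.card_univ, h8, nsmul_eq_mul]
    have : ((8 : ℕ) : E) = 0 := by
      push_cast
      linear_combination 4 * h20
    rw [this, zero_mul]
  have hs : ∀ τ : E ≃+* E, ∑ x : E, τ x = 0 := by
    intro τ
    rw [← map_sum τ, sum_id h8, map_zero]
  have hp : ∀ (τ : E ≃+* E) (f : E → E), ∑ x : E, ∑ y : E, τ x * f y = 0 := by
    intro τ f
    rw [← Finset.sum_mul_sum, hs, zero_mul]
  have hp' : ∀ (τ : E ≃+* E) (f : E → E), ∑ x : E, ∑ y : E, f x * τ y = 0 := by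
    intro τ f
    rw [← Finset.sum_mul_sum, hs, mul_zero]
  rw [Fintype.sum_prod_type]
  have e1 : ∑ x : E, ∑ y : E, nrm σ y * b2 = 0 := hc _
  have e6 : ∑ x : E, ∑ y : E, nrm σ x * b6 = 0 := by
    rw [Finset.sum_comm]
    exact hc _
  have e3 : ∑ x : E, ∑ y : E, trc σ (x * shp σ y) b3 = 0 := by
    have : ∀ x y : E, trc σ (x * shp σ y) b3 = (RingEquiv.refl E) x * (shp σ y * b3) + σ x * σ (shp σ y * b3) +
        (σ.trans σ) x * σ (σ (shp σ y * b3)) := by
      intro x y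
      unfold trc
      simp only [map_mul, RingEquiv.refl_apply, RingEquiv.trans_apply]
      ring
    simp only [this, Finset.sum_add_distrib]
    rw [hp _ fun y => shp σ y * b3, hp _ fun y => σ (shp σ y * b3), hp _ fun y => σ (σ (shp σ y * b3))]
    ring
  have e5 : ∑ x : E, ∑ y : E, trc σ (shp σ x * y) b5 = 0 := by
    have : ∀ x y : E, trc σ (shp σ x * y) b5 = (shp σ x * b5) * (RingEquiv.refl E) y + σ (shp σ x * b5) * σ y +
        σ (σ (shp σ x * b5)) * (σ.trans σ) y := by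
      intro x y
      unfold trc
      simp only [map_mul, RingEquiv.refl_apply, RingEquiv.trans_apply]
      ring
    simp only [this, Finset.sum_add_distrib]
    rw [hp' _ fun x => shp σ x * b5, hp' _ fun x => σ (shp σ x * b5), hp' _ fun x => σ (σ (shp σ x * b5))]
    ring
  unfold cf
  simp only [Finset.sum_add_distrib]
  rw [e1, e6, e3, e5]
  ring

omit [Fintype E] in
theorem cf_zero (b2 b3 b5 b6 : E) : cf σ b2 b3 b5 b6 0 0 = 0 := by
  unfold cf nrm trc shp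
  simp

variable {σ}

/-- the sum of a function constant outside zero -/
theorem sum_const [DecidableEq E] [CharP E 2] (h8 : Fintype.card E = 8) (A : E → E → E) (h0 : A 0 0 = 0) (k : E)
    (h : ∀ x y : E, (x ≠ 0 ∨ y ≠ 0) → A x y = k) : ∑ v : E × E, A v.1 v.2 = k := by
  have h20 := two_eq_zero E
  have : ∀ v : E × E, A v.1 v.2 = k - (if v = (0, 0) then k else 0) := by
    rintro ⟨x, y⟩
    by_cases hv : (x, y) = ((0 : E), (0 : E))
    · rw [if_pos hv]
      rw [Prod.mk.injEq] at hv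
      obtain ⟨rfl, rfl⟩ := hv
      rw [h0, sub_self]
    · rw [if_neg hv, sub_zero]
      apply h
      by_contra hcon
      push Not at hcon
      exact hv (Prod.ext hcon.1 hcon.2)
  rw [Finset.sum_congr rfl fun v _ => this v, Finset.sum_sub_distrib, Finset.sum_ite_eq' Finset.univ ((0 : E), (0 : E)),
    if_pos (Finset.mem_univ _), Finset.sum_const, Finset.card_univ, Fintype.card_prod, h8, nsmul_eq_mul]
  push_cast
  linear_combination (31 * k) * h20

/-- two functions with constant complementary values -/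
theorem const_false [DecidableEq E] [CharP E 2] (h8 : Fintype.card E = 8) {A B : E → E → E} (hA : ∑ v : E × E, A v.1 v.2 = 0)
    (hB : ∑ v : E × E, B v.1 v.2 = 0) (hA0 : A 0 0 = 0) (hB0 : B 0 0 = 0)
    (h1 : ∀ p' q' : E, q' ≠ 0 → A 1 0 + B p' q' = 1) (h2 : ∀ p' q' : E, p' ≠ 0 → A 0 1 + B p' q' = 1)
    (h3 : ∀ p q : E, q ≠ 0 → A p q + B 1 0 = 1) (h4 : ∀ p q : E, p ≠ 0 → A p q + B 0 1 = 1) : False := by
  have h20 := two_eq_zero E
  have e1 : ∀ x y : E, (x ≠ 0 ∨ y ≠ 0) → B x y = 1 - A 1 0 := by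
    intro x y hxy
    have k1 := h1 1 1 one_ne_zero
    have k2 := h2 1 1 one_ne_zero
    rcases hxy with h | h
    · have := h2 x y h
      linear_combination this + k1 - k2
    · have := h1 x y h
      linear_combination this
  have e2 : ∀ x y : E, (x ≠ 0 ∨ y ≠ 0) → A x y = 1 - B 1 0 := by
    intro x y hxy
    have k1 := h3 1 1 one_ne_zero
    have k2 := h4 1 1 one_ne_zero
    rcases hxy with h | h
    · have := h4 x y h
      linear_combination this + k1 - k2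
    · have := h3 x y h
      linear_combination this
  have s1 := sum_const h8 B hB0 _ e1
  have s2 := sum_const h8 A hA0 _ e2
  rw [hB] at s1
  rw [hA] at s2
  have k3 := e1 1 0 (Or.inl one_ne_zero)
  have : (1 : E) = 0 := by linear_combination k3 - s1 - s2
  exact one_ne_zero this

/-- `M = 1` is impossible -/
theorem cond_one [CharP E 2] (h8 : Fintype.card E = 8) {c1 : E} {A B : E → E → E}
    (hA : ∑ v : E × E, A v.1 v.2 = 0) (hB : ∑ v : E × E, B v.1 v.2 = 0) (hA0 : A 0 0 = 0) (hB0 : B 0 0 = 0)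
    (h : Cond c1 1 A B) : False := by
  classical
  have key : ∀ p q p' q' : E, p * q' - q * p' ≠ 0 → A p q + B p' q' = 1 := by
    intro p q p' q' hΔ
    refine h p q p' q' hΔ (Or.inl ?_)
    rw [ent_one_00, ent_one_01, ent_one_10, ent_one_11]
    ring
  refine const_false h8 hA hB hA0 hB0 (fun p' q' hq => ?_) (fun p' q' hp => ?_) (fun p q hq => ?_) (fun p q hp => ?_)
  · exact key 1 0 p' q' (by simpa using hq)
  · exact key 0 1 p' q' (by simpa using hp)
  · exact key p q 1 0 (by simpa using hq)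
  · exact key p q 0 1 (by simpa using hp)

/-- `M` an involution is impossible -/
theorem cond_inv [CharP E 2] (h8 : Fintype.card E = 8) {c1 : E} (hc1 : c1 ≠ 1) {A B : E → E → E}
    (hA : ∑ v : E × E, A v.1 v.2 = 0) (hB : ∑ v : E × E, B v.1 v.2 = 0) (hA0 : A 0 0 = 0) (hB0 : B 0 0 = 0)
    (hAt : ∀ t x y : E, t ≠ 0 → A (t * x) (t * y) = A x y) (hBt : ∀ t x y : E, t ≠ 0 → B (t * x) (t * y) = B x y)
    (h : Cond c1 (comp E 0) A B) : False := by
  classical
  have h20 := two_eq_zero E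
  -- the sum of a function constant off the diagonal
  have hsum : ∀ (f : E → E → E) (a b : E), f 0 0 = 0 → (∀ t : E, t ≠ 0 → f t t = a) → (∀ x y : E, x ≠ y → f x y = b) →
      ∑ v : E × E, f v.1 v.2 = a := by
    intro f a b h0 h1 h2
    have e : ∀ v : E × E, f v.1 v.2 = b + (if v.1 = v.2 then a - b else 0) - (if v = (0, 0) then a else 0) := by
      rintro ⟨x, y⟩
      by_cases hxy : x = y
      · subst hxy
        by_cases hx : x = 0
        · subst hx
          simp [h0]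
        · have hne : ¬ ((x, x) = ((0 : E), (0 : E))) := fun hh => hx (congrArg Prod.fst hh)
          simp [h1 x hx, hx]
      · have hne : ¬ ((x, y) = ((0 : E), (0 : E))) := fun hh => hxy (by
          rw [show x = 0 from congrArg Prod.fst hh, show y = 0 from congrArg Prod.snd hh])
        rw [if_neg hne, if_neg hxy, h2 x y hxy]
        ring
    rw [Finset.sum_congr rfl fun v _ => e v, Finset.sum_sub_distrib, Finset.sum_add_distrib,
      Finset.sum_ite_eq' Finset.univ ((0 : E), (0 : E)), if_pos (Finset.mem_univ _), Finset.sum_const, Finset.card_univ,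
      Fintype.card_prod, h8, nsmul_eq_mul, Fintype.sum_prod_type]
    have e2 : ∀ x : E, ∑ y : E, (if (x, y).1 = (x, y).2 then a - b else 0) = a - b := by
      intro x
      rw [Finset.sum_ite_eq Finset.univ x, if_pos (Finset.mem_univ _)]
    rw [Finset.sum_congr rfl fun x _ => e2 x, Finset.sum_const, Finset.card_univ, h8, nsmul_eq_mul]
    push_cast
    linear_combination (28 * b + 3 * a) * h20
  have key : ∀ p q p' q' : E, p * q' - q * p' ≠ 0 → (p + q) * (p' + q') = 0 → A p q + B p' q' = 1 := by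
    intro p q p' q' hΔ h0
    refine h p q p' q' hΔ (Or.inl ?_)
    unfold comp
    rw [mk_00, mk_01, mk_10, mk_11]
    linear_combination h0 - (p * q' + p * p') * h20
  have eA : ∀ x y : E, x ≠ y → A x y = 1 - B 1 1 := by
    intro x y hxy
    have := key x y 1 1 (by
      intro h0
      exact hxy (by linear_combination h0)) (by linear_combination (x + y) * h20)
    linear_combination this
  have eB : ∀ x y : E, x ≠ y → B x y = 1 - A 1 1 := by
    intro x y hxy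
    have := key 1 1 x y (by
      intro h0
      exact hxy (by linear_combination -h0)) (by linear_combination (x + y) * h20)
    linear_combination this
  have s1 := hsum A (A 1 1) (1 - B 1 1) hA0 (fun t ht => by
    have := hAt t 1 1 ht
    rwa [mul_one] at this) eA
  have s2 := hsum B (B 1 1) (1 - A 1 1) hB0 (fun t ht => by
    have := hBt t 1 1 ht
    rwa [mul_one] at this) eB
  rw [hA] at s1
  rw [hB] at s2
  -- another pair
  have k := h 1 0 c1 1 (by simp) (Or.inr (Or.inl (by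
    unfold comp
    rw [mk_00, mk_01, mk_10, mk_11]
    linear_combination -c1 * h20)))
  have k1 := eA 1 0 one_ne_zero
  have k2 := eB c1 1 hc1
  have : (1 : E) = 0 := by linear_combination -k + k1 + k2 + s1 + s2 + h20
  exact one_ne_zero this

/-- `M` irreducible is impossible -/
theorem cond_irr [CharP E 2] (h8 : Fintype.card E = 8) {c1 T : E} (hT : ∀ x : E, x ^ 2 + T * x + 1 ≠ 0) {A B : E → E → E}
    (hA : ∑ v : E × E, A v.1 v.2 = 0) (hB : ∑ v : E × E, B v.1 v.2 = 0) (hA0 : A 0 0 = 0) (hB0 : B 0 0 = 0)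
    (h : Cond c1 (comp E T) A B) : False := by
  classical
  have h20 := two_eq_zero E
  have hT0 : T ≠ 0 := tau_ne hT
  -- the bijection
  let φ : E × E → E × E := fun v => (v.1 + v.2, v.1 + (T + 1) * v.2)
  have hφ : Function.Bijective φ := by
    rw [← Finite.injective_iff_bijective]
    rintro ⟨x, y⟩ ⟨x', y'⟩ hh
    have h1 : x + y = x' + y' := congrArg Prod.fst hh
    have h2 : x + (T + 1) * y = x' + (T + 1) * y' := congrArg Prod.snd hh
    have h3 : T * (y - y') = 0 := by linear_combination h2 - h1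
    have h4 := sub_eq_zero.1 ((mul_eq_zero.1 h3).resolve_left hT0)
    have h5 : x = x' := by linear_combination h1 - h4
    rw [h4, h5]
  have hform : ∀ p q : E, (p ≠ 0 ∨ q ≠ 0) → p ^ 2 + T * p * q + q ^ 2 ≠ 0 := by
    intro p q hpq h0
    by_cases hq : q = 0
    · rw [hq] at h0
      rcases hpq with hp | hq'
      · exact hp (pow_eq_zero_iff (n := 2) (by norm_num) |>.1 (by linear_combination h0))
      · exact hq' hq
    · apply hT (p / q)
      field_simp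
      linear_combination h0
  have key : ∀ p q : E, (p ≠ 0 ∨ q ≠ 0) → A p q + B (φ (p, q)).1 (φ (p, q)).2 = 1 := by
    intro p q hpq
    refine h p q _ _ ?_ (Or.inl ?_)
    · change p * (p + (T + 1) * q) - q * (p + q) ≠ 0
      intro h0
      apply hform p q hpq
      linear_combination h0 + q ^ 2 * h20
    · change (p * ent (comp E T) 0 0 + q * ent (comp E T) 1 0) * (p + (T + 1) * q) -
        (p * ent (comp E T) 0 1 + q * ent (comp E T) 1 1) * (p + q) = p * (p + (T + 1) * q) - q * (p + q)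
      unfold comp
      rw [mk_00, mk_01, mk_10, mk_11]
      linear_combination (q ^ 2 - p ^ 2 - p * q * T) * h20
  have e : ∀ v : E × E, A v.1 v.2 + B (φ v).1 (φ v).2 = 1 - (if v = (0, 0) then 1 else 0) := by
    rintro ⟨x, y⟩
    by_cases hv : (x, y) = ((0 : E), (0 : E))
    · rw [if_pos hv]
      rw [Prod.mk.injEq] at hv
      obtain ⟨rfl, rfl⟩ := hv
      change A 0 0 + B (0 + 0) (0 + (T + 1) * 0) = 1 - 1
      rw [mul_zero, add_zero, hA0, hB0]
      ring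
    · rw [if_neg hv, sub_zero]
      apply key
      by_contra hcon
      push Not at hcon
      exact hv (Prod.ext hcon.1 hcon.2)
  have s : ∑ v : E × E, (A v.1 v.2 + B (φ v).1 (φ v).2) = 1 := by
    rw [Finset.sum_congr rfl fun v _ => e v, Finset.sum_sub_distrib, Finset.sum_ite_eq' Finset.univ ((0 : E), (0 : E)),
      if_pos (Finset.mem_univ _), Finset.sum_const, Finset.card_univ, Fintype.card_prod, h8, nsmul_eq_mul]
    push_cast
    linear_combination 31 * h20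
  rw [Finset.sum_add_distrib, hA, zero_add] at s
  have s2 : ∑ v : E × E, B (φ v).1 (φ v).2 = ∑ v : E × E, B v.1 v.2 :=
    hφ.sum_comp fun v : E × E => B v.1 v.2
  rw [s2, hB] at s
  exact zero_ne_one s

/-- `M` diagonal with eigenvalue `c1` is impossible -/
theorem cond_diag_bad [CharP E 2] (h8 : Fintype.card E = 8) {c1 l : E} (hl : l ≠ 0) (hl1 : l = c1 ∨ l * c1 = 1)
    {A B : E → E → E}
    (hA : ∑ v : E × E, A v.1 v.2 = 0) (hB : ∑ v : E × E, B v.1 v.2 = 0) (hA0 : A 0 0 = 0) (hB0 : B 0 0 = 0)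
    (h : Cond c1 (dg l hl) A B) : False := by
  classical
  have hll : l * l⁻¹ = 1 := mul_inv_cancel₀ hl
  have key : ∀ p q p' q' : E, p * q' - q * p' ≠ 0 → (l * p * q' - l⁻¹ * q * p' = l * (p * q' - q * p') ∨
      l * p * q' - l⁻¹ * q * p' = l⁻¹ * (p * q' - q * p')) → A p q + B p' q' = 1 := by
    intro p q p' q' hΔ h0
    refine h p q p' q' hΔ (Or.inr ?_)
    rw [dg_00, dg_01, dg_10, dg_11]
    rcases hl1 with h1 | h1
    · subst h1
      rcases h0 with h0 | h0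
      · left; linear_combination h0
      · right; linear_combination l * h0 + (p * q' - q * p') * hll
    · have h2 : l⁻¹ = c1 := (eq_inv_of_mul_eq_one_right h1).symm
      rw [h2] at h0 ⊢
      rcases h0 with h0 | h0
      · right; linear_combination c1 * h0 + (p * q' - q * p') * h1
      · left; linear_combination h0
  refine const_false h8 hA hB hA0 hB0 (fun p' q' hq => ?_) (fun p' q' hp => ?_) (fun p q hq => ?_) (fun p q hp => ?_)
  · exact key 1 0 p' q' (by simpa using hq) (Or.inl (by ring))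
  · exact key 0 1 p' q' (by simpa using hp) (Or.inr (by ring))
  · exact key p q 1 0 (by simpa using hq) (Or.inr (by ring))
  · exact key p q 0 1 (by simpa using hp) (Or.inl (by ring))

/-- `M` diagonal: the forms are constant on the torus orbit -/
theorem cond_diag [CharP E 2] (h8 : Fintype.card E = 8) {c1 l : E} (hl : l ≠ 0) (hl1 : l ≠ 1) (hc1 : c1 ≠ 1)
    (hlc : l ≠ c1) (hlc' : l * c1 ≠ 1) {A B : E → E → E} (h : Cond c1 (dg l hl) A B) :
    ∀ x : E, x ≠ 0 → B 1 x = B 1 1 ∧ A 1 x = 1 - B 1 1 := by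
  classical
  have h20 := two_eq_zero E
  have hll : l * l⁻¹ = 1 := mul_inv_cancel₀ hl
  have hli : l⁻¹ ≠ 0 := inv_ne_zero hl
  have hl2 : l⁻¹ - l ≠ 0 := by
    intro h0
    apply hl1
    have : (l - 1) ^ 2 = 0 := by linear_combination -l * h0 + hll + (1 - l) * h20
    exact sub_eq_zero.1 (pow_eq_zero_iff (by norm_num) |>.1 this)
  have hlc2 : l - c1 ≠ 0 := sub_ne_zero.2 hlc
  obtain ⟨μ, hμ⟩ : ∃ μ, μ = (l⁻¹ - c1) / (l - c1) := ⟨_, rfl⟩
  have hμ' : (l - c1) * μ = l⁻¹ - c1 := by rw [hμ, mul_div_cancel₀ _ hlc2]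
  have hμ0 : μ ≠ 0 := by
    rw [hμ]
    refine div_ne_zero (fun h0 => hlc' ?_) hlc2
    linear_combination (-l) * h0 + hll
  have hμ1 : μ ≠ 1 := by
    intro h0
    rw [h0] at hμ'
    apply hl2
    linear_combination -hμ'
  have k1 : ∀ x : E, x ≠ 0 → A 1 x + B 1 (l⁻¹ * x) = 1 := by
    intro x hx
    refine h 1 x 1 (l⁻¹ * x) ?_ (Or.inl ?_)
    · intro h0
      have : (l⁻¹ - 1) * x = 0 := by linear_combination h0
      have h2 := (mul_eq_zero.1 this).resolve_right hx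
      exact hl1 (by linear_combination (-l) * h2 + hll)
    · rw [dg_00, dg_01, dg_10, dg_11]
      linear_combination x * hll + (x - x * l⁻¹) * h20
  have k2 : ∀ x : E, x ≠ 0 → A 1 x + B 1 (μ * x) = 1 := by
    intro x hx
    refine h 1 x 1 (μ * x) ?_ (Or.inr (Or.inl ?_))
    · intro h0
      have : (μ - 1) * x = 0 := by linear_combination h0
      exact hμ1 (sub_eq_zero.1 ((mul_eq_zero.1 this).resolve_right hx))
    · rw [dg_00, dg_01, dg_10, dg_11]
      linear_combination x * hμ'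
  obtain ⟨ρ, hρ⟩ : ∃ ρ, ρ = μ * l := ⟨_, rfl⟩
  have hρ0 : ρ ≠ 0 := by rw [hρ]; exact mul_ne_zero hμ0 hl
  have hρ1 : ρ ≠ 1 := by
    intro h0
    rw [hρ] at h0
    have h2 : (1 + c1) * (1 - l) = 0 := by linear_combination l * hμ' - (l - c1) * h0 + hll - l * c1 * h20 + c1 * h20 + (1 - l) * h20
    rcases mul_eq_zero.1 h2 with h3 | h3
    · exact hc1 (by linear_combination h3 - h20)
    · exact hl1 (by linear_combination -h3)
  have k3 : ∀ x : E, x ≠ 0 → B 1 (ρ * x) = B 1 x := by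
    intro x hx
    have e1 := k1 (l * x) (mul_ne_zero hl hx)
    have e2 := k2 (l * x) (mul_ne_zero hl hx)
    rw [← mul_assoc, inv_mul_cancel₀ hl, one_mul] at e1
    rw [← mul_assoc, ← hρ] at e2
    linear_combination e2 - e1
  have k4 : ∀ n : ℕ, B 1 (ρ ^ n) = B 1 1 := by
    intro n
    induction n with
    | zero => rw [pow_zero]
    | succ n ih => rw [pow_succ', k3 _ (pow_ne_zero n hρ0), ih]
  -- `ρ` generates
  have hgen : ∀ x : E, x ≠ 0 → ∃ n : ℕ, ρ ^ n = x := by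
    intro x hx
    have hcard : Nat.card Eˣ = 7 := by rw [Nat.card_units, Nat.card_eq_fintype_card, h8]
    have : Fact (Nat.Prime 7) := ⟨by norm_num⟩
    have hne : Units.mk0 ρ hρ0 ≠ 1 := fun h0 => hρ1 (by
      have := congrArg Units.val h0
      simpa using this)
    obtain ⟨n, hn⟩ := (Submonoid.mem_powers_iff _ _).1 (mem_powers_of_prime_card hcard hne (g' := Units.mk0 x hx))
    refine ⟨n, ?_⟩
    have := congrArg Units.val hn
    simpa using this
  have k5 : ∀ x : E, x ≠ 0 → B 1 x = B 1 1 := by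
    intro x hx
    obtain ⟨n, rfl⟩ := hgen x hx
    exact k4 n
  intro x hx
  refine ⟨k5 x hx, ?_⟩
  have := k1 x hx
  rw [k5 _ (mul_ne_zero hli hx)] at this
  linear_combination this

end Cfsg.Agent.H148.Hex
end

-- part: H148/D42
section
/-!
# Thompson's conjecture for `³D₄(2)`: reduction to the subgroup generated by the long root groups (helper148)
-/

set_option autoImplicit false

namespace Cfsg.Agent.H148.Hex

open Cfsg.Agent.SplitTwo Cfsg.Agent.TitsThree.RankTwoZ Cfsg.Agent.Lib.SL2Mat Cfsg.Agent.Cit.HexBase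
  Cfsg.Agent.Cit.HexBase.HexGrp Cfsg.Agent.H148.SLTwo

universe u

variable {E : Type*} [Field E] {σ : E ≃+* E} {L : Type u} [Group L] {c : HexGrp σ L}

theorem fix_cases (hσ : ∀ x, σ x = x ^ 2) {x : E} (hx : σ x = x) : x = 0 ∨ x = 1 := by
  rw [hσ] at hx
  have : x * (x - 1) = 0 := by linear_combination hx
  rcases mul_eq_zero.1 this with h | h
  · exact Or.inl h
  · exact Or.inr (sub_eq_zero.1 h)

theorem cf_fix (hc : ∀ a : E, σ (σ (σ a)) = a) {b2 b3 b5 b6 : E} (h2 : σ b2 = b2) (h6 : σ b6 = b6) (x y : E) :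
    σ (cf σ b2 b3 b5 b6 x y) = cf σ b2 b3 b5 b6 x y := by
  unfold cf nrm trc shp
  simp only [map_add, map_mul, hc, h2, h6]
  ring

theorem r_one (hσ : ∀ x, σ x = x ^ 2) {r : ↥(fx σ)} (hr : r ≠ 0) : r = 1 := by
  rcases fix_cases hσ r.2 with h | h
  · exact absurd (Subtype.ext h) hr
  · exact Subtype.ext h

variable [Fintype E]

theorem coef_zero [CharP E 2] (hσ : ∀ x, σ x = x ^ 2) (h8 : Fintype.card E = 8) {b2 b3 b5 b6 k : E}
    (h : ∀ x : E, x ≠ 0 → cf σ b2 b3 b5 b6 1 x = k) : b3 = 0 ∧ b5 = 0 := by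
  classical
  obtain ⟨P, hP⟩ : ∃ P : Polynomial E, P = Polynomial.C b3 * Polynomial.X ^ 6 +
    Polynomial.C (b3 ^ 2) * Polynomial.X ^ 5 + Polynomial.C (b5 ^ 4) * Polynomial.X ^ 4 +
    Polynomial.C (b3 ^ 4) * Polynomial.X ^ 3 + Polynomial.C (b5 ^ 2) * Polynomial.X ^ 2 +
    Polynomial.C b5 * Polynomial.X ^ 1 + Polynomial.C (b2 + b6 - k) * Polynomial.X ^ 0 := ⟨_, rfl⟩
  have h7 : ∀ x : E, x ≠ 0 → x ^ 7 = 1 := by
    intro x hx
    have := FiniteField.pow_card_sub_one_eq_one x hx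
    rwa [h8] at this
  have hev : ∀ x ∈ Finset.univ.erase (0 : E), P.eval x = 0 := by
    intro x hx
    have hx0 : x ≠ 0 := (Finset.mem_erase.1 hx).1
    have e1 := h x hx0
    have e7 := h7 x hx0
    rw [hP]
    simp only [Polynomial.eval_add, Polynomial.eval_mul, Polynomial.eval_C, Polynomial.eval_pow, Polynomial.eval_X]
    unfold cf nrm trc shp at e1
    simp only [hσ] at e1
    linear_combination e1 - (b2 + b3 ^ 2 * x ^ 5 + b3 ^ 4 * x ^ 3 * (x ^ 14 + x ^ 7 + 1)) * e7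
  have hdeg : P.natDegree < (Finset.univ.erase (0 : E)).card := by
    rw [Finset.card_erase_of_mem (Finset.mem_univ _), Finset.card_univ, h8, hP]
    refine lt_of_le_of_lt (b := 6) ?_ (by norm_num)
    compute_degree!
  have h0 := Polynomial.eq_zero_of_natDegree_lt_card_of_eval_eq_zero' P _ hev hdeg
  constructor
  · have := congrArg (fun Q => Polynomial.coeff Q 6) h0
    rw [hP] at this
    simp only [Polynomial.coeff_add, Polynomial.coeff_C_mul, Polynomial.coeff_X_pow, Polynomial.coeff_zero] at this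
    norm_num at this
    exact this
  · have := congrArg (fun Q => Polynomial.coeff Q 1) h0
    rw [hP] at this
    simp only [Polynomial.coeff_add, Polynomial.coeff_C_mul, Polynomial.coeff_X_pow, Polynomial.coeff_zero] at this
    norm_num at this
    exact this

variable [Finite L] [CharP E 2] [CharP ↥(fx σ) 2] {τ : ↥(fx σ)} {s0 : L} {c1 : E}

/-- bad elements satisfy the combinatorial condition -/
theorem cond_of_bad (D : Dat c τ s0 c1) (hσ : ∀ x, σ x = x ^ 2) {g : L}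
    (hg : ¬ Pr (c.pa (comp ↥(fx σ) τ) * s0) g) {q' q : L} {M : SL2 E}
    (hF : FA c g q' M 1 one_ne_zero q) {a2 a3 a5 a6 b2 b3 b5 b6 : E}
    (ha : c.NF (c.n1⁻¹ * (c.n4⁻¹ * q' * c.n4) * c.n1) a2 a3 a5 a6) (hb : c.NF (c.n1⁻¹ * q * c.n1) b2 b3 b5 b6) :
    Cond c1 M (cf σ a2 a3 a5 a6) (cf σ b2 b3 b5 b6) := by
  intro p q0 p' q0' hΔ hs
  have hF1 : FA c (1 * g * 1⁻¹) q' M 1 one_ne_zero q := by
    rw [inv_one, mul_one, one_mul]
    exact hF
  have h20 := two_eq_zero E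
  have h := bad_hom D hg hF1 ha hb p q0 p' q0' hΔ (by
    have : ((1 : ↥(fx σ)) : E) = 1 := rfl
    rw [this, one_mul]
    exact hs)
  have e1 : ((1 : ↥(fx σ)) : E) = 1 := rfl
  rw [e1, inv_one, one_mul] at h
  obtain ⟨h1, h2⟩ := h
  have hA := fix_cases hσ (cf_fix c.cube ha.1 ha.2.1 (b3 := a3) (b5 := a5) p q0)
  have hB := fix_cases hσ (cf_fix c.cube hb.1 hb.2.1 (b3 := b3) (b5 := b5) p' q0')
  rcases hA with hA | hA <;> rcases hB with hB | hB
  · exact absurd ⟨rfl, hA, hB⟩ h2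
  · rw [hA, hB, zero_add]
  · rw [hA, hB, add_zero]
  · rw [hA, hB] at h1
    exfalso
    exact one_ne_zero (α := E) (by linear_combination h1 - h20)

omit [Fintype E] [Finite L] [CharP E 2] [CharP ↥(fx σ) 2] in
theorem exists_ab {q' q : L} (hq' : q' ∈ Sg c.X Qa') (hq : q ∈ Sg c.X Qa) :
    (∃ a2 a3 a5 a6, c.NF (c.n1⁻¹ * (c.n4⁻¹ * q' * c.n4) * c.n1) a2 a3 a5 a6) ∧
      ∃ b2 b3 b5 b6, c.NF (c.n1⁻¹ * q * c.n1) b2 b3 b5 b6 := by
  have hinv : Maps c.X c.n1⁻¹ (fun k => 8 - k) := c.maps_n1.inv fun k => by ring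
  constructor
  · refine c.exists_NF ?_
    have := conj_Sg hinv (s := Qa) (t := Qa) (by decide +kernel) (n4_inv_mem hq')
    rwa [inv_inv] at this
  · refine c.exists_NF ?_
    have := conj_Sg hinv (s := Qa) (t := Qa) (by decide +kernel) hq
    rwa [inv_inv] at this

omit [Fintype E] [Finite L] [CharP E 2] [CharP ↥(fx σ) 2] in
theorem NF_even {g : L} {b2 b6 : E} (h : c.NF g b2 0 0 b6) : ∃ x2 ∈ c.X 2, ∃ x4 ∈ c.X 4, ∃ x6 ∈ c.X 6, g = x2 * x4 * x6 := by
  obtain ⟨f2, f6, b4, f4, rfl⟩ := h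
  rw [c.x3_zero, c.x5_zero, mul_one, mul_one]
  exact ⟨_, c.mem2 f2, _, c.mem4 f4, _, c.mem6 f6, rfl⟩

omit [Fintype E] [Finite L] [CharP E 2] [CharP ↥(fx σ) 2] in
theorem NF_even_n1 {g : L} {b2 b6 : E} (h : c.NF (c.n1⁻¹ * g * c.n1) b2 0 0 b6) : c.NF g (-b6) 0 0 b2 := by
  obtain ⟨f2, f6, b4, f4, e⟩ := h
  rw [c.x3_zero, c.x5_zero, mul_one, mul_one] at e
  have e1 := c.n1_x2 b2 f2
  have e2 := n1_x4 (c := c) f4
  have e3 := c.n1_x6 b6 f6
  have e4 : g = c.x6 b2 * c.x4 b4 * c.x2 (-b6) := by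
    rw [← e1, ← e2, ← e3]
    calc g = c.n1 * (c.n1⁻¹ * g * c.n1) * c.n1⁻¹ := by group
      _ = _ := by rw [e]; group
  rw [e4]
  exact (((c.nf6 f2).mul (c.nf4 f4)).mul (c.nf2 (neg_fix f6))).congr rfl (by ring) (by ring) (by ring) (by ring)

/-- a bad element is conjugate to an element of the shape `q' * pb (dg l) * q`, with `q'`, `q` products of elements of
long root groups -/
theorem exists_shape (D : Dat c τ s0 c1) (hσ : ∀ x, σ x = x ^ 2) (h8 : Fintype.card E = 8) {g : L}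
    (hg : ¬ Pr (c.pa (comp ↥(fx σ) τ) * s0) g) {q' q : L} {M : SL2 E}
    (hF : FA c g q' M 1 one_ne_zero q) :
    ∃ y : L, ∃ x8 ∈ c.X 8, ∃ x10 ∈ c.X 10, ∃ x0 ∈ c.X 0, ∃ x2 ∈ c.X 2, ∃ x4 ∈ c.X 4, ∃ x6 ∈ c.X 6,
      ∃ l : E, ∃ hl : l ≠ 0, l ≠ 1 ∧
      y * g * y⁻¹ = (x8 * x10 * x0) * c.pb (dg l hl) * (x2 * x4 * x6) := by
  have h20 := two_eq_zero E
  -- the condition for all conjugate frames
  have hcond : ∀ m : SL2 E, ∀ N, m * M * m⁻¹ = N → ∃ a2 a3 a5 a6 b2 b3 b5 b6,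
      Cond c1 N (cf σ a2 a3 a5 a6) (cf σ b2 b3 b5 b6) ∧
      c.NF (c.n1⁻¹ * (c.n4⁻¹ * (c.pb m * q' * (c.pb m)⁻¹) * c.n4) * c.n1) a2 a3 a5 a6 ∧
      c.NF (c.n1⁻¹ * (c.pb m * q * (c.pb m)⁻¹) * c.n1) b2 b3 b5 b6 ∧
      c.pb m * g * (c.pb m)⁻¹ = (c.pb m * q' * (c.pb m)⁻¹) * c.pb N * (c.pb m * q * (c.pb m)⁻¹) := by
    intro m N hN
    have hF' : FA c (c.pb m * g * (c.pb m)⁻¹) (c.pb m * q' * (c.pb m)⁻¹) (m * M * m⁻¹) 1 one_ne_zero
        (c.pb m * q * (c.pb m)⁻¹) := by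
      have h1 := hF.conj_pb m
      have : ∀ (y : SL2 E) (h : ((1 : ↥(fx σ)) : E)⁻¹ ≠ 0), conjGL (dgl ((1 : ↥(fx σ)) : E)⁻¹ h) y = y := by
        intro y h
        rw [conjGL_dgl_ent]
        refine ext_ent ?_ ?_ ?_ ?_ <;> simp
      rwa [this] at h1
    rw [hN] at hF'
    obtain ⟨⟨a2, a3, a5, a6, ha⟩, b2, b3, b5, b6, hb⟩ := exists_ab hF'.1 hF'.2.1
    refine ⟨a2, a3, a5, a6, b2, b3, b5, b6, cond_of_bad D hσ (fun h => hg (Pr.of_conj _ h)) hF' ha hb, ha, hb, ?_⟩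
    have := hF'.2.2
    rwa [dg_one', map_one, mul_one] at this
  have hsm : ∀ (b2 b3 b5 b6 t x y : E), t ≠ 0 → cf σ b2 b3 b5 b6 (t * x) (t * y) = cf σ b2 b3 b5 b6 x y := by
    intro b2 b3 b5 b6 t x y ht
    rw [cf_smul _ _ _ _ _ _ _ c.cube, D.nrm1 t ht, one_mul]
  by_cases hM : ent M 0 1 = 0 ∧ ent M 1 0 = 0 ∧ ent M 0 0 = ent M 1 1
  · -- `M = 1`
    exfalso
    obtain ⟨e1, e2, e3⟩ := hM
    have hd := det_eq M
    rw [e1, ← e3] at hd
    have : (ent M 0 0 - 1) ^ 2 = 0 := by linear_combination hd + (1 - ent M 0 0) * h20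
    have h00 : ent M 0 0 = 1 := sub_eq_zero.1 (pow_eq_zero_iff (by norm_num) |>.1 this)
    have hM1 : M = 1 := by
      refine ext_ent ?_ ?_ ?_ ?_
      · rw [h00, ent_one_00]
      · rw [e1, ent_one_01]
      · rw [e2, ent_one_10]
      · rw [← e3, h00, ent_one_11]
    obtain ⟨a2, a3, a5, a6, b2, b3, b5, b6, hC, -, -, -⟩ := hcond 1 1 (by rw [hM1]; group)
    exact cond_one h8 (sum_cf σ h8 _ _ _ _) (sum_cf σ h8 _ _ _ _) (cf_zero σ _ _ _ _) (cf_zero σ _ _ _ _) hC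
  · obtain ⟨y, hy⟩ := exists_comp M hM
    by_cases hirr : ∀ x : E, x ^ 2 + tr M * x + 1 ≠ 0
    · exfalso
      obtain ⟨a2, a3, a5, a6, b2, b3, b5, b6, hC, -, -, -⟩ := hcond y _ hy
      exact cond_irr h8 hirr (sum_cf σ h8 _ _ _ _) (sum_cf σ h8 _ _ _ _) (cf_zero σ _ _ _ _) (cf_zero σ _ _ _ _) hC
    push Not at hirr
    obtain ⟨l, hl⟩ := hirr
    have hl0 : l ≠ 0 := by
      intro h0
      rw [h0] at hl
      simp at hl
    have htr : tr M = l + l⁻¹ := by
      field_simp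
      linear_combination hl - (l ^ 2 + 1) * h20
    by_cases hl1 : l = 1
    · exfalso
      have ht0 : tr M = 0 := by
        rw [htr, hl1, inv_one]
        linear_combination h20
      rw [ht0] at hy
      obtain ⟨a2, a3, a5, a6, b2, b3, b5, b6, hC, -, -, -⟩ := hcond y _ hy
      exact cond_inv h8 D.ne1 (sum_cf σ h8 _ _ _ _) (sum_cf σ h8 _ _ _ _) (cf_zero σ _ _ _ _) (cf_zero σ _ _ _ _)
        (hsm _ _ _ _) (hsm _ _ _ _) hC
    · have hll : l ≠ l⁻¹ := by
        intro h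
        apply hl1
        have h3 : l * l = 1 := by
          nth_rewrite 2 [h]
          exact mul_inv_cancel₀ hl0
        have : (l - 1) ^ 2 = 0 := by linear_combination h3 + (1 - l) * h20
        exact sub_eq_zero.1 (pow_eq_zero_iff (by norm_num) |>.1 this)
      obtain ⟨z, hz⟩ := exists_diag M l hl0 hll htr
      obtain ⟨a2, a3, a5, a6, b2, b3, b5, b6, hC, ha, hb, hg'⟩ := hcond z _ hz
      by_cases hlc : l = c1 ∨ l * c1 = 1
      · exfalso
        exact cond_diag_bad h8 hl0 hlc (sum_cf σ h8 _ _ _ _) (sum_cf σ h8 _ _ _ _) (cf_zero σ _ _ _ _)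
          (cf_zero σ _ _ _ _) hC
      push Not at hlc
      have hcc := cond_diag h8 hl0 hl1 D.ne1 hlc.1 hlc.2 hC
      obtain ⟨rfl, rfl⟩ := coef_zero hσ h8 (fun x hx => (hcc x hx).1)
      obtain ⟨rfl, rfl⟩ := coef_zero hσ h8 (fun x hx => (hcc x hx).2)
      obtain ⟨x2, h2, x4, h4, x6, h6, eq⟩ := NF_even (NF_even_n1 hb)
      have ha2 := (NF_even_n1 ha).inv
      rw [neg_zero] at ha2
      obtain ⟨w2, k2, w4, k4, w6, k6, eq'⟩ := NF_even ha2
      refine ⟨c.pb z, c.n4 * w6⁻¹ * c.n4⁻¹, maps_mem c.maps_n4 (inv_mem k6) (by decide), c.n4 * w4⁻¹ * c.n4⁻¹,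
        maps_mem c.maps_n4 (inv_mem k4) (by decide), c.n4 * w2⁻¹ * c.n4⁻¹,
        maps_mem c.maps_n4 (inv_mem k2) (by decide), x2, h2, x4, h4, x6, h6, l, hl0, hl1, ?_⟩
      rw [hg', eq]
      congr 2
      have e5 : c.pb z * q' * (c.pb z)⁻¹ = c.n4 * (w2 * w4 * w6)⁻¹ * c.n4⁻¹ := by
        rw [← eq']
        group
      rw [e5]
      group

end Cfsg.Agent.H148.Hex
end

-- part: H148/D42End
section
/-!
# Thompson's conjecture for `³D₄(2)`: the subgroup generated by the long root groups (helper148)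
-/

set_option autoImplicit false

namespace Cfsg.Agent.H148.Hex

open Cfsg.Agent.SplitTwo Cfsg.Agent.TitsThree.RankTwoZ Cfsg.Agent.Lib.SL2Mat Cfsg.Agent.Cit.HexBase
  Cfsg.Agent.Cit.HexBase.HexGrp Cfsg.Agent.H148.SLTwo

universe u

/-! ### Six involutions satisfying the relations of `SL(3,2)` -/

section six

/-- the relations -/
structure Six {G : Type*} [Group G] (a0 a2 a4 a6 a8 a10 : G) : Prop where
  s0 : a0 * a0 = 1
  s2 : a2 * a2 = 1
  s4 : a4 * a4 = 1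
  s6 : a6 * a6 = 1
  s8 : a8 * a8 = 1
  s10 : a10 * a10 = 1
  c02 : a0 * a2 = a2 * a0
  c24 : a2 * a4 = a4 * a2
  c46 : a4 * a6 = a6 * a4
  c68 : a6 * a8 = a8 * a6
  c810 : a8 * a10 = a10 * a8
  c100 : a10 * a0 = a0 * a10
  r26 : a2 * a6 = a6 * a2 * a4
  r48 : a4 * a8 = a8 * a4 * a6
  r610 : a6 * a10 = a10 * a6 * a8
  r80 : a8 * a0 = a0 * a8 * a10
  r102 : a10 * a2 = a2 * a10 * a0
  r04 : a0 * a4 = a4 * a0 * a2

variable {G : Type*} [Group G] {a0 a2 a4 a6 a8 a10 : G}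

/-- conjugation of `a` by `b`, if `a b = b a c` -/
theorem conj_of {a b c : G} (h : a * b = b * a * c) : a * b * a⁻¹ = b * (a * c * a⁻¹) := by
  rw [h]
  group

theorem conj_self (a : G) : a * a * a⁻¹ = a := by group

theorem conj_comm {a b : G} (h : a * b = b * a) : a * b * a⁻¹ = b := by rw [h]; group

/-- `b a b⁻¹` -/
theorem conj_of' {a b c : G} (h : a * b = b * a * c) (hcc : c * c = 1) : b * a * b⁻¹ = a * (b * c * b⁻¹) := by
  have h1 : b * a = a * b * c := by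
    calc b * a = b * a * c * (c⁻¹) := by group
      _ = a * b * c⁻¹ := by rw [← h]
      _ = _ := by rw [inv_eq_of_mul_eq_one_right hcc]
  rw [h1]
  group

theorem conj_word (x b8 b10 b0 b2 b4 b6 : G) (i j k l m n : ℕ) :
    x * (b8 ^ i * b10 ^ j * b0 ^ k * b2 ^ l * b4 ^ m * b6 ^ n) * x⁻¹ =
      (x * b8 * x⁻¹) ^ i * (x * b10 * x⁻¹) ^ j * (x * b0 * x⁻¹) ^ k * (x * b2 * x⁻¹) ^ l * (x * b4 * x⁻¹) ^ m *
        (x * b6 * x⁻¹) ^ n := by
  simp only [conj_pow]
  group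

/-- the word -/
def wd (a0 a2 a4 a6 a8 a10 : G) (i j k l m n : ℕ) : G := a8 ^ i * a10 ^ j * a0 ^ k * a2 ^ l * a4 ^ m * a6 ^ n

variable (h : Six a0 a2 a4 a6 a8 a10)

include h

theorem step0 (i j k l m : ℕ) : a0 * wd a0 a2 a4 a6 a8 a10 i j k l m 0 * a0⁻¹ =
    wd a0 a2 a4 a6 a8 a10 i (i + j) k (l + m) m 0 := by
  have e8 : a0 * a8 * a0⁻¹ = a8 * a10 := by rw [conj_of' h.r80 h.s10, conj_comm h.c100.symm]
  have e10 := conj_comm h.c100.symm
  have e2 := conj_comm h.c02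
  have e4 : a0 * a4 * a0⁻¹ = a2 * a4 := by rw [conj_of h.r04, e2, h.c24]
  unfold wd
  rw [conj_word, e8, e10, conj_self, e2, e4, Commute.mul_pow h.c810, Commute.mul_pow h.c24, pow_zero, pow_zero, pow_add,
    pow_add]
  group

theorem step8 (i j k m n : ℕ) : a8 * wd a0 a2 a4 a6 a8 a10 i j k 0 m n * a8⁻¹ =
    wd a0 a2 a4 a6 a8 a10 i (j + k) k 0 m (m + n) := by
  have e10 := conj_comm h.c810
  have e0 : a8 * a0 * a8⁻¹ = a10 * a0 := by rw [conj_of h.r80, e10, h.c100]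
  have e6 := conj_comm h.c68.symm
  have e4 : a8 * a4 * a8⁻¹ = a4 * a6 := by rw [conj_of' h.r48 h.s6, e6]
  unfold wd
  rw [conj_word, conj_self, e10, e0, e4, e6, Commute.mul_pow h.c100, Commute.mul_pow h.c46, pow_zero, pow_zero, pow_add,
    pow_add]
  group

theorem step6 (i j l m n : ℕ) : a6 * wd a0 a2 a4 a6 a8 a10 i j 0 l m n * a6⁻¹ =
    wd a0 a2 a4 a6 a8 a10 (i + j) j 0 l (l + m) n := by
  have e8 := conj_comm h.c68
  have e10 : a6 * a10 * a6⁻¹ = a8 * a10 := by rw [conj_of h.r610, e8, h.c810]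
  have e4 := conj_comm h.c46.symm
  have e2 : a6 * a2 * a6⁻¹ = a2 * a4 := by rw [conj_of' h.r26 h.s4, e4]
  unfold wd
  rw [conj_word, conj_self, e8, e10, e2, e4, Commute.mul_pow h.c810, Commute.mul_pow h.c24, pow_zero, pow_zero, pow_add,
    pow_add]
  group

theorem step2 (j k l m n : ℕ) : a2 * wd a0 a2 a4 a6 a8 a10 0 j k l m n * a2⁻¹ =
    wd a0 a2 a4 a6 a8 a10 0 j (j + k) l (m + n) n := by
  have e0 := conj_comm h.c02.symm
  have e10 : a2 * a10 * a2⁻¹ = a10 * a0 := by rw [conj_of' h.r102 h.s0, e0]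
  have e4 := conj_comm h.c24
  have e6 : a2 * a6 * a2⁻¹ = a4 * a6 := by rw [conj_of h.r26, e4, h.c46]
  unfold wd
  rw [conj_word, conj_self, e0, e10, e6, e4, Commute.mul_pow h.c100, Commute.mul_pow h.c46, pow_zero, pow_zero, pow_add,
    pow_add]
  group

theorem pow_swap26 (l : ℕ) : a6 * a2 ^ l = a2 ^ l * a4 ^ l * a6 := by
  have e4 := conj_comm h.c46.symm
  have e2 : a6 * a2 * a6⁻¹ = a2 * a4 := by rw [conj_of' h.r26 h.s4, e4]
  have : a6 * a2 ^ l * a6⁻¹ = a2 ^ l * a4 ^ l := by rw [← conj_pow, e2, Commute.mul_pow h.c24]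
  rw [← this]
  group

theorem pow_swap08 (k : ℕ) : a0 ^ k * a8 = a8 * a10 ^ k * a0 ^ k := by
  have e10 := conj_comm h.c810
  have hi : a8⁻¹ = a8 := inv_eq_of_mul_eq_one_right h.s8
  have e0 : a8⁻¹ * a0 * a8⁻¹⁻¹ = a10 * a0 := by
    rw [hi, conj_of h.r80, e10, h.c100]
  have : a8⁻¹ * a0 ^ k * a8⁻¹⁻¹ = a10 ^ k * a0 ^ k := by rw [← conj_pow, e0, Commute.mul_pow h.c100]
  rw [inv_inv] at this
  calc a0 ^ k * a8 = a8 * (a8⁻¹ * a0 ^ k * a8) := by group
    _ = _ := by rw [this]; group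

/-- conjugation by `a4`, first case -/
theorem step4a (l m n : ℕ) : a4 * wd a0 a2 a4 a6 a8 a10 1 0 0 l m n * a4⁻¹ =
    wd a0 a2 a4 a6 a8 a10 1 0 0 l (l + m) (n + 1) := by
  have e6 := conj_comm h.c46
  have e8 : a4 * a8 * a4⁻¹ = a8 * a6 := by rw [conj_of h.r48, e6]
  have e2 := conj_comm h.c24.symm
  unfold wd
  rw [conj_word, e8, e2, conj_self, e6, pow_one, pow_one, pow_zero, pow_zero, pow_zero, pow_zero, mul_one, mul_one,
    mul_one, mul_one]
  have k1 := pow_swap26 h l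
  have k2 : a6 * a4 ^ m = a4 ^ m * a6 := (Commute.pow_right h.c46.symm m)
  calc a8 * a6 * a2 ^ l * a4 ^ m * a6 ^ n = a8 * (a6 * a2 ^ l) * a4 ^ m * a6 ^ n := by group
    _ = a8 * a2 ^ l * a4 ^ l * (a6 * a4 ^ m) * a6 ^ n := by rw [k1]; group
    _ = _ := by rw [k2, pow_add, pow_succ']; group

/-- conjugation by `a4`, second case -/
theorem step4b (k l m n : ℕ) : a4 * wd a0 a2 a4 a6 a8 a10 0 0 k l m n * a4⁻¹ =
    wd a0 a2 a4 a6 a8 a10 0 0 k (k + l) m n := by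
  have e6 := conj_comm h.c46
  have e2 := conj_comm h.c24.symm
  have e0 : a4 * a0 * a4⁻¹ = a0 * a2 := by rw [conj_of' h.r04 h.s2, e2]
  unfold wd
  rw [conj_word, e0, e2, conj_self, e6, Commute.mul_pow h.c02, pow_zero, pow_zero, pow_zero, pow_zero, pow_add]
  group

/-- conjugation by `a10`, first case -/
theorem step10a (i j k l : ℕ) : a10 * wd a0 a2 a4 a6 a8 a10 i j k l 0 0 * a10⁻¹ =
    wd a0 a2 a4 a6 a8 a10 i j (k + l) l 0 0 := by
  have e8 := conj_comm h.c810.symm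
  have e0 := conj_comm h.c100
  have e2 : a10 * a2 * a10⁻¹ = a0 * a2 := by rw [conj_of h.r102, e0, h.c02]
  unfold wd
  rw [conj_word, e8, e0, conj_self, e2, Commute.mul_pow h.c02, pow_zero, pow_zero, pow_zero, pow_zero, pow_add]
  group

/-- conjugation by `a10`, second case -/
theorem step10b (i j k : ℕ) : a10 * wd a0 a2 a4 a6 a8 a10 i j k 0 0 1 * a10⁻¹ =
    wd a0 a2 a4 a6 a8 a10 (i + 1) (j + k) k 0 0 1 := by
  have e8 := conj_comm h.c810.symm
  have e0 := conj_comm h.c100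
  have e6 : a10 * a6 * a10⁻¹ = a8 * a6 := by rw [conj_of' h.r610 h.s8, e8, h.c68]
  unfold wd
  rw [conj_word, e8, e0, conj_self, e6, pow_zero, pow_zero, pow_zero, pow_zero, mul_one, mul_one, mul_one, mul_one,
    pow_one, pow_one]
  have k1 := pow_swap08 h k
  have k2 : a10 ^ j * a8 = a8 * a10 ^ j := (Commute.pow_right h.c810 j).symm
  calc a8 ^ i * a10 ^ j * a0 ^ k * (a8 * a6) = a8 ^ i * a10 ^ j * (a0 ^ k * a8) * a6 := by group
    _ = a8 ^ i * (a10 ^ j * a8) * a10 ^ k * a0 ^ k * a6 := by rw [k1]; group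
    _ = _ := by rw [k2, pow_add, pow_succ]; group

end six

/-- the parity argument -/
theorem all_of_even {G : Type*} [Group G] {a0 a2 a4 a6 a8 a10 : G} (h : Six a0 a2 a4 a6 a8 a10) (P : G → Prop)
    (hP : ∀ x ∈ ({a0, a2, a4, a6, a8, a10} : Set G), ∀ g, P (x * g * x⁻¹) → P g)
    (heven : ∀ i j k l m n : ℕ, (i + k + l + n) % 2 = 0 → P (wd a0 a2 a4 a6 a8 a10 i j k l m n))
    (i j k l m n : ℕ) (hi : i ≤ 1) (hj : j ≤ 1) (hk : k ≤ 1) (hl : l ≤ 1) (hm : m ≤ 1) (hn : n ≤ 1) :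
    P (wd a0 a2 a4 a6 a8 a10 i j k l m n) := by
  by_cases hpar : (i + k + l + n) % 2 = 0
  · exact heven _ _ _ _ _ _ hpar
  by_cases h1 : (i + k) % 2 = 1
  · -- `i + k` odd
    by_cases hj0 : j = 0
    · subst hj0
      by_cases hi0 : i = 0
      · subst hi0
        refine hP a4 (by simp) _ ?_
        rw [step4b h]
        exact heven _ _ _ _ _ _ (by omega)
      · have hi1 : i = 1 := by omega
        have hk0 : k = 0 := by omega
        subst hi1 hk0
        refine hP a4 (by simp) _ ?_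
        rw [step4a h]
        exact heven _ _ _ _ _ _ (by omega)
    · have hj1 : j = 1 := by omega
      subst hj1
      by_cases hi0 : i = 0
      · subst hi0
        refine hP a2 (by simp) _ ?_
        rw [step2 h]
        exact heven _ _ _ _ _ _ (by omega)
      · have hk0 : k = 0 := by omega
        subst hk0
        refine hP a6 (by simp) _ ?_
        rw [step6 h]
        exact heven _ _ _ _ _ _ (by omega)
  · -- `l + n` odd
    by_cases hm0 : m = 0
    · subst hm0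
      by_cases hn0 : n = 0
      · subst hn0
        refine hP a10 (by simp) _ ?_
        rw [step10a h]
        exact heven _ _ _ _ _ _ (by omega)
      · have hn1 : n = 1 := by omega
        have hl0 : l = 0 := by omega
        subst hn1 hl0
        refine hP a10 (by simp) _ ?_
        rw [step10b h]
        exact heven _ _ _ _ _ _ (by omega)
    · have hm1 : m = 1 := by omega
      subst hm1
      by_cases hn0 : n = 0
      · subst hn0
        refine hP a0 (by simp) _ ?_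
        rw [step0 h]
        exact heven _ _ _ _ _ _ (by omega)
      · have hl0 : l = 0 := by omega
        subst hl0
        refine hP a8 (by simp) _ ?_
        rw [step8 h]
        exact heven _ _ _ _ _ _ (by omega)

/-! ### The long root groups -/

variable {E : Type*} [Field E] {σ : E ≃+* E} {L : Type u} [Group L] {c : HexGrp σ L}

/-- the nontrivial element of `X (2 + 2 r)` -/
def yy (c : HexGrp σ L) (r : ℕ) : L := (c.n1 * c.n6) ^ r * c.x2 1 * ((c.n1 * c.n6) ^ r)⁻¹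

theorem yy_mem (r : ℕ) : yy c r ∈ c.X (2 + 2 * r) := (c.maps_rot r _ _).2 (c.mem2 (map_one σ))

theorem yy_add (r s : ℕ) : yy c (r + s) = (c.n1 * c.n6) ^ r * yy c s * ((c.n1 * c.n6) ^ r)⁻¹ := by
  unfold yy
  rw [pow_add]
  group

theorem yy_ne (r : ℕ) : yy c r ≠ 1 := by
  intro h
  unfold yy at h
  rw [mul_inv_eq_one] at h
  have h1 : c.x2 1 = 1 := mul_eq_left.1 h
  rw [← c.x2_zero] at h1
  exact one_ne_zero (c.x2_inj (map_one σ) (map_zero σ) h1)

theorem yy_sq [CharP E 2] (r : ℕ) : yy c r * yy c r = 1 := by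
  have h : c.x2 1 * c.x2 1 = 1 := by
    rw [← c.x2_add (map_one σ) (map_one σ)]
    have : (1 : E) + 1 = 0 := by linear_combination two_eq_zero E
    rw [this, c.x2_zero]
  unfold yy
  calc _ = (c.n1 * c.n6) ^ r * (c.x2 1 * c.x2 1) * ((c.n1 * c.n6) ^ r)⁻¹ := by group
    _ = 1 := by rw [h]; group

/-- uniqueness -/
theorem eq_yy (hσ : ∀ x, σ x = x ^ 2) {r : ℕ} {k : ZMod (2 * 6)} (hk : k = 2 + 2 * r) {a : L} (ha : a ∈ c.X k)
    (h1 : a ≠ 1) : a = yy c r := by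
  subst hk
  have h2 : ((c.n1 * c.n6) ^ r)⁻¹ * a * (c.n1 * c.n6) ^ r ∈ c.X 2 := maps_mem' (c.maps_rot r) ha rfl
  obtain ⟨t, ht, e⟩ := (c.par.mem2 _).1 h2
  rcases fix_cases hσ ht with h0 | h0
  · exfalso
    apply h1
    rw [h0, c.x2_zero] at e
    calc a = (c.n1 * c.n6) ^ r * (((c.n1 * c.n6) ^ r)⁻¹ * a * (c.n1 * c.n6) ^ r) * ((c.n1 * c.n6) ^ r)⁻¹ := by group
      _ = 1 := by rw [← e]; group
  · rw [h0] at e
    unfold yy
    rw [e]
    group

theorem yy_conj (hσ : ∀ x, σ x = x ^ 2) {n : L} {f : ZMod (2 * 6) → ZMod (2 * 6)} (hn : Maps c.X n f) {r s : ℕ}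
    (hf : f (2 + 2 * r) = 2 + 2 * s) : n * yy c r * n⁻¹ = yy c s := by
  refine eq_yy hσ rfl (maps_mem hn (yy_mem r) hf) ?_
  intro h
  rw [mul_inv_eq_one] at h
  exact yy_ne r (mul_eq_left.1 h)

theorem yy_one (hσ : ∀ x, σ x = x ^ 2) : yy c 1 = c.x4 1 := by
  refine (eq_yy hσ (k := 4) (by decide) (c.mem4 (map_one σ)) ?_).symm
  intro h
  rw [← c.x4_zero] at h
  exact one_ne_zero (c.x4_inj (map_one σ) (map_zero σ) h)

theorem yy_two (hσ : ∀ x, σ x = x ^ 2) : yy c 2 = c.x6 1 := by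
  refine (eq_yy hσ (k := 6) (by decide) (c.mem6 (map_one σ)) ?_).symm
  intro h
  rw [← c.x6_zero] at h
  exact one_ne_zero (c.x6_inj (map_one σ) (map_zero σ) h)

theorem yy_zero : yy c 0 = c.x2 1 := by
  unfold yy
  group

theorem yy_comm (hσ : ∀ x, σ x = x ^ 2) (r : ℕ) : yy c r * yy c (r + 1) = yy c (r + 1) * yy c r := by
  have h := comm24 c (map_one σ) (map_one σ)
  rw [← yy_one hσ, ← yy_zero (c := c)] at h
  have e0 : yy c r = (c.n1 * c.n6) ^ r * yy c 0 * ((c.n1 * c.n6) ^ r)⁻¹ := yy_add r 0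
  rw [e0, yy_add r 1]
  calc _ = (c.n1 * c.n6) ^ r * (yy c 0 * yy c 1) * ((c.n1 * c.n6) ^ r)⁻¹ := by group
    _ = _ := by rw [h]; group

theorem yy_rel (hσ : ∀ x, σ x = x ^ 2) (r : ℕ) : yy c r * yy c (r + 2) = yy c (r + 2) * yy c r * yy c (r + 1) := by
  have h := c.par.rel.c26 1 1 (map_one σ) (map_one σ)
  rw [mul_one] at h
  have h' := mul_eq_kk (c.x2 1) (c.x6 1)
  rw [h, ← yy_one hσ, ← yy_zero (c := c), ← yy_two hσ] at h'
  have e0 : yy c r = (c.n1 * c.n6) ^ r * yy c 0 * ((c.n1 * c.n6) ^ r)⁻¹ := yy_add r 0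
  rw [e0, yy_add r 1, yy_add r 2]
  calc _ = (c.n1 * c.n6) ^ r * (yy c 0 * yy c 2) * ((c.n1 * c.n6) ^ r)⁻¹ := by group
    _ = _ := by rw [h']; group

theorem yy_six (hσ : ∀ x, σ x = x ^ 2) : yy c 6 = yy c 0 := eq_yy hσ (by decide) (yy_mem 6) (yy_ne 6)
theorem yy_seven (hσ : ∀ x, σ x = x ^ 2) : yy c 7 = yy c 1 := eq_yy hσ (by decide) (yy_mem 7) (yy_ne 7)

theorem six [CharP E 2] (hσ : ∀ x, σ x = x ^ 2) : Six (yy c 5) (yy c 0) (yy c 1) (yy c 2) (yy c 3) (yy c 4) where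
  s0 := yy_sq 5
  s2 := yy_sq 0
  s4 := yy_sq 1
  s6 := yy_sq 2
  s8 := yy_sq 3
  s10 := yy_sq 4
  c02 := by have := yy_comm (c := c) hσ 5; rwa [yy_six hσ] at this
  c24 := yy_comm hσ 0
  c46 := yy_comm hσ 1
  c68 := yy_comm hσ 2
  c810 := yy_comm hσ 3
  c100 := yy_comm hσ 4
  r26 := yy_rel hσ 0
  r48 := yy_rel hσ 1
  r610 := yy_rel hσ 2
  r80 := yy_rel hσ 3
  r102 := by have := yy_rel (c := c) hσ 4; rwa [yy_six hσ] at this
  r04 := by have := yy_rel (c := c) hσ 5; rwa [yy_six hσ, yy_seven hσ] at this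

theorem yy_T0 (hσ : ∀ x, σ x = x ^ 2) {t : L} (ht : t ∈ c.T0) (r : ℕ) : t * yy c r = yy c r * t := by
  obtain ⟨c1, c6, h⟩ := ht
  have := yy_conj hσ h.maps (r := r) (s := r) rfl
  exact mul_inv_eq_iff_eq_mul.1 this

theorem exists_pow (hσ : ∀ x, σ x = x ^ 2) {r : ℕ} {k : ZMod (2 * 6)} (hk : k = 2 + 2 * r) {a : L} (ha : a ∈ c.X k) :
    ∃ i : ℕ, i ≤ 1 ∧ a = yy c r ^ i := by
  by_cases h1 : a = 1
  · exact ⟨0, by norm_num, by rw [h1, pow_zero]⟩
  · exact ⟨1, le_refl 1, by rw [pow_one]; exact eq_yy hσ hk ha h1⟩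

theorem x2_pow (i : ℕ) : c.x2 1 ^ i = c.x2 (i : E) := by
  induction i with
  | zero => rw [pow_zero, Nat.cast_zero, c.x2_zero]
  | succ i ih => rw [pow_succ, ih, Nat.cast_succ, c.x2_add (map_natCast σ i) (map_one σ)]

theorem x4_pow (i : ℕ) : c.x4 1 ^ i = c.x4 (i : E) := by
  induction i with
  | zero => rw [pow_zero, Nat.cast_zero, c.x4_zero]
  | succ i ih => rw [pow_succ, ih, Nat.cast_succ, c.x4_add (map_natCast σ i) (map_one σ)]

theorem x6_pow (i : ℕ) : c.x6 1 ^ i = c.x6 (i : E) := by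
  induction i with
  | zero => rw [pow_zero, Nat.cast_zero, c.x6_zero]
  | succ i ih => rw [pow_succ, ih, Nat.cast_succ, c.x6_add (map_natCast σ i) (map_one σ)]

theorem NF_pows (i j k : ℕ) : c.NF (c.x2 1 ^ i * c.x4 1 ^ j * c.x6 1 ^ k) (i : E) 0 0 (k : E) := by
  rw [x2_pow, x4_pow, x6_pow]
  exact (((c.nf2 (map_natCast σ i)).mul (c.nf4 (map_natCast σ j))).mul (c.nf6 (map_natCast σ k))).congr rfl (by ring)
    (by ring) (by ring) (by ring)

theorem NF_pows' (i j k : ℕ) : c.NF (c.x6 1 ^ i * c.x4 1 ^ j * c.x2 1 ^ k) (k : E) 0 0 (i : E) := by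
  rw [x2_pow, x4_pow, x6_pow]
  exact (((c.nf6 (map_natCast σ i)).mul (c.nf4 (map_natCast σ j))).mul (c.nf2 (map_natCast σ k))).congr rfl (by ring)
    (by ring) (by ring) (by ring)

variable [Fintype E] [Finite L] [CharP E 2] [CharP ↥(fx σ) 2] {τ : ↥(fx σ)} {s0 : L} {c1 : E}

/-- even words -/
theorem even_word (D : Dat c τ s0 c1) (hσ : ∀ x, σ x = x ^ 2) {l0 : E} (hl0 : l0 ≠ 0) (hl1 : l0 ≠ 1)
    (i j k l m n : ℕ) (hpar : (i + k + l + n) % 2 = 0) :
    Pr (c.pa (comp ↥(fx σ) τ) * s0)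
      (c.pb (dg l0 hl0) * wd (yy c 5) (yy c 0) (yy c 1) (yy c 2) (yy c 3) (yy c 4) i j k l m n) := by
  by_contra hg
  obtain ⟨q', hq'⟩ : ∃ q', q' = yy c 3 ^ i * yy c 4 ^ j * yy c 5 ^ k := ⟨_, rfl⟩
  obtain ⟨q, hq⟩ : ∃ q, q = yy c 0 ^ l * yy c 1 ^ m * yy c 2 ^ n := ⟨_, rfl⟩
  have m3 : yy c 3 ∈ c.X 8 := yy_mem 3
  have m4 : yy c 4 ∈ c.X 10 := yy_mem 4
  have m5 : yy c 5 ∈ c.X 0 := yy_mem 5
  have m0 : yy c 0 ∈ c.X 2 := yy_mem 0
  have m1 : yy c 1 ∈ c.X 4 := yy_mem 1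
  have m2 : yy c 2 ∈ c.X 6 := yy_mem 2
  have hq'm : q' ∈ Sg c.X Qa' := by
    rw [hq']
    exact mul_mem (mul_mem (pow_mem (c.sg (by decide) m3) _) (pow_mem (c.sg (by decide) m4) _))
      (pow_mem (c.sg (by decide) m5) _)
  have hqm : q ∈ Sg c.X Qa := by
    rw [hq]
    exact mul_mem (mul_mem (pow_mem (c.sg (by decide) m0) _) (pow_mem (c.sg (by decide) m1) _))
      (pow_mem (c.sg (by decide) m2) _)
  have hT : c.pb (dg l0 hl0) ∈ c.T0 := pb_dg_T0 c l0 hl0
  have hcomm : c.pb (dg l0 hl0) * q' = q' * c.pb (dg l0 hl0) := by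
    rw [hq']
    have k3 : Commute (c.pb (dg l0 hl0)) (yy c 3) := yy_T0 hσ hT 3
    have k4 : Commute (c.pb (dg l0 hl0)) (yy c 4) := yy_T0 hσ hT 4
    have k5 : Commute (c.pb (dg l0 hl0)) (yy c 5) := yy_T0 hσ hT 5
    exact ((k3.pow_right i).mul_right (k4.pow_right j)).mul_right (k5.pow_right k)
  have hF : FA c (c.pb (dg l0 hl0) * wd (yy c 5) (yy c 0) (yy c 1) (yy c 2) (yy c 3) (yy c 4) i j k l m n) q'
      (dg l0 hl0) 1 one_ne_zero q := by
    refine ⟨hq'm, hqm, ?_⟩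
    rw [dg_one', map_one, mul_one, ← hcomm, hq', hq]
    unfold wd
    group
  have hinv1 : Maps c.X c.n1⁻¹ (fun k => 8 - k) := c.maps_n1.inv fun k => by ring
  have hinv4 : Maps c.X c.n4⁻¹ (fun k => 2 - k) := c.maps_n4.inv fun k => by ring
  have h14 : Maps c.X (c.n1⁻¹ * c.n4⁻¹) (fun k => 6 + k) := (hinv1.mul hinv4).congr fun k => by
    simp only [Function.comp]
    ring
  have ha : c.NF (c.n1⁻¹ * (c.n4⁻¹ * q' * c.n4) * c.n1) (i : E) 0 0 (k : E) := by
    have e3 : c.n1⁻¹ * c.n4⁻¹ * yy c 3 * (c.n1⁻¹ * c.n4⁻¹)⁻¹ = yy c 0 := yy_conj hσ h14 (by decide)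
    have e4 : c.n1⁻¹ * c.n4⁻¹ * yy c 4 * (c.n1⁻¹ * c.n4⁻¹)⁻¹ = yy c 1 := yy_conj hσ h14 (by decide)
    have e5 : c.n1⁻¹ * c.n4⁻¹ * yy c 5 * (c.n1⁻¹ * c.n4⁻¹)⁻¹ = yy c 2 := yy_conj hσ h14 (by decide)
    have e : c.n1⁻¹ * (c.n4⁻¹ * q' * c.n4) * c.n1 = yy c 0 ^ i * yy c 1 ^ j * yy c 2 ^ k := by
      rw [← e3, ← e4, ← e5, conj_pow, conj_pow, conj_pow, hq']
      group
    rw [e, yy_zero, yy_one hσ, yy_two hσ]
    exact NF_pows i j k
  have hb : c.NF (c.n1⁻¹ * q * c.n1) (n : E) 0 0 (l : E) := by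
    have e0 : c.n1⁻¹ * yy c 0 * c.n1⁻¹⁻¹ = yy c 2 := yy_conj hσ hinv1 (by decide)
    have e1 : c.n1⁻¹ * yy c 1 * c.n1⁻¹⁻¹ = yy c 1 := yy_conj hσ hinv1 (by decide)
    have e2 : c.n1⁻¹ * yy c 2 * c.n1⁻¹⁻¹ = yy c 0 := yy_conj hσ hinv1 (by decide)
    have e : c.n1⁻¹ * q * c.n1 = (c.n1⁻¹ * yy c 0 * c.n1⁻¹⁻¹) ^ l * (c.n1⁻¹ * yy c 1 * c.n1⁻¹⁻¹) ^ m *
        (c.n1⁻¹ * yy c 2 * c.n1⁻¹⁻¹) ^ n := by
      rw [conj_pow, conj_pow, conj_pow, hq]
      group
    rw [e, e0, e1, e2, yy_zero, yy_one hσ, yy_two hσ]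
    exact NF_pows' l m n
  have hC := cond_of_bad D hσ hg hF ha hb
  have hll : l0 * l0⁻¹ = 1 := mul_inv_cancel₀ hl0
  have h20 := two_eq_zero E
  have h1 := hC 1 1 1 l0⁻¹ (by
    intro h0
    exact hl1 (by linear_combination (-l0) * h0 + hll)) (Or.inl (by
      rw [dg_00, dg_01, dg_10, dg_11]
      linear_combination hll + (1 - l0⁻¹) * h20))
  have h3 : cf σ (i : E) 0 0 (k : E) 1 1 = (i : E) + k := by
    unfold cf trc
    rw [nrm_one]
    simp
  have h4 : cf σ (n : E) 0 0 (l : E) 1 l0⁻¹ = (n : E) + l := by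
    unfold cf trc
    rw [nrm_one, D.nrm1 _ (inv_ne_zero hl0)]
    simp
  rw [h3, h4] at h1
  have h5 : ((i + k + l + n : ℕ) : E) = 0 := by
    obtain ⟨w, hw⟩ := Nat.dvd_of_mod_eq_zero hpar
    rw [hw]
    push_cast
    rw [h20, zero_mul]
  push_cast at h5
  exact one_ne_zero (α := E) (by linear_combination h5 - h1)

/-- **Thompson's conjecture for `³D₄(2)`.** -/
theorem main8 (D : Dat c τ s0 c1) (hσ : ∀ x, σ x = x ^ 2) (h8 : Fintype.card E = 8) (g : L) :
    Pr (c.pa (comp ↥(fx σ) τ) * s0) g := by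
  by_contra hg
  obtain ⟨y, v, hv, t, ht, u, hu, e⟩ := exists_conj_cell (c := c) g
  have hg' : ¬ Pr (c.pa (comp ↥(fx σ) τ) * s0) (y * g * y⁻¹) := fun h => hg (Pr.of_conj _ h)
  obtain ⟨q', hq', w7, h7, rfl⟩ := c.exists_mul' (k := 7) (s := Qa') (by decide +kernel)
    (Sg_mono (by decide +kernel) hv : v ∈ Sg c.X (insert 7 Qa'))
  obtain ⟨w1, h1, q, hq, rfl⟩ := c.exists_mul (k := 1) (s := Qa) (by decide +kernel)
    (Sg_mono (by decide +kernel) hu : u ∈ Sg c.X (insert 1 Qa))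
  obtain ⟨a, rfl⟩ := (c.pb_lo _).1 h7
  obtain ⟨b, rfl⟩ := (c.par.mem1 _).1 h1
  obtain ⟨s, hs, r, hr, rfl⟩ := ht
  have hF := FA_of (c := c) hq' hq a s b hs r hr
  have e' : y * g * y⁻¹ = q' * c.pb (lo a) * (c.pb (dg s hs) * c.pa (dg r hr)) * c.pb (up b) * q := by
    rw [e, c.pb_up]
    group
  rw [← e'] at hF
  have hr1 := r_one hσ hr
  subst hr1
  obtain ⟨y', x8, h8', x10, h10, x0, h0', x2, h2, x4, h4, x6, h6', l0, hl0, hl1, e2⟩ := exists_shape D hσ h8 hg' hF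
  have hg2 : ¬ Pr (c.pa (comp ↥(fx σ) τ) * s0) (y' * (y * g * y⁻¹) * y'⁻¹) := fun h => hg' (Pr.of_conj _ h)
  apply hg2
  rw [e2]
  obtain ⟨i, hi, rfl⟩ := exists_pow hσ (r := 3) (by decide) h8'
  obtain ⟨j, hj, rfl⟩ := exists_pow hσ (r := 4) (by decide) h10
  obtain ⟨k, hk, rfl⟩ := exists_pow hσ (r := 5) (by decide) h0'
  obtain ⟨l, hl, rfl⟩ := exists_pow hσ (r := 0) (by decide) h2
  obtain ⟨m, hm, rfl⟩ := exists_pow hσ (r := 1) (by decide) h4
  obtain ⟨n, hn, rfl⟩ := exists_pow hσ (r := 2) (by decide) h6'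
  have hT : c.pb (dg l0 hl0) ∈ c.T0 := pb_dg_T0 c l0 hl0
  have hcomm : (yy c 3 ^ i * yy c 4 ^ j * yy c 5 ^ k) * c.pb (dg l0 hl0) =
      c.pb (dg l0 hl0) * (yy c 3 ^ i * yy c 4 ^ j * yy c 5 ^ k) := by
    have k3 : Commute (c.pb (dg l0 hl0)) (yy c 3) := yy_T0 hσ hT 3
    have k4 : Commute (c.pb (dg l0 hl0)) (yy c 4) := yy_T0 hσ hT 4
    have k5 : Commute (c.pb (dg l0 hl0)) (yy c 5) := yy_T0 hσ hT 5
    exact (((k3.pow_right i).mul_right (k4.pow_right j)).mul_right (k5.pow_right k)).symm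
  have efin : yy c 3 ^ i * yy c 4 ^ j * yy c 5 ^ k * c.pb (dg l0 hl0) * (yy c 0 ^ l * yy c 1 ^ m * yy c 2 ^ n) =
      c.pb (dg l0 hl0) * wd (yy c 5) (yy c 0) (yy c 1) (yy c 2) (yy c 3) (yy c 4) i j k l m n := by
    rw [hcomm]
    unfold wd
    group
  rw [efin]
  refine all_of_even (six hσ) (fun w => Pr (c.pa (comp ↥(fx σ) τ) * s0) (c.pb (dg l0 hl0) * w)) ?_
    (fun i j k l m n hpar => even_word D hσ hl0 hl1 i j k l m n hpar) i j k l m n hi hj hk hl hm hn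
  intro x hx w hw
  have hxc : c.pb (dg l0 hl0) * x = x * c.pb (dg l0 hl0) := by
    simp only [Set.mem_insert_iff, Set.mem_singleton_iff] at hx
    rcases hx with rfl | rfl | rfl | rfl | rfl | rfl <;> exact yy_T0 hσ hT _
  refine Pr.of_conj x ?_
  have : x * (c.pb (dg l0 hl0) * w) * x⁻¹ = c.pb (dg l0 hl0) * (x * w * x⁻¹) := by
    calc x * (c.pb (dg l0 hl0) * w) * x⁻¹ = (x * c.pb (dg l0 hl0)) * w * x⁻¹ := by group
      _ = _ := by rw [← hxc]; group
  rw [this]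
  exact hw

end Cfsg.Agent.H148.Hex
end
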