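import Cfsg.Agent.H148.SmallBad
set_option linter.all false

-- part: H148/G24
section
/-!
# Thompson's conjecture for `G₂(4)` (helper148)
-/

set_option autoImplicit false

namespace Cfsg.Agent.H148.Hex

open Cfsg.Agent.SplitTwo Cfsg.Agent.TitsThree.RankTwoZ Cfsg.Agent.Lib.SL2Mat Cfsg.Agent.Cit.HexBase
  Cfsg.Agent.Cit.HexBase.HexGrp Cfsg.Agent.H148.SLTwo

universe u

variable {E : Type*} [Field E] {σ : E ≃+* E} {L : Type u} [Group L] {c : HexGrp σ L}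

/-- four lines do not cover the plane -/
theorem exists_avoid [Fintype E] (h4 : Fintype.card E = 4) (a b : Fin 4 → E) (h : ∀ i, a i ≠ 0 ∨ b i ≠ 0) :
    ∃ x y : E, (x ≠ 0 ∨ y ≠ 0) ∧ ∀ i, a i * x + b i * y ≠ 0 := by
  classical
  by_contra hcon
  push Not at hcon
  have key : ∀ o : Option E, ∃ i : Fin 4, a i * (o.elim 1 id) + b i * (o.elim 0 fun _ => 1) = 0 := by
    intro o
    refine hcon _ _ ?_
    cases o with
    | none => exact Or.inl one_ne_zero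
    | some t => exact Or.inr one_ne_zero
  choose f hf using key
  have hinj : Function.Injective f := by
    intro o o' hoo
    have h1 := hf o
    have h2 := hf o'
    rw [← hoo] at h2
    have h3 := h (f o)
    cases o with
    | none =>
      cases o' with
      | none => rfl
      | some t =>
        exfalso
        simp only [Option.elim_none, mul_one, mul_zero, add_zero] at h1
        simp only [Option.elim_some, id, mul_one] at h2
        rw [h1, zero_mul, zero_add] at h2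
        rcases h3 with h3 | h3
        · exact h3 h1
        · exact h3 h2
    | some s =>
      cases o' with
      | none =>
        exfalso
        simp only [Option.elim_none, mul_one, mul_zero, add_zero] at h2
        simp only [Option.elim_some, id, mul_one] at h1
        rw [h2, zero_mul, zero_add] at h1
        rcases h3 with h3 | h3
        · exact h3 h2
        · exact h3 h1
      | some t =>
        simp only [Option.elim_some, id, mul_one] at h1 h2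
        have h5 : a (f (some s)) * (s - t) = 0 := by linear_combination h1 - h2
        rcases mul_eq_zero.1 h5 with h6 | h6
        · exfalso
          rw [h6, zero_mul, zero_add] at h1
          rcases h3 with h3 | h3
          · exact h3 h6
          · exact h3 h1
        · rw [sub_eq_zero.1 h6]
  have := Fintype.card_le_of_injective f hinj
  rw [Fintype.card_option, h4, Fintype.card_fin] at this
  omega

theorem prim4 [Fintype E] [CharP E 2] (h4 : Fintype.card E = 4) {c1 : E} (h0 : c1 ≠ 0) (h1 : c1 ≠ 1) :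
    c1 ^ 2 + c1 + 1 = 0 := by
  have h := FiniteField.pow_card_sub_one_eq_one c1 h0
  rw [h4] at h
  have : (c1 - 1) * (c1 ^ 2 + c1 + 1) = 0 := by
    have h' : c1 ^ 3 = 1 := h
    linear_combination h'
  exact (mul_eq_zero.1 this).resolve_left (sub_ne_zero.2 h1)

theorem cases4 [Fintype E] [CharP E 2] (h4 : Fintype.card E = 4) {c1 : E} (h0 : c1 ≠ 0) (h1 : c1 ≠ 1) {s : E}
    (hs : s ≠ 0) : s = 1 ∨ s = c1 ∨ s * c1 = 1 := by
  have h := FiniteField.pow_card_sub_one_eq_one s hs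
  rw [h4] at h
  have h' : s ^ 3 = 1 := h
  have h2 := prim4 h4 h0 h1
  have h3 : (s - 1) * ((s - c1) * (s * c1 - 1)) = 0 := by
    linear_combination c1 * h' - (s ^ 2 - s) * h2
  rcases mul_eq_zero.1 h3 with h | h
  · exact Or.inl (sub_eq_zero.1 h)
  · rcases mul_eq_zero.1 h with h | h
    · exact Or.inr (Or.inl (sub_eq_zero.1 h))
    · exact Or.inr (Or.inr (sub_eq_zero.1 h))

theorem cf4 [CharP E 2] (hσ : ∀ x, σ x = x) (b2 b3 b5 b6 x y : E) :
    cf σ b2 b3 b5 b6 x y = y ^ 3 * b2 + x * y ^ 2 * b3 + x ^ 2 * y * b5 + x ^ 3 * b6 := by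
  have h2 := two_eq_zero E
  unfold cf nrm trc shp
  simp only [hσ]
  linear_combination (x * y ^ 2 * b3 + x ^ 2 * y * b5) * h2

/-- an element of `Qa` with trivial cubic form -/
theorem mem_X4_of_cf [CharP E 2] (hσ : ∀ x, σ x = x) {c1 : E} (h0 : c1 ≠ 0) (h1 : c1 ≠ 1) {q : L} {b2 b3 b5 b6 : E}
    (hb : c.NF (c.n1⁻¹ * q * c.n1) b2 b3 b5 b6) (h : ∀ x y : E, (x ≠ 0 ∨ y ≠ 0) → cf σ b2 b3 b5 b6 x y = 0) :
    q ∈ c.X 4 := by
  have e2 := h 0 1 (Or.inr one_ne_zero)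
  have e6 := h 1 0 (Or.inl one_ne_zero)
  have e1 := h 1 1 (Or.inl one_ne_zero)
  have ew := h c1 1 (Or.inl h0)
  rw [cf4 hσ] at e2 e6 e1 ew
  have k2 : b2 = 0 := by linear_combination e2
  have k6 : b6 = 0 := by linear_combination e6
  have k35 : b3 + b5 = 0 := by linear_combination e1 - k2 - k6
  have k5 : b5 = 0 := by
    have : c1 * (c1 - 1) * b5 = 0 := by
      linear_combination ew - k2 - c1 ^ 3 * k6 - c1 * k35
    exact (mul_eq_zero.1 this).resolve_left (mul_ne_zero h0 (sub_ne_zero.2 h1))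
  have k3 : b3 = 0 := by linear_combination k35 - k5
  have h4 := NF.mem4' hb k2 k3 k5 k6
  have : q = c.n1 * (c.n1⁻¹ * q * c.n1) * c.n1⁻¹ := by group
  rw [this]
  exact maps_mem c.maps_n1 h4 (by decide)

variable [Fintype E] [Finite L] [CharP E 2] [CharP ↥(fx σ) 2] {τ : ↥(fx σ)} {s0 : L} {c1 : E}

/-- **Stage 1** -/
theorem stage1 (D : Dat c τ s0 c1) (hσ : ∀ x, σ x = x) (h4 : Fintype.card E = 4) {g : L}
    (hg : ¬ Pr (c.pa (comp ↥(fx σ) τ) * s0) g) {q' q : L} {M : SL2 E} {r : ↥(fx σ)} {hr : r ≠ 0}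
    (hF : FA c g q' M r hr q) {a2 a3 a5 a6 b2 b3 b5 b6 : E}
    (ha : c.NF (c.n1⁻¹ * (c.n4⁻¹ * q' * c.n4) * c.n1) a2 a3 a5 a6) (hb : c.NF (c.n1⁻¹ * q * c.n1) b2 b3 b5 b6) :
    (r : E) = 1 ∧ (((∀ x y : E, (x ≠ 0 ∨ y ≠ 0) → cf σ a2 a3 a5 a6 x y = 0) ∧
        (∀ x y : E, (x ≠ 0 ∨ y ≠ 0) → cf σ b2 b3 b5 b6 x y ≠ 0)) ∨
      ((∀ x y : E, (x ≠ 0 ∨ y ≠ 0) → cf σ a2 a3 a5 a6 x y ≠ 0) ∧
        (∀ x y : E, (x ≠ 0 ∨ y ≠ 0) → cf σ b2 b3 b5 b6 x y = 0))) := by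
  have hr' := coe_ne' hr
  have hd := det_eq M
  have h20 := two_eq_zero E
  have hc0 := D.act.ne1
  have hc1 := D.ne1
  have hF1 : FA c (1 * g * 1⁻¹) q' M r hr q := by
    rw [inv_one, mul_one, one_mul]
    exact hF
  -- the main condition
  have hS : ∀ p q0 p' q0' : E, p * q0' - q0 * p' ≠ 0 →
      (p * ent M 0 0 + q0 * ent M 1 0) * q0' - (p * ent M 0 1 + q0 * ent M 1 1) * (r * p') ≠ 0 →
      (r : E) + (r : E)⁻¹ + r * cf σ a2 a3 a5 a6 p q0 * cf σ b2 b3 b5 b6 p' q0' = 0 ∧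
      ¬ ((r : E) = 1 ∧ cf σ a2 a3 a5 a6 p q0 = 0 ∧ cf σ b2 b3 b5 b6 p' q0' = 0) := by
    intro p q0 p' q0' hΔ hnum
    refine bad_hom D hg hF1 ha hb p q0 p' q0' hΔ ?_
    obtain ⟨Δ, hΔe⟩ : ∃ Δ, Δ = p * q0' - q0 * p' := ⟨_, rfl⟩
    obtain ⟨N, hN⟩ : ∃ N, N = (p * ent M 0 0 + q0 * ent M 1 0) * q0' - (p * ent M 0 1 + q0 * ent M 1 1) * (r * p') :=
      ⟨_, rfl⟩
    rw [← hΔe] at hΔ ⊢
    rw [← hN] at hnum ⊢
    rcases cases4 h4 hc0 hc1 (div_ne_zero hnum hΔ) with h | h | h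
    · left
      rwa [div_eq_one_iff_eq hΔ] at h
    · right; left
      rwa [div_eq_iff hΔ] at h
    · right; right
      rw [div_mul_eq_mul_div, div_eq_one_iff_eq hΔ] at h
      exact h
  -- common partners
  have hrow : ∀ p q0 : E, (p ≠ 0 ∨ q0 ≠ 0) →
      (-(p * ent M 0 1 + q0 * ent M 1 1) * r ≠ 0 ∨ p * ent M 0 0 + q0 * ent M 1 0 ≠ 0) := by
    intro p q0 h
    by_contra hcon
    push Not at hcon
    obtain ⟨e1, e2⟩ := hcon
    have e1' : p * ent M 0 1 + q0 * ent M 1 1 = 0 := by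
      have := (mul_eq_zero.1 e1).resolve_right hr'
      linear_combination -this
    have hp : p = 0 := by linear_combination (-p) * hd + ent M 1 1 * e2 - ent M 1 0 * e1'
    have hq : q0 = 0 := by linear_combination (-q0) * hd - ent M 0 1 * e2 + ent M 0 0 * e1'
    rcases h with h | h
    · exact h hp
    · exact h hq
  have hpart : ∀ p1 q1 p2 q2 : E, (p1 ≠ 0 ∨ q1 ≠ 0) → (p2 ≠ 0 ∨ q2 ≠ 0) → ∃ p' q0' : E, (p' ≠ 0 ∨ q0' ≠ 0) ∧
      (p1 * q0' - q1 * p' ≠ 0 ∧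
        (p1 * ent M 0 0 + q1 * ent M 1 0) * q0' - (p1 * ent M 0 1 + q1 * ent M 1 1) * (r * p') ≠ 0) ∧
      (p2 * q0' - q2 * p' ≠ 0 ∧
        (p2 * ent M 0 0 + q2 * ent M 1 0) * q0' - (p2 * ent M 0 1 + q2 * ent M 1 1) * (r * p') ≠ 0) := by
    intro p1 q1 p2 q2 h1 h2
    obtain ⟨x, y, hxy, h⟩ := exists_avoid h4
      ![-q1, -(p1 * ent M 0 1 + q1 * ent M 1 1) * r, -q2, -(p2 * ent M 0 1 + q2 * ent M 1 1) * r]
      ![p1, p1 * ent M 0 0 + q1 * ent M 1 0, p2, p2 * ent M 0 0 + q2 * ent M 1 0] (by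
        intro i
        fin_cases i
        · rcases h1 with h | h
          · exact Or.inr h
          · exact Or.inl (neg_ne_zero.2 h)
        · exact hrow p1 q1 h1
        · rcases h2 with h | h
          · exact Or.inr h
          · exact Or.inl (neg_ne_zero.2 h)
        · exact hrow p2 q2 h2)
    refine ⟨x, y, hxy, ⟨?_, ?_⟩, ⟨?_, ?_⟩⟩
    · intro h0
      exact h 0 (by change -q1 * x + p1 * y = 0; linear_combination h0)
    · intro h0
      refine h 1 ?_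
      change -(p1 * ent M 0 1 + q1 * ent M 1 1) * r * x + (p1 * ent M 0 0 + q1 * ent M 1 0) * y = 0
      linear_combination h0
    · intro h0
      exact h 2 (by change -q2 * x + p2 * y = 0; linear_combination h0)
    · intro h0
      refine h 3 ?_
      change -(p2 * ent M 0 1 + q2 * ent M 1 1) * r * x + (p2 * ent M 0 0 + q2 * ent M 1 0) * y = 0
      linear_combination h0
  have hpart' : ∀ p' q0' : E, (p' ≠ 0 ∨ q0' ≠ 0) → ∃ p q0 : E, (p ≠ 0 ∨ q0 ≠ 0) ∧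
      (p * q0' - q0 * p' ≠ 0 ∧
        (p * ent M 0 0 + q0 * ent M 1 0) * q0' - (p * ent M 0 1 + q0 * ent M 1 1) * (r * p') ≠ 0) := by
    intro p' q0' h1
    have hcol : (ent M 0 0 * q0' - ent M 0 1 * (r * p') ≠ 0 ∨ ent M 1 0 * q0' - ent M 1 1 * (r * p') ≠ 0) := by
      by_contra hcon
      push Not at hcon
      obtain ⟨e1, e2⟩ := hcon
      have hq : q0' = 0 := by linear_combination (-q0') * hd + ent M 1 1 * e1 - ent M 0 1 * e2
      have hp : (r : E) * p' = 0 := by linear_combination (-(r * p')) * hd + ent M 1 0 * e1 - ent M 0 0 * e2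
      have hp' := (mul_eq_zero.1 hp).resolve_left hr'
      rcases h1 with h | h
      · exact h hp'
      · exact h hq
    have hv : (q0' ≠ 0 ∨ -p' ≠ 0) := by
      rcases h1 with h | h
      · exact Or.inr (neg_ne_zero.2 h)
      · exact Or.inl h
    obtain ⟨x, y, hxy, h⟩ := exists_avoid h4
      ![q0', q0', q0', ent M 0 0 * q0' - ent M 0 1 * (r * p')]
      ![-p', -p', -p', ent M 1 0 * q0' - ent M 1 1 * (r * p')] (by
        intro i
        fin_cases i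
        · exact hv
        · exact hv
        · exact hv
        · exact hcol)
    refine ⟨x, y, hxy, ?_, ?_⟩
    · intro h0
      exact h 0 (by change q0' * x + -p' * y = 0; linear_combination h0)
    · intro h0
      refine h 3 ?_
      change (ent M 0 0 * q0' - ent M 0 1 * (r * p')) * x + (ent M 1 0 * q0' - ent M 1 1 * (r * p')) * y = 0
      linear_combination h0
  have hr1 : (r : E) = 1 := by
    by_contra hr1
    -- `A` is constant
    have hk : (r : E) + (r : E)⁻¹ ≠ 0 := by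
      intro h
      apply hr1
      have h3 : (r : E) ^ 2 = 1 := by
        have : (r : E) * ((r : E) + (r : E)⁻¹) = 0 := by rw [h, mul_zero]
        have h5 : (r : E) * (r : E)⁻¹ = 1 := mul_inv_cancel₀ hr'
        linear_combination this - h5 - h20
      have : ((r : E) - 1) ^ 2 = 0 := by linear_combination h3 + (1 - (r : E)) * h20
      have := pow_eq_zero_iff (by norm_num) |>.1 this
      exact sub_eq_zero.1 this
    have hconst : ∀ p1 q1 p2 q2 : E, (p1 ≠ 0 ∨ q1 ≠ 0) → (p2 ≠ 0 ∨ q2 ≠ 0) →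
        cf σ a2 a3 a5 a6 p1 q1 = cf σ a2 a3 a5 a6 p2 q2 := by
      intro p1 q1 p2 q2 h1 h2
      obtain ⟨p', q0', -, ⟨u1, u2⟩, ⟨v1, v2⟩⟩ := hpart p1 q1 p2 q2 h1 h2
      have e1 := (hS _ _ _ _ u1 u2).1
      have e2 := (hS _ _ _ _ v1 v2).1
      have hB : cf σ b2 b3 b5 b6 p' q0' ≠ 0 := by
        intro h0
        rw [h0, mul_zero, add_zero] at e1
        exact hk e1
      have : (r * cf σ b2 b3 b5 b6 p' q0') * (cf σ a2 a3 a5 a6 p1 q1 - cf σ a2 a3 a5 a6 p2 q2) = 0 := by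
        linear_combination e1 - e2
      exact sub_eq_zero.1 ((mul_eq_zero.1 this).resolve_left (mul_ne_zero hr' hB))
    have n0 : (0 : E) ≠ 0 ∨ (1 : E) ≠ 0 := Or.inr one_ne_zero
    have w2 := prim4 h4 hc0 hc1
    have t1 := hconst 1 1 0 1 (Or.inl one_ne_zero) n0
    have t2 := hconst c1 1 0 1 (Or.inl hc0) n0
    have t3 := hconst (c1 ^ 2) 1 0 1 (Or.inr one_ne_zero) n0
    have t4 := hconst 1 0 0 1 (Or.inl one_ne_zero) n0
    rw [cf4 hσ, cf4 hσ] at t1 t2 t3 t4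
    have w3 : c1 ^ 3 = 1 := by linear_combination (c1 - 1) * w2
    have ha6 : a6 = 0 := by
      have e : 3 * a6 = 0 := by
        linear_combination t1 + t2 + t3 - (a3 + a5) * w2 - (a6 + c1 * a5 + (c1 ^ 3 + 1) * a6) * w3
      linear_combination e - a6 * h20
    have e0 : cf σ a2 a3 a5 a6 0 1 = 0 := by
      rw [cf4 hσ]
      linear_combination -t4 + ha6
    obtain ⟨p', q0', -, ⟨u1, u2⟩, -⟩ := hpart 0 1 0 1 n0 n0
    have e1 := (hS _ _ _ _ u1 u2).1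
    rw [e0, mul_zero, zero_mul, add_zero] at e1
    exact hk e1
  refine ⟨hr1, ?_⟩
  have hS' : ∀ p q0 p' q0' : E, p * q0' - q0 * p' ≠ 0 →
      (p * ent M 0 0 + q0 * ent M 1 0) * q0' - (p * ent M 0 1 + q0 * ent M 1 1) * (r * p') ≠ 0 →
      (cf σ a2 a3 a5 a6 p q0 = 0 ↔ cf σ b2 b3 b5 b6 p' q0' ≠ 0) := by
    intro p q0 p' q0' h1 h2
    obtain ⟨e1, e2⟩ := hS p q0 p' q0' h1 h2
    rw [hr1, inv_one, one_mul] at e1
    have e3 : cf σ a2 a3 a5 a6 p q0 * cf σ b2 b3 b5 b6 p' q0' = 0 := by linear_combination e1 - h20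
    constructor
    · intro h h'
      exact e2 ⟨hr1, h, h'⟩
    · intro h
      exact (mul_eq_zero.1 e3).resolve_right h
  by_cases hA : ∃ p q0 : E, (p ≠ 0 ∨ q0 ≠ 0) ∧ cf σ a2 a3 a5 a6 p q0 = 0
  · left
    obtain ⟨p, q0, hpq, h0⟩ := hA
    have hall : ∀ x y : E, (x ≠ 0 ∨ y ≠ 0) → cf σ a2 a3 a5 a6 x y = 0 := by
      intro x y hxy
      obtain ⟨p', q0', -, ⟨u1, u2⟩, ⟨v1, v2⟩⟩ := hpart p q0 x y hpq hxy
      exact (hS' _ _ _ _ v1 v2).2 ((hS' _ _ _ _ u1 u2).1 h0)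
    refine ⟨hall, fun x y hxy => ?_⟩
    obtain ⟨p, q0, hpq, u1, u2⟩ := hpart' x y hxy
    exact (hS' _ _ _ _ u1 u2).1 (hall p q0 hpq)
  · right
    push Not at hA
    refine ⟨hA, fun x y hxy => ?_⟩
    obtain ⟨p, q0, hpq, u1, u2⟩ := hpart' x y hxy
    by_contra h
    exact hA p q0 hpq ((hS' _ _ _ _ u1 u2).2 h)

end Cfsg.Agent.H148.Hex
end

-- part: H148/G24B
section
/-!
# Thompson's conjecture for `G₂(4)`, II (helper148)
-/

set_option autoImplicit false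

namespace Cfsg.Agent.H148.Hex

open Cfsg.Agent.SplitTwo Cfsg.Agent.TitsThree.RankTwoZ Cfsg.Agent.Lib.SL2Mat Cfsg.Agent.Cit.HexBase
  Cfsg.Agent.Cit.HexBase.HexGrp Cfsg.Agent.H148.SLTwo

universe u

variable {E : Type*} [Field E] {σ : E ≃+* E} {L : Type u} [Group L] {c : HexGrp σ L}

/-- the component in `X 6` is a value of the cubic form -/
theorem NF_six [CharP E 2] (hN : ∀ s : E, s ≠ 0 → nrm σ s = 1) {q : L} {b2 b3 b5 b6 : E}
    (hq : c.NF (c.n1⁻¹ * q * c.n1) b2 b3 b5 b6) {d2 d3 d5 d6 : E}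
    (h : c.NF q d2 d3 d5 d6) : d6 = cf σ b2 b3 b5 b6 0 1 := by
  have := NF_pb hN hq 1 (h.congr (by rw [map_one]; group) rfl rfl rfl rfl)
  rwa [ent_one_10, ent_one_11] at this

theorem lo_ne_one {d : ↥(fx σ)} (hd : d ≠ 0) : c.pa (lo d) ≠ 1 := by
  intro h
  apply hd
  have h1 := c.disjA 0 d (by rw [up_zero, map_one, h])
  have h2 : c.n6⁻¹ * c.pa (lo d) * c.n6 = 1 := by rw [h]; group
  have h3 := n6_pa_up (c := c) (-d)
  rw [neg_neg] at h3
  rw [← h3] at h2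
  have h4 : c.pa (up (-d)) = 1 := by
    rw [← h2]
    group
  have h5 := c.disjA (-d) 0 (by rw [lo_zero, map_one, h4])
  exact neg_eq_zero.1 h5

theorem mem_X10_of {q' : L} (h : c.n4⁻¹ * q' * c.n4 ∈ c.X 4) : q' ∈ c.X 10 := by
  have : q' = c.n4 * (c.n4⁻¹ * q' * c.n4) * c.n4⁻¹ := by group
  rw [this]
  exact maps_mem c.maps_n4 h (by decide)

theorem pb_comm10 (y : SL2 E) {x : L} (hx : x ∈ c.X 10) : c.pb y * x * (c.pb y)⁻¹ = x := by
  obtain ⟨t, rfl⟩ := c.mem_X10.1 hx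
  rw [c.comm_pb_p4, mul_inv_cancel_right]

theorem conj_one' (y : SL2 E) (h : ((1 : ↥(fx σ)) : E)⁻¹ ≠ 0) : conjGL (dgl ((1 : ↥(fx σ)) : E)⁻¹ h) y = y := by
  rw [conjGL_dgl_ent]
  refine ext_ent ?_ ?_ ?_ ?_ <;> simp

theorem FA.conj_pb1 {g q' q : L} {M : SL2 E} (h : FA c g q' M 1 one_ne_zero q) (m : SL2 E) :
    FA c (c.pb m * g * (c.pb m)⁻¹) (c.pb m * q' * (c.pb m)⁻¹) (m * M * m⁻¹) 1 one_ne_zero (c.pb m * q * (c.pb m)⁻¹) := by
  have := h.conj_pb m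
  rwa [conj_one'] at this

/-- an element of `SL(2,E)` all of whose conjugates with nonzero first entry are lower triangular -/
theorem eq_one_of_conj [CharP E 2] {c1 : E} (h0 : c1 ≠ 0) (h1 : c1 ≠ 1) {M : SL2 E}
    (h : ∀ m : SL2 E, ent (m * M * m⁻¹) 0 0 ≠ 0 → ent (m * M * m⁻¹) 0 1 = 0) : M = 1 := by
  have h20 := two_eq_zero E
  by_cases hM : ent M 0 1 = 0 ∧ ent M 1 0 = 0 ∧ ent M 0 0 = ent M 1 1
  · obtain ⟨e1, e2, e3⟩ := hM
    have hd := det_eq M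
    rw [e1, ← e3] at hd
    have : (ent M 0 0 - 1) ^ 2 = 0 := by linear_combination hd + (1 - ent M 0 0) * h20
    have h00 : ent M 0 0 = 1 := sub_eq_zero.1 (pow_eq_zero_iff (by norm_num) |>.1 this)
    refine ext_ent ?_ ?_ ?_ ?_
    · rw [h00, ent_one_00]
    · rw [e1, ent_one_01]
    · rw [e2, ent_one_10]
    · rw [← e3, h00, ent_one_11]
  · exfalso
    obtain ⟨y, hy⟩ := exists_entry M hM 1
    have h01 := h y (by rw [hy]; exact one_ne_zero)
    obtain ⟨N, hN⟩ : ∃ N, N = y * M * y⁻¹ := ⟨_, rfl⟩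
    rw [← hN] at hy h01
    have hd := det_eq N
    rw [hy, h01] at hd
    have h11 : ent N 1 1 = 1 := by linear_combination hd
    have h10 : ent N 1 0 ≠ 0 := by
      intro h10
      apply hM
      have hN1 : N = 1 := by
        refine ext_ent ?_ ?_ ?_ ?_
        · rw [hy, ent_one_00]
        · rw [h01, ent_one_01]
        · rw [h10, ent_one_10]
        · rw [h11, ent_one_11]
      have hM1 : M = 1 := by
        have : M = y⁻¹ * N * y := by rw [hN]; group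
        rw [this, hN1]
        group
      rw [hM1]
      exact ⟨rfl, rfl, rfl⟩
    have h2 := h (up (c1 / ent N 1 0) * y)
    have e : up (c1 / ent N 1 0) * y * M * (up (c1 / ent N 1 0) * y)⁻¹ = up (c1 / ent N 1 0) * N * up (-(c1 / ent N 1 0)) := by
      rw [hN, ← up_inv]
      group
    rw [e] at h2
    simp only [ent_mul, up_00, up_01, up_10, up_11, hy, h01, h11] at h2
    have h3 := h2 (by
      intro h3
      apply h1
      have h4 : 1 + c1 = 0 := by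
        have : c1 / ent N 1 0 * ent N 1 0 = c1 := div_mul_cancel₀ _ h10
        linear_combination h3 - this
      linear_combination h4 - h20)
    have h5 : c1 ^ 2 = 0 := by
      have h6 : c1 / ent N 1 0 * ent N 1 0 = c1 := div_mul_cancel₀ _ h10
      linear_combination (-(ent N 1 0)) * h3 - (c1 + c1 / ent N 1 0 * ent N 1 0) * h6
    exact h0 (pow_eq_zero_iff (by norm_num) |>.1 h5)

variable [Fintype E] [Finite L] [CharP E 2] [CharP ↥(fx σ) 2] {τ : ↥(fx σ)} {s0 : L} {c1 : E}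

/-- stage 1, group theoretic form -/
theorem stage1' (D : Dat c τ s0 c1) (hσ : ∀ x, σ x = x) (h4 : Fintype.card E = 4) {g : L}
    (hg : ¬ Pr (c.pa (comp ↥(fx σ) τ) * s0) g) {q' q : L} {M : SL2 E} {r : ↥(fx σ)} {hr : r ≠ 0}
    (hF : FA c g q' M r hr q) :
    r = 1 ∧ ((q' ∈ c.X 10 ∧ ∀ b2 b3 b5 b6, c.NF q b2 b3 b5 b6 → b6 ≠ 0) ∨ (q ∈ c.X 4 ∧ q' ∉ c.X 10)) := by
  have hinv : Maps c.X c.n1⁻¹ (fun k => 8 - k) := c.maps_n1.inv fun k => by ring
  have m1 : c.n1⁻¹ * (c.n4⁻¹ * q' * c.n4) * c.n1 ∈ c.Q4 := by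
    have := conj_Sg hinv (s := Qa) (t := Qa) (by decide +kernel) (n4_inv_mem hF.1)
    rwa [inv_inv] at this
  have m2 : c.n1⁻¹ * q * c.n1 ∈ c.Q4 := by
    have := conj_Sg hinv (s := Qa) (t := Qa) (by decide +kernel) hF.2.1
    rwa [inv_inv] at this
  obtain ⟨a2, a3, a5, a6, ha⟩ := c.exists_NF m1
  obtain ⟨b2, b3, b5, b6, hb⟩ := c.exists_NF m2
  obtain ⟨hr1, h⟩ := stage1 D hσ h4 hg hF ha hb
  refine ⟨Subtype.ext hr1, ?_⟩
  rcases h with ⟨h1, h2⟩ | ⟨h1, h2⟩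
  · left
    refine ⟨mem_X10_of (mem_X4_of_cf hσ D.act.ne1 D.ne1 ha h1), fun d2 d3 d5 d6 hd => ?_⟩
    rw [NF_six D.nrm1 hb hd]
    exact h2 0 1 (Or.inr one_ne_zero)
  · right
    refine ⟨mem_X4_of_cf hσ D.act.ne1 D.ne1 hb h2, fun h10 => ?_⟩
    have h5 : c.n4⁻¹ * q' * c.n4 ∈ c.X 4 := maps_mem' c.maps_n4 h10 (by decide)
    have h6 : c.n1⁻¹ * (c.n4⁻¹ * q' * c.n4) * c.n1 ∈ c.X 4 := maps_mem' c.maps_n1 h5 (by decide)
    obtain ⟨t, ht, e⟩ := (c.par.mem4 _).1 h6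
    rw [← e] at ha
    obtain ⟨k2, k3, k5, k6⟩ := ha.unique (c.nf4 ht)
    refine h1 0 1 (Or.inr one_ne_zero) ?_
    rw [cf4 hσ, k2, k3, k5, k6]
    ring

/-- the new frame -/
theorem step_n6 (D : Dat c τ s0 c1) (hσ : ∀ x, σ x = x) (h4 : Fintype.card E = 4) {g : L}
    (hg : ¬ Pr (c.pa (comp ↥(fx σ) τ) * s0) g) {q' q : L} {M : SL2 E}
    (hF : FA c g q' M 1 one_ne_zero q) (hq' : q' ∈ c.X 10) (hq4 : q ∉ c.X 4) (h0 : ent M 0 0 ≠ 0) :
    ent M 0 1 = 0 ∧ ∃ g2 q2' q2 s hs u5 d6, ¬ Pr (c.pa (comp ↥(fx σ) τ) * s0) g2 ∧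
      FA c g2 q2' (dg s hs * up u5) 1 one_ne_zero q2 ∧ q2 ∈ c.X 4 ∧ s = ent M 0 0 ∧
      ∃ k0 ∈ Sg c.X {2, 3, 4}, q = c.pa (up d6) * (c.x5 u5 * k0) := by
  obtain ⟨-, h1⟩ := stage1' D hσ h4 hg hF
  have hd6 := (h1.resolve_right fun h => hq4 h.1).2
  obtain ⟨b2, b3, b5, b6, hb⟩ := c.exists_NF hF.2.1
  obtain ⟨u, hu, eu⟩ := split_Qa hb
  have hb6 := hd6 _ _ _ _ hb
  obtain ⟨d, hd⟩ : ∃ d : ↥(fx σ), d = ⟨b6, hb.2.1⟩ := ⟨_, rfl⟩
  rw [← hd] at eu
  have hd0 : d ≠ 0 := by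
    rw [hd]
    exact sub_ne _ hb6
  have eM := ldu M h0
  obtain ⟨a, ha⟩ : ∃ a, a = ent M 1 0 / ent M 0 0 := ⟨_, rfl⟩
  obtain ⟨b, hbe⟩ : ∃ b, b = ent M 0 1 / ent M 0 0 := ⟨_, rfl⟩
  obtain ⟨s, hs⟩ : ∃ s, s = ent M 0 0 := ⟨_, rfl⟩
  obtain ⟨u5, k, hk, v8, hv8, v11, hv11, ⟨k0, hk0, ek0⟩, -, e⟩ :=
    frame_n6 D.nrm1 hq' a s b (by rw [hs]; exact h0) (d := d) hu
  have hg2 : ¬ Pr (c.pa (comp ↥(fx σ) τ) * s0) (c.n6 * g * c.n6⁻¹) := fun h => hg (Pr.of_conj _ h)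
  have eg : g = q' * c.pb (lo a * dg s (by rw [hs]; exact h0) * up b) * (c.pa (up d) * u) := by
    have h3 := hF.2.2
    rw [dg_one', map_one, mul_one] at h3
    rw [h3, ← eu]
    congr 2
    rw [ha, hbe]
    subst hs
    exact congrArg c.pb eM
  rw [← eg] at e
  have hF2 : FA c (c.n6 * g * c.n6⁻¹) (v8 * v11 * c.pa (lo d)) (dg s (by rw [hs]; exact h0) * up (d * b + u5)) 1
      one_ne_zero (c.x5 b * k) := by
    refine ⟨mul_mem (mul_mem (c.sg (by decide) hv8) (c.sg (by decide) hv11)) (pa_lo_mem c (by decide) _),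
      mul_mem (c.sg (by decide) (c.mem5 b)) (Sg_mono (by decide +kernel) hk), ?_⟩
    rw [dg_one', map_one, mul_one]
    exact e
  have h5 : c.x5 b * k ∈ c.X 4 := by
    obtain ⟨-, h2⟩ := stage1' D hσ h4 hg2 hF2
    rcases h2 with ⟨h2, -⟩ | h2
    · exfalso
      have h3 : c.pa (lo d) ∈ Sg c.X {8, 11, 10} := by
        have : c.pa (lo d) = (v8 * v11)⁻¹ * (v8 * v11 * c.pa (lo d)) := by group
        rw [this]
        exact mul_mem (inv_mem (mul_mem (c.sg (by decide) hv8) (c.sg (by decide) hv11))) (c.sg (by decide) h2)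
      exact lo_ne_one hd0 (c.eq_one_of_mem (k := 0) (s := {8, 11, 10}) (by decide +kernel) ((c.pa_lo _).2 ⟨_, rfl⟩) h3)
    · exact h2.1
  have hb0 : b = 0 := by
    have h3 : c.x5 b ∈ Sg c.X {2, 3, 4} := by
      have : c.x5 b = c.x5 b * k * k⁻¹ := by group
      rw [this]
      exact mul_mem (c.sg (by decide) h5) (inv_mem hk)
    have := c.eq_one_of_mem (k := 5) (s := {2, 3, 4}) (by decide +kernel) (c.mem5 b) h3
    rw [← c.x5_zero] at this
    exact c.x5_inj this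
  rw [hb0, mul_zero, zero_add] at hF2
  refine ⟨?_, _, _, _, s, _, u5, d, hg2, hF2, by rw [← hb0]; exact h5, hs, k0, hk0, by rw [eu, ek0]⟩
  rw [hb0] at hbe
  field_simp at hbe
  rw [← hbe, zero_mul]

/-- in case I the middle factor is trivial -/
theorem middle_one (D : Dat c τ s0 c1) (hσ : ∀ x, σ x = x) (h4 : Fintype.card E = 4) {g : L}
    (hg : ¬ Pr (c.pa (comp ↥(fx σ) τ) * s0) g) {q' q : L} {M : SL2 E}
    (hF : FA c g q' M 1 one_ne_zero q) (hq' : q' ∈ c.X 10) (hq4 : q ∉ c.X 4) : M = 1 := by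
  refine eq_one_of_conj D.act.ne1 D.ne1 fun m hm => ?_
  have hF' := hF.conj_pb1 m
  rw [pb_comm10 m hq'] at hF'
  refine (step_n6 D hσ h4 (fun h => hg (Pr.of_conj _ h)) hF' hq' ?_ hm).1
  intro h
  apply hq4
  have h2 : q = c.pb m⁻¹ * (c.pb m * q * (c.pb m)⁻¹) * (c.pb m⁻¹)⁻¹ := by rw [map_inv]; group
  have h3 := c.pb_comm4 m⁻¹ h
  rw [h2, h3, mul_inv_cancel_right]
  exact h

/-- in case II the middle factor is trivial -/
theorem middle_one' (D : Dat c τ s0 c1) (hσ : ∀ x, σ x = x) (h4 : Fintype.card E = 4) {g : L}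
    (hg : ¬ Pr (c.pa (comp ↥(fx σ) τ) * s0) g) {q' q : L} {M : SL2 E}
    (hF : FA c g q' M 1 one_ne_zero q) (hq' : q' ∉ c.X 10) (hq4 : q ∈ c.X 4) : M = 1 := by
  have hF' := hF.mirror
  have hinv : Maps c.X c.n4⁻¹ (fun k => 2 - k) := c.maps_n4.inv fun k => by ring
  have hg' : ¬ Pr (c.pa (comp ↥(fx σ) τ) * s0) (c.n4⁻¹ * g⁻¹ * c.n4) := by
    intro h
    have h1 := h.conj c.n4
    have e : c.n4 * (c.n4⁻¹ * g⁻¹ * c.n4) * c.n4⁻¹ = g⁻¹ := by group
    rw [e] at h1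
    have h2 := h1.inv D.cj_inv
    rw [inv_inv] at h2
    exact hg h2
  have h1 := middle_one D hσ h4 hg' hF' (maps_mem' c.maps_n4 (inv_mem hq4) (by decide)) (by
    intro h
    apply hq'
    have : q' = c.n4 * (c.n4⁻¹ * q'⁻¹ * c.n4)⁻¹ * c.n4⁻¹ := by group
    rw [this]
    exact maps_mem c.maps_n4 (inv_mem h) (by decide))
  exact inv_eq_one.1 h1

/-- case I is impossible -/
theorem caseI_false (D : Dat c τ s0 c1) (hσ : ∀ x, σ x = x) (h4 : Fintype.card E = 4) {g : L}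
    (hg : ¬ Pr (c.pa (comp ↥(fx σ) τ) * s0) g) {q' q : L} {M : SL2 E}
    (hF : FA c g q' M 1 one_ne_zero q) (hq' : q' ∈ c.X 10) (hq4 : q ∉ c.X 4) : False := by
  have hM := middle_one D hσ h4 hg hF hq' hq4
  subst hM
  apply hq4
  refine mem_X4_of_five hF.2.1 fun m b2 b3 b5 b6 hN => ?_
  have hF' := hF.conj_pb1 m
  rw [pb_comm10 m hq', mul_one, mul_inv_cancel] at hF'
  have hq4' : c.pb m * q * (c.pb m)⁻¹ ∉ c.X 4 := by
    intro h
    apply hq4
    have h2 : q = c.pb m⁻¹ * (c.pb m * q * (c.pb m)⁻¹) * (c.pb m⁻¹)⁻¹ := by rw [map_inv]; group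
    have h3 := c.pb_comm4 m⁻¹ h
    rw [h2, h3, mul_inv_cancel_right]
    exact h
  obtain ⟨-, g2, q2', q2, s, hs, u5, d6, hg2, hF2, hq24, hs1, k0, hk0, eq⟩ :=
    step_n6 D hσ h4 (fun h => hg (Pr.of_conj _ h)) hF' hq' hq4' (by rw [ent_one_00]; exact one_ne_zero)
  have hq2' : q2' ∉ c.X 10 := by
    intro h
    obtain ⟨-, h1⟩ := stage1' D hσ h4 hg2 hF2
    rcases h1 with ⟨-, h1⟩ | ⟨-, h1⟩
    · obtain ⟨t, ht, rfl⟩ := (c.par.mem4 _).1 hq24
      exact h1 _ _ _ _ (c.nf4 ht) rfl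
    · exact h1 h
  have hM2 := middle_one' D hσ h4 hg2 hF2 hq2' hq24
  have hu5 : u5 = 0 := by
    have := congrArg (fun x => ent x 0 1) hM2
    simp only [ent_mul, dg_00, dg_01, up_01, up_11, zero_mul, add_zero, ent_one_01] at this
    exact (mul_eq_zero.1 this).resolve_left hs
  rw [hu5, c.x5_zero, one_mul] at eq
  obtain ⟨t2, bb, t4, f2, f4, ev⟩ := exists_V c hk0
  have hn : c.NF (c.pb m * q * (c.pb m)⁻¹) t2 bb 0 d6 := by
    rw [eq, ev]
    have e6 : c.pa (up d6) = c.x6 d6 := c.pa_up _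
    rw [e6]
    exact ((c.nf6 d6.2).mul (((c.nf2 f2).mul (c.nf3 bb)).mul (c.nf4 f4))).congr rfl (by ring) (by ring) (by ring)
      (by ring)
  exact (hN.unique hn).2.2.1

/-- **Thompson's conjecture for the field with four elements.** -/
theorem main4 (D : Dat c τ s0 c1) (hσ : ∀ x, σ x = x) (h4 : Fintype.card E = 4) (g : L) :
    Pr (c.pa (comp ↥(fx σ) τ) * s0) g := by
  by_contra hg
  obtain ⟨y, v, hv, t, ht, u, hu, e⟩ := exists_conj_cell (c := c) g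
  have hg' : ¬ Pr (c.pa (comp ↥(fx σ) τ) * s0) (y * g * y⁻¹) := fun h => hg (Pr.of_conj _ h)
  obtain ⟨q', hq', w7, h7, rfl⟩ := c.exists_mul' (k := 7) (s := Qa') (by decide +kernel)
    (Sg_mono (by decide +kernel) hv : v ∈ Sg c.X (insert 7 Qa'))
  obtain ⟨w1, h1, q, hq, rfl⟩ := c.exists_mul (k := 1) (s := Qa) (by decide +kernel)
    (Sg_mono (by decide +kernel) hu : u ∈ Sg c.X (insert 1 Qa))
  obtain ⟨a, rfl⟩ := (c.pb_lo _).1 h7
  obtain ⟨b, rfl⟩ := (c.par.mem1 _).1 h1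
  obtain ⟨s, hs, r, hr, rfl⟩ := ht
  have hF := FA_of (c := c) hq' hq a s b hs r hr
  have e' : y * g * y⁻¹ = q' * c.pb (lo a) * (c.pb (dg s hs) * c.pa (dg r hr)) * c.pb (up b) * q := by
    rw [e, c.pb_up]
    group
  rw [← e'] at hF
  obtain ⟨hr1, h⟩ := stage1' D hσ h4 hg' hF
  subst hr1
  rcases h with ⟨h1, h2⟩ | ⟨h1, h2⟩
  · refine caseI_false D hσ h4 hg' hF h1 fun h3 => ?_
    obtain ⟨t, ht, e4⟩ := (c.par.mem4 _).1 h3
    rw [← e4] at h2
    exact h2 _ _ _ _ (c.nf4 ht) rfl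
  · have hF' := hF.mirror
    have hg2 : ¬ Pr (c.pa (comp ↥(fx σ) τ) * s0) (c.n4⁻¹ * (y * g * y⁻¹)⁻¹ * c.n4) := by
      intro h
      have h1 := h.conj c.n4
      have e : c.n4 * (c.n4⁻¹ * (y * g * y⁻¹)⁻¹ * c.n4) * c.n4⁻¹ = (y * g * y⁻¹)⁻¹ := by group
      rw [e] at h1
      have h2 := h1.inv D.cj_inv
      rw [inv_inv] at h2
      exact hg' h2
    refine caseI_false D hσ h4 hg2 hF' (maps_mem' c.maps_n4 (inv_mem h1) (by decide)) fun h3 => ?_
    apply h2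
    have : q' = c.n4 * (c.n4⁻¹ * q'⁻¹ * c.n4)⁻¹ * c.n4⁻¹ := by group
    rw [this]
    exact maps_mem c.maps_n4 (inv_mem h3) (by decide)

end Cfsg.Agent.H148.Hex
end
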