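import Cfsg.Agent.H148.OddSL_mg
import Cfsg.Agent.H148.G2Inst
import Cfsg.Agent.Cit.HexD4
set_option linter.all false

-- part: H148/Odd
section
/-!
# Thompson's conjecture for groups of type `G₂` and `³D₄` in odd characteristic (helper148)
-/

set_option autoImplicit false

namespace Cfsg.Agent.H148.Hex

open Cfsg.Agent.SplitTwo Cfsg.Agent.TitsThree.RankTwoZ Cfsg.Agent.Lib.SL2Mat Cfsg.Agent.Cit.HexBase
  Cfsg.Agent.Cit.HexBase.HexGrp Cfsg.Agent.H148.SLTwo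

universe u

variable {E : Type*} [Field E] {σ : E ≃+* E} {L : Type u} [Group L] (c : HexGrp σ L)

theorem act_p4_dg (a : ↥(fx σ)) (ha : a ≠ 0) : c.Act (c.p4 (dg a ha)) 1 a := by
  have hE := coe_ne' ha
  have hf : σ (a : E) = a := a.2
  have h1 := (c.act_a a ha).n1.n6
  refine h1.congr ?_ ?_ ?_
  · rw [p4_apply]
    group
  · rw [nrm_inv, nrm_of_fix hf]
    field_simp
  · rw [nrm_inv, nrm_of_fix hf]
    field_simp

theorem c_z_pa (m : SL2 ↥(fx σ)) : c.z * c.pa m * c.z⁻¹ = c.pa (conjGL (dgl (-1) neg_one_ne) m) := by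
  rw [c.act_z.pa m]
  rfl

theorem pa_z_conj (y M : SL2 ↥(fx σ)) :
    c.pa y * (c.pa M * c.z) * (c.pa y)⁻¹ = c.pa (y * M * conjGL (dgl (-1) neg_one_ne) y⁻¹) * c.z := by
  rw [map_mul, map_mul, ← c_z_pa, map_inv]
  group

/-- elements `pa m * z` with the same invariant are conjugate -/
theorem cj_pa_z {m : SL2 ↥(fx σ)} {t : ↥(fx σ)} (h : tau m = t) (ht : t ^ 2 + 4 ≠ 0) :
    Cj (c.pa (mk 0 1 (-1) t (by ring)) * c.z) (c.pa m * c.z) := by
  obtain ⟨y, δ, hδ, e00, e01, e10, e11⟩ := exists_std m (by rw [h]; exact ht)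
  refine Cj.symm ?_
  have h1 : Cj (c.pa m * c.z) (c.pa (y * m * conjGL (dgl (-1) neg_one_ne) y⁻¹) * c.z) :=
    ⟨c.pa y, (pa_z_conj c y m).symm⟩
  refine h1.trans ?_
  obtain ⟨N, hN⟩ : ∃ N, N = y * m * conjGL (dgl (-1) neg_one_ne) y⁻¹ := ⟨_, rfl⟩
  rw [← hN] at e00 e01 e10 e11 ⊢
  have hA := act_p4_dg c δ⁻¹ (inv_ne_zero hδ)
  refine ⟨c.p4 (dg δ⁻¹ (inv_ne_zero hδ)), ?_⟩
  have hz := c.T0_comm ⟨_, _, hA⟩ c.z_mem_T0
  have e : c.p4 (dg δ⁻¹ (inv_ne_zero hδ)) * (c.pa N * c.z) * (c.p4 (dg δ⁻¹ (inv_ne_zero hδ)))⁻¹ =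
      (c.p4 (dg δ⁻¹ (inv_ne_zero hδ)) * c.pa N * (c.p4 (dg δ⁻¹ (inv_ne_zero hδ)))⁻¹) * c.z := by
    calc _ = c.p4 (dg δ⁻¹ (inv_ne_zero hδ)) * c.pa N * (c.p4 (dg δ⁻¹ (inv_ne_zero hδ)))⁻¹ *
          ((c.p4 (dg δ⁻¹ (inv_ne_zero hδ)) * c.z) * (c.p4 (dg δ⁻¹ (inv_ne_zero hδ)))⁻¹) := by group
      _ = _ := by rw [hz]; group
  rw [e, hA.pa N]
  congr 2
  rw [conjGL_dgl_ent]
  refine ext_ent ?_ ?_ ?_ ?_
  · rw [mk_00, mk_00, e00]
  · rw [mk_01, mk_01, e01]
    exact (inv_mul_cancel₀ hδ).symm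
  · rw [mk_10, mk_10, e10]
    change -1 = -δ⁻¹ / δ⁻¹
    rw [neg_div, div_self (inv_ne_zero hδ)]
  · rw [mk_11, mk_11, e11, h]

/-- the sign change -/
theorem cj_neg (m : SL2 ↥(fx σ)) : Cj (c.pa m * c.z) (c.pa (dg (-1) neg_one_ne * m) * c.z) := by
  refine ⟨n3 c, ?_⟩
  have h1 : n3 c * c.z * (n3 c)⁻¹ = c.pa (dg (-1) neg_one_ne) * c.z := by
    have h2 := Act.n3 c.act_z
    have h3 := (c.act_a (-1) neg_one_ne).mul c.act_z
    refine h2.unique (h3.congr rfl ?_ ?_)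
    · change (-1 : E)⁻¹ * 1 = (-1 * 1)⁻¹
      norm_num
    · change (-1 : E) ^ 2 * -1 = -1
      norm_num
  have h2 := comm_pa_n3 c m
  have hc : dg (-1) neg_one_ne * m = m * dg (-1) neg_one_ne := by
    refine ext_ent ?_ ?_ ?_ ?_ <;> simp [ent_mul]
  rw [hc, map_mul]
  calc c.pa m * c.pa (dg (-1) neg_one_ne) * c.z = c.pa m * (c.pa (dg (-1) neg_one_ne) * c.z) := by group
    _ = (n3 c * c.pa m * (n3 c)⁻¹) * (n3 c * c.z * (n3 c)⁻¹) := by rw [h1, h2]
    _ = _ := by group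

theorem tau_neg (m : SL2 ↥(fx σ)) : tau (dg (-1) neg_one_ne * m) = -tau m := by
  unfold tau
  rw [ent_mul, ent_mul]
  simp
  ring

theorem cj_pa_z' {m : SL2 ↥(fx σ)} {t : ↥(fx σ)} (h : tau m = t ∨ tau m = -t) (ht : t ^ 2 + 4 ≠ 0) :
    Cj (c.pa (mk 0 1 (-1) t (by ring)) * c.z) (c.pa m * c.z) := by
  rcases h with h | h
  · exact cj_pa_z c h ht
  · have h1 := cj_pa_z c (m := dg (-1) neg_one_ne * m) (t := t) (by rw [tau_neg, h, neg_neg]) ht
    exact h1.trans (cj_neg c m).symm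

/-- fixed point freeness -/
theorem fpf_z (h2 : (2 : E) ≠ 0) {m : SL2 ↥(fx σ)} (h : tau m ≠ 0) : Fpf (c.pa m * c.z) (Sg c.X Qb) := by
  have h' : ((tau m : ↥(fx σ)) : E) ≠ 0 := coe_ne' h
  have e : ((tau m : ↥(fx σ)) : E) = ((ent m 1 1 : ↥(fx σ)) : E) - ((ent m 0 0 : ↥(fx σ)) : E) := rfl
  rw [e] at h'
  refine fpf_Qb c m c.act_z ?_ ?_ ?_
  · intro h3
    apply h'
    linear_combination -h3
  · intro h3
    apply h2
    have : shp σ (1 : E) = 1 := by unfold shp; simp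
    rw [this] at h3
    linear_combination -h3
  · rw [nrm_one]
    intro h3
    apply h'
    linear_combination h3

theorem fpf_z' (h2 : (2 : E) ≠ 0) {m : SL2 ↥(fx σ)} (h : tau m ≠ 0) : Fpf (c.pa m * c.z) (Sg c.X Qb') := by
  have h' : ((tau m : ↥(fx σ)) : E) ≠ 0 := coe_ne' h
  have e : ((tau m : ↥(fx σ)) : E) = ((ent m 1 1 : ↥(fx σ)) : E) - ((ent m 0 0 : ↥(fx σ)) : E) := rfl
  rw [e] at h'
  have e1 : ((-1 : E) * 1)⁻¹ = -1 := by norm_num
  refine fpf_Qb' c m c.act_z ?_ ?_ ?_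
  · rw [e1]
    intro h3
    apply h'
    linear_combination h3
  · rw [e1]
    intro h3
    apply h2
    have : shp σ (-1 : E) = 1 := by unfold shp; simp
    rw [this] at h3
    linear_combination -h3
  · rw [e1, nrm_neg, nrm_one]
    intro h3
    apply h'
    linear_combination -h3

include c in
/-- **Thompson's conjecture in odd characteristic.** -/
theorem odd_main [Finite L] [Finite E] (p : ℕ) [Fact p.Prime] [CharP E p] (h2 : (2 : E) ≠ 0) :
    ∃ x : L, ¬ p ∣ orderOf x ∧ ∀ g : L, g ≠ 1 → Pr x g := by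
  have := Fintype.ofFinite ↥(fx σ)
  have h2' : (2 : ↥(fx σ)) ≠ 0 := fun h => h2 (congrArg Subtype.val h)
  obtain ⟨t, ht, ht4⟩ := exists_t0 h2'
  obtain ⟨x, hx⟩ : ∃ x, x = c.pa (mk 0 1 (-1) t (by ring)) * c.z := ⟨_, rfl⟩
  refine ⟨x, ?_, ?_⟩
  · -- the order
    have hp2 : p ≠ 2 := by
      rintro rfl
      exact h2 (by exact_mod_cast CharP.cast_eq_zero E 2)
    have : CharP ↥(fx σ) p := (Subfield.subtype (fx σ)).charP (Subfield.subtype (fx σ)).injective p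
    obtain ⟨M, hM⟩ : ∃ M : SL2 ↥(fx σ), M = mk 1 t t (1 + t ^ 2) (by ring) := ⟨_, rfl⟩
    have hxx : x ^ 2 = c.pa M := by
      rw [pow_two, hx]
      have e1 : c.pa (mk 0 1 (-1) t (by ring)) * c.z * (c.pa (mk 0 1 (-1) t (by ring)) * c.z) =
          c.pa (mk 0 1 (-1) t (by ring)) * (c.z * c.pa (mk 0 1 (-1) t (by ring)) * c.z⁻¹) * (c.z * c.z) := by group
      rw [e1, c.z_sq, mul_one, c_z_pa, ← map_mul, hM]
      congr 1
      rw [conjGL_dgl_ent]
      refine ext_ent ?_ ?_ ?_ ?_ <;> simp only [ent_mul, mk_00, mk_01, mk_10, mk_11] <;> ring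
    have hcard : p ∣ Fintype.card ↥(fx σ) := by
      have h3 := FiniteField.card ↥(fx σ) p
      obtain ⟨n, -, hn⟩ := h3
      rw [hn]
      exact dvd_pow_self p n.ne_zero
    have hpp := (Fact.out : p.Prime)
    have key : ∀ n : ℕ, ¬ p ∣ n → M ^ n = 1 → ¬ p ∣ orderOf x := by
      intro n hn h1 hd
      have h3 : orderOf x ∣ 2 * n := by
        apply orderOf_dvd_of_pow_eq_one
        rw [pow_mul, hxx, ← map_pow, h1, map_one]
      have h4 := hd.trans h3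
      rcases hpp.dvd_mul.1 h4 with h5 | h5
      · exact hp2 ((Nat.prime_dvd_prime_iff_eq hpp Nat.prime_two).1 h5)
      · exact hn h5
    have hpos : 1 ≤ Fintype.card ↥(fx σ) := Fintype.card_pos
    rcases pow_of_trace p M (by
      rw [hM, mk_00, mk_11]
      intro h
      have : t ^ 2 * (t ^ 2 + 4) = 0 := by linear_combination h
      rcases mul_eq_zero.1 this with h3 | h3
      · exact ht (pow_eq_zero_iff (by norm_num) |>.1 h3)
      · exact ht4 h3) with h | h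
    · refine key _ ?_ h
      intro hd
      have h1 : p ∣ 1 := by
        have := (Nat.dvd_sub hcard hd)
        rwa [Nat.sub_sub_self hpos] at this
      exact hpp.one_lt.ne' (Nat.dvd_one.1 h1)
    · refine key _ ?_ h
      intro hd
      have h1 : p ∣ 1 := (Nat.dvd_add_right hcard).1 hd
      exact hpp.one_lt.ne' (Nat.dvd_one.1 h1)
  · intro g hg
    obtain ⟨y, v, hv, l, u, hu, e⟩ := exists_weak_gauss (c := c) (z0 := -1) neg_one_ne (fun h => h2' (by
      linear_combination -h)) hg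
    obtain ⟨m, n, hn1, hn2⟩ := exists_pair h2' t l
    obtain ⟨v', hv', u', hu', e'⟩ := gauss_conj_pa c hv hu e m
    have ht' : t ≠ 0 ∧ -t ≠ 0 := ⟨ht, neg_ne_zero.2 ht⟩
    have hn3 : tau (conjGL (dgl (-1) neg_one_ne) n⁻¹) = t ∨ tau (conjGL (dgl (-1) neg_one_ne) n⁻¹) = -t := by
      have e3 : tau (conjGL (dgl (-1) neg_one_ne) n⁻¹) = -tau n := by
        unfold tau
        rw [conjGL_dgl_ent, mk_00, mk_11, ent_inv, mk_00, mk_11]
        ring
      rw [e3]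
      rcases hn1 with h | h <;> rw [h]
      · exact Or.inr rfl
      · exact Or.inl (neg_neg t)
    have hne : ∀ {m : SL2 ↥(fx σ)}, tau m = t ∨ tau m = -t → tau m ≠ 0 := by
      rintro m (h | h) <;> rw [h]
      · exact ht
      · exact neg_ne_zero.2 ht
    refine Pr.cell (x1 := c.pa (m * l * m⁻¹ * n) * c.z) (x2 := c.pa (conjGL (dgl (-1) neg_one_ne) n⁻¹) * c.z)
      (Q := Sg c.X Qb) (Q' := Sg c.X Qb') (y := c.pa m * y) (v := v') (u := u')
      (by rw [hx]; exact cj_pa_z' c hn2 ht4) (by rw [hx]; exact cj_pa_z' c hn3 ht4)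
      (fpf_z' c h2 (hne hn2)) (fpf_z c h2 (hne hn3)) hv' hu' ?_
    rw [e']
    congr 2
    calc c.pa (m * l * m⁻¹) = c.pa (m * l * m⁻¹ * n) * c.pa n⁻¹ := by rw [← map_mul, mul_inv_cancel_right]
      _ = c.pa (m * l * m⁻¹ * n) * (c.z * c.z) * c.pa n⁻¹ := by rw [c.z_sq, mul_one]
      _ = c.pa (m * l * m⁻¹ * n) * c.z * ((c.z * c.pa n⁻¹ * c.z⁻¹) * c.z) := by group
      _ = _ := by rw [c_z_pa]

end Cfsg.Agent.H148.Hex
end

-- part: H148/Large
section
/-!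
# Thompson's conjecture for `G₂(q)`, `q ≠ 2, 4`, and `³D₄(q)`, `q ≠ 2` (helper148)
-/

set_option autoImplicit false

namespace Cfsg.Agent.H148.Hex

open Cfsg.Agent.Cit.HexBase Cfsg.Agent.SplitTwo Cfsg.Agent.Cit.HexBase.HexGrp

universe u

/-- a primitive root -/
theorem exists_prim (K : Type*) [Field K] [Fintype K] : ∃ ζ : K, ζ ≠ 0 ∧ ∀ n : ℕ, ζ ^ n = 1 → Fintype.card K - 1 ∣ n := by
  obtain ⟨g, hg⟩ := IsCyclic.exists_generator (α := Kˣ)
  have ho := orderOf_eq_card_of_forall_mem_zpowers hg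
  refine ⟨g, g.ne_zero, fun n hn => ?_⟩
  have h1 : g ^ n = 1 := Units.ext (by rw [Units.val_pow_eq_pow_val, hn, Units.val_one])
  have h2 := orderOf_dvd_of_pow_eq_one h1
  rwa [ho, Nat.card_units, Nat.card_eq_fintype_card] at h2

theorem two_dvd_card (K : Type*) [Field K] [Fintype K] [CharP K 2] : 2 ∣ Fintype.card K := by
  have := (inferInstance : Fact (Nat.Prime 2))
  obtain ⟨n, -, hn⟩ := FiniteField.card K 2
  rw [hn]
  exact dvd_pow_self 2 n.ne_zero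

theorem exists_ne {F : Type*} [Field F] [Fintype F] (h : 3 ≤ Fintype.card F) : ∃ a : F, a ≠ 0 ∧ a ≠ 1 := by
  classical
  by_contra hcon
  push Not at hcon
  have h1 : (Finset.univ : Finset F) ⊆ {0, 1} := by
    intro a _
    rw [Finset.mem_insert, Finset.mem_singleton]
    by_cases h0 : a = 0
    · exact Or.inl h0
    · exact Or.inr (hcon a h0)
  have h2 := Finset.card_le_card h1
  rw [Finset.card_univ] at h2
  have h3 := Finset.card_le_two (a := (0 : F)) (b := 1)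
  omega

theorem finite_g2 (F : Type u) [Field F] [Finite F] : Finite ↥(Cfsg.Lie.chevG2.group F) := by
  infer_instance

theorem g2_odd {F : Type u} [Field F] [Fintype F] (p : ℕ) [Fact p.Prime] [CharP F p] (h3 : 3 ≤ Fintype.card F)
    (h2 : (2 : F) ≠ 0) :
    ∃ x : ↥(Cfsg.Lie.chevG2.group F), ¬ p ∣ orderOf x ∧ ∀ g : ↥(Cfsg.Lie.chevG2.group F), g ≠ 1 → Pr x g :=
  odd_main (g2' F (exists_ne h3)) p h2

theorem g2_even {F : Type u} [Field F] [Fintype F] [CharP F 2] (h8 : 5 ≤ Fintype.card F) :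
    ∃ x : ↥(Cfsg.Lie.chevG2.group F), ¬ 2 ∣ orderOf x ∧ ∀ g : ↥(Cfsg.Lie.chevG2.group F), g ≠ 1 → Pr x g := by
  have hcard : 7 ≤ Fintype.card F - 1 ∧ (Fintype.card F - 1) % 2 = 1 := by
    have := (inferInstance : Fact (Nat.Prime 2))
    obtain ⟨n, -, hn⟩ := FiniteField.card F 2
    have h3 : 3 ≤ (n : ℕ) := by
      by_contra hlt
      have h4 : (n : ℕ) ≤ 2 := by omega
      have : Fintype.card F ≤ 2 ^ 2 := by rw [hn]; exact Nat.pow_le_pow_right (by norm_num) h4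
      omega
    have h4 : 2 ^ 3 ≤ Fintype.card F := by rw [hn]; exact Nat.pow_le_pow_right (by norm_num) h3
    have h5 := two_dvd_card F
    omega
  obtain ⟨ζ, hζ, hord⟩ := exists_prim F
  have key : ∀ n : ℕ, 0 < n → (n ≤ 6 ∨ n = 8 ∨ n = 10) → ζ ^ n ≠ 1 := by
    intro n h0 hn h1
    have hd := hord n h1
    rcases hn with hn | rfl | rfl
    · have := Nat.le_of_dvd h0 hd
      omega
    · have := Nat.le_of_dvd h0 hd
      obtain ⟨k, hk⟩ := hd
      have : Fintype.card F - 1 = 7 := by omega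
      rw [this] at hk
      omega
    · have := Nat.le_of_dvd h0 hd
      obtain ⟨k, hk⟩ := hd
      have : Fintype.card F - 1 = 7 ∨ Fintype.card F - 1 = 9 := by omega
      rcases this with h | h <;> rw [h] at hk <;> omega
  have hne1 : ζ ≠ 1 := fun h => key 1 (by norm_num) (by norm_num) (by rw [h, one_pow])
  let c := g2' F ⟨ζ, hζ, hne1⟩
  let e : ↥(fx (RingEquiv.refl F)) := ⟨ζ, rfl⟩
  have he : e ≠ 0 := fun h => hζ (congrArg Subtype.val h)
  have he1 : e ≠ 1 := fun h => hne1 (congrArg Subtype.val h)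
  have hs := act_p3_dg c (ζ ^ 3) (pow_ne_zero 3 hζ)
  have hnrm : nrm (RingEquiv.refl F) (ζ ^ 3) = ζ ^ 9 := by rw [nrm_of_fix rfl]; ring
  have e1 : nrm (RingEquiv.refl F) (ζ ^ 3) / (ζ ^ 3) ^ 2 = ζ ^ 3 := by
    rw [hnrm]
    field_simp
  rw [e1] at hs
  refine even_main c he he1 hs ?_ ?_ ?_ ?_ ?_
  · intro h
    refine key 2 (by norm_num) (by norm_num) ?_
    have h2 : ζ ^ 3 = ζ := h
    have h3 : ζ * (ζ ^ 2 - 1) = 0 := by linear_combination h2
    have := (mul_eq_zero.1 h3).resolve_left hζ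
    linear_combination this
  · intro h
    refine key 4 (by norm_num) (by norm_num) ?_
    have h2 : ζ ^ 3 * ζ = 1 := h
    linear_combination h2
  · intro h
    refine key 6 (by norm_num) (by norm_num) ?_
    have h2 : (ζ ^ 3) * (ζ ^ 3) = 1 := h
    linear_combination h2
  · rw [hnrm]
    intro h
    refine key 8 (by norm_num) (by norm_num) ?_
    have h2 : ζ ^ 9 = ζ := h
    have h3 : ζ * (ζ ^ 8 - 1) = 0 := by linear_combination h2
    have := (mul_eq_zero.1 h3).resolve_left hζ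
    linear_combination this
  · rw [hnrm]
    intro h
    refine key 10 (by norm_num) (by norm_num) ?_
    have h2 : ζ ^ 9 * ζ = 1 := h
    linear_combination h2

variable {K : Type u} [Field K] [Fintype K] {q : ℕ}

theorem finite_d4 : Finite ↥(Cfsg.Lie.twistedD4 K q) := by infer_instance

theorem d4_odd (p : ℕ) [Fact p.Prime] [CharP K p] (hK : Fintype.card K = q ^ 3) (h2 : (2 : K) ≠ 0) :
    ∃ x : ↥(Cfsg.Lie.twistedD4 K q), ¬ p ∣ orderOf x ∧ ∀ g : ↥(Cfsg.Lie.twistedD4 K q), g ≠ 1 → Pr x g := by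
  obtain ⟨σ, -, ⟨c⟩⟩ := Cfsg.Agent.Cit.HexD4.exists_d4 (K := K) (q := q) hK
  exact odd_main c p h2

theorem d4_even [CharP K 2] (hK : Fintype.card K = q ^ 3) (h2 : 3 ≤ q) :
    ∃ x : ↥(Cfsg.Lie.twistedD4 K q), ¬ 2 ∣ orderOf x ∧ ∀ g : ↥(Cfsg.Lie.twistedD4 K q), g ≠ 1 → Pr x g := by
  obtain ⟨σ, hσ, ⟨c⟩⟩ := Cfsg.Agent.Cit.HexD4.exists_d4 (K := K) (q := q) hK
  have h20 : (2 : K) = 0 := by exact_mod_cast CharP.cast_eq_zero K 2
  obtain ⟨ζ, hζ, hord⟩ := exists_prim K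
  rw [hK] at hord
  have hq3 : q ^ 3 - 1 = (q - 1) * (q ^ 2 + q + 1) := by
    obtain ⟨m, rfl⟩ : ∃ m, q = m + 1 := ⟨q - 1, by omega⟩
    have : (m + 1) ^ 3 = m * ((m + 1) ^ 2 + (m + 1) + 1) + 1 := by ring
    rw [this, Nat.add_sub_cancel, Nat.add_sub_cancel]
  have hfull : ζ ^ (q ^ 3 - 1) = 1 := by rw [← hK]; exact FiniteField.pow_card_sub_one_eq_one ζ hζ
  -- `e = ζ ^ (q² + q + 1)`
  have he1 : ζ ^ (q ^ 2 + q + 1) ≠ 1 := by
    intro h
    have h3 := Nat.le_of_dvd (by positivity) (hord _ h)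
    rw [hq3] at h3
    have h4 : 2 * (q ^ 2 + q + 1) ≤ (q - 1) * (q ^ 2 + q + 1) := Nat.mul_le_mul_right _ (by omega)
    have : 0 < q ^ 2 + q + 1 := by positivity
    omega
  have hfe : σ (ζ ^ (q ^ 2 + q + 1)) = ζ ^ (q ^ 2 + q + 1) := by
    rw [hσ, ← pow_mul, show (q ^ 2 + q + 1) * q = (q - 1) * (q ^ 2 + q + 1) + (q ^ 2 + q + 1) by
      obtain ⟨m, rfl⟩ : ∃ m, q = m + 1 := ⟨q - 1, by omega⟩
      rw [Nat.add_sub_cancel]
      ring, pow_add, ← hq3, hfull, one_mul]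
  -- `z = ζ ^ (q - 1)`
  obtain ⟨z, hz⟩ : ∃ z, z = ζ ^ (q - 1) := ⟨_, rfl⟩
  have hz0 : z ≠ 0 := by rw [hz]; exact pow_ne_zero _ hζ
  have hnz : nrm σ z = 1 := by
    have : nrm σ z = z ^ (q ^ 2 + q + 1) := by
      unfold nrm
      rw [hσ, hσ, ← pow_mul]
      ring
    rw [this, hz, ← pow_mul, ← hq3, hfull]
  have hzf : σ z ≠ z := by
    intro h
    rw [hσ] at h
    have h3 : z ^ (q - 1) = 1 := by
      have h4 : z * (z ^ (q - 1) - 1) = 0 := by
        have : z * z ^ (q - 1) = z ^ q := by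
          rw [← pow_succ']
          congr 1
          omega
        linear_combination this + h
      have := (mul_eq_zero.1 h4).resolve_left hz0
      linear_combination this
    rw [hz, ← pow_mul] at h3
    have h5 := Nat.le_of_dvd (Nat.mul_pos (by omega) (by omega)) (hord _ h3)
    rw [hq3] at h5
    have h6 := Nat.le_of_mul_le_mul_left h5 (by omega)
    have : 0 < q ^ 2 := by positivity
    omega
  have hs := act_p3_dg c z hz0
  rw [hnz] at hs
  have hsq : ∀ {y : K}, σ (y ^ 2) = y ^ 2 → σ y = y := by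
    intro y hy
    rw [map_pow] at hy
    have : (σ y - y) ^ 2 = 0 := by linear_combination hy + (y ^ 2 - σ y * y) * h20
    have := pow_eq_zero_iff (by norm_num) |>.1 this
    linear_combination this
  have hc1 : σ (1 / z ^ 2) ≠ 1 / z ^ 2 := by
    intro h
    apply hzf
    apply hsq
    rw [map_div₀, map_one] at h
    have h1 : σ (z ^ 2) ≠ 0 := (map_ne_zero σ).2 (pow_ne_zero 2 hz0)
    field_simp at h
    exact h.symm
  have hnc : nrm σ (1 / z ^ 2) = 1 := by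
    rw [one_div, nrm_inv, show z ^ 2 = z * z from pow_two z, nrm_mul, hnz, one_mul, inv_one]
  let e : ↥(fx σ) := ⟨ζ ^ (q ^ 2 + q + 1), hfe⟩
  have he0 : e ≠ 0 := fun h => pow_ne_zero _ hζ (congrArg Subtype.val h)
  have hee1 : e ≠ 1 := fun h => he1 (congrArg Subtype.val h)
  have heE : (e : K) ≠ 0 := pow_ne_zero _ hζ
  refine even_main c he0 hee1 hs ?_ ?_ ?_ ?_ ?_
  · intro h
    apply hc1
    rw [h]
    exact e.2
  · intro h
    apply hc1
    have h3 : 1 / z ^ 2 = (e : K)⁻¹ := by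
      field_simp at h ⊢
      exact h
    rw [h3]
    exact inv_fix e.2
  · intro h
    have h3 : nrm σ (1 / z ^ 2) = 1 / z ^ 2 * shp σ (1 / z ^ 2) := by unfold nrm shp; ring
    rw [h, hnc, mul_one] at h3
    apply hc1
    rw [← h3, map_one]
  · rw [hnc]
    intro h
    exact he1 h.symm
  · rw [hnc, one_mul]
    exact he1

end Cfsg.Agent.H148.Hex
end
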