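import Cfsg.Agent.H148.Coord
import Cfsg.Agent.H426.SL2Orders
set_option linter.all false

-- part: H148/OddSL
section
/-!
# Lemmas on `SL(2,K)`, `K` finite of odd characteristic (helper148)
-/

set_option autoImplicit false

namespace Cfsg.Agent.H148.SLTwo

open Cfsg.Agent.Lib.SL2Mat Polynomial

variable {K : Type*} [Field K]

/-- the invariant of the classes of `SL(2,K)` twisted by `diag(-1,1)` -/
def tau (m : S K) : K := ent m 1 1 - ent m 0 0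

theorem neg_one_ne : (-1 : K) ≠ 0 := neg_ne_zero.2 one_ne_zero

theorem tau_conj (y M : S K) : tau (y * M * conjGL (dgl (-1) neg_one_ne) y⁻¹) = tau M := by
  have hd := det_eq y
  unfold tau
  rw [conjGL_dgl_ent]
  simp only [ent_mul, mk_00, mk_01, mk_10, mk_11]
  rw [ent_inv]
  simp only [mk_00, mk_01, mk_10, mk_11]
  rw [neg_div_neg_eq, div_one]
  linear_combination (ent M 1 1 - ent M 0 0) * hd

theorem exists_std (M : S K) (h : tau M ^ 2 + 4 ≠ 0) : ∃ (y : S K) (δ : K), δ ≠ 0 ∧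
    ent (y * M * conjGL (dgl (-1) neg_one_ne) y⁻¹) 0 0 = 0 ∧
    ent (y * M * conjGL (dgl (-1) neg_one_ne) y⁻¹) 0 1 = δ ∧
    ent (y * M * conjGL (dgl (-1) neg_one_ne) y⁻¹) 1 0 = -δ⁻¹ ∧
    ent (y * M * conjGL (dgl (-1) neg_one_ne) y⁻¹) 1 1 = tau M := by
  obtain ⟨y, hy⟩ := exists_twisted M (-1) neg_one_ne (by
    rintro ⟨h1, h2, h3⟩
    apply h
    have hd := det_eq M
    rw [h1] at hd
    unfold tau
    rw [← h3] at hd ⊢
    linear_combination (-4) * hd) 0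
  have ht := tau_conj y M
  obtain ⟨N, hN⟩ : ∃ N, N = y * M * conjGL (dgl (-1) neg_one_ne) y⁻¹ := ⟨_, rfl⟩
  rw [← hN] at hy ht
  have hd := det_eq N
  rw [hy] at hd
  have h01 : ent N 0 1 ≠ 0 := by
    intro h0
    rw [h0] at hd
    simp at hd
  refine ⟨y, ent N 0 1, h01, ?_, ?_, ?_, ?_⟩
  · rw [← hN, hy]
  · rw [← hN]
  · rw [← hN]
    field_simp
    linear_combination -hd
  · rw [← hN, ← ht]
    unfold tau
    rw [hy, sub_zero]

theorem exists_quad [Fintype K] (h2 : (2 : K) ≠ 0) (A k : K) (hA : A ≠ 0) : ∃ X Y : K, X ^ 2 + A * Y ^ 2 = k := by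
  have hodd : Fintype.card K % 2 = 1 := by
    apply FiniteField.odd_card_of_char_ne_two
    intro hc
    apply h2
    have : CharP K 2 := ringChar.of_eq hc
    exact_mod_cast CharP.cast_eq_zero K 2
  have hf : (X ^ 2 - C k : K[X]).degree = 2 := degree_X_pow_sub_C (by norm_num) k
  have hg : (C A * X ^ 2 : K[X]).degree = 2 := by
    rw [degree_C_mul_X_pow _ hA]
    rfl
  obtain ⟨a, b, h⟩ := FiniteField.exists_root_sum_quadratic hf hg hodd
  refine ⟨a, b, ?_⟩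
  simp only [eval_sub, eval_pow, eval_X, eval_C, eval_mul] at h
  linear_combination h

/-- the conic `d² + T d e + e² - t₁ d - t₂ e - 1 = 0` -/
theorem exists_conic [Fintype K] (h2 : (2 : K) ≠ 0) (T t : K) :
    ∃ t1 t2 d e : K, (t1 = t ∨ t1 = -t) ∧ (t2 = t ∨ t2 = -t) ∧ d ^ 2 + T * d * e + e ^ 2 - t1 * d - t2 * e - 1 = 0 := by
  by_cases h1 : T = 2
  · refine ⟨t, -t, 1 / 2, 1 / 2, Or.inl rfl, Or.inr rfl, ?_⟩
    subst h1
    field_simp
    ring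
  by_cases h3 : T = -2
  · refine ⟨t, t, 1 / 2, -1 / 2, Or.inl rfl, Or.inl rfl, ?_⟩
    subst h3
    field_simp
    ring
  · have h4 : 4 - T ^ 2 ≠ 0 := by
      intro h
      have : (2 - T) * (2 + T) = 0 := by linear_combination h
      rcases mul_eq_zero.1 this with h | h
      · exact h1 (by linear_combination -h)
      · exact h3 (by linear_combination h)
    -- the centre
    obtain ⟨d0, hd0⟩ : ∃ d0, d0 = (2 - T) * t / (4 - T ^ 2) := ⟨_, rfl⟩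
    have e1 : (4 - T ^ 2) * d0 = (2 - T) * t := by rw [hd0]; field_simp
    have e2 : 2 * d0 + T * d0 = t := by
      have h5 : 2 - T ≠ 0 := fun h => h1 (by linear_combination -h)
      have : (2 - T) * (2 * d0 + T * d0 - t) = 0 := by linear_combination e1
      have := (mul_eq_zero.1 this).resolve_left h5
      linear_combination this
    obtain ⟨x, y, hxy⟩ := exists_quad h2 (1 - T ^ 2 / 4) (1 + t * d0) (by
      intro h
      apply h4
      have h44 : (4 : K) ≠ 0 := by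
        have : (4 : K) = 2 * 2 := by norm_num
        rw [this]
        exact mul_ne_zero h2 h2
      field_simp at h
      linear_combination h)
    refine ⟨t, t, d0 + (x - T * y / 2), d0 + y, Or.inl rfl, Or.inl rfl, ?_⟩
    have h44 : (4 : K) ≠ 0 := by
      have : (4 : K) = 2 * 2 := by norm_num
      rw [this]
      exact mul_ne_zero h2 h2
    have e3 : (d0 + (x - T * y / 2)) ^ 2 + T * (d0 + (x - T * y / 2)) * (d0 + y) + (d0 + y) ^ 2
        - t * (d0 + (x - T * y / 2)) - t * (d0 + y) - 1 =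
        (x ^ 2 + (1 - T ^ 2 / 4) * y ^ 2) + (2 * d0 + T * d0 - t) * (x - T * y / 2 + y + d0) - t * d0 - 1 := by
      field_simp
      ring
    rw [e3, e2, hxy]
    ring

/-- every element is, up to conjugation, a product of two elements with given `tau` -/
theorem exists_pair [Fintype K] (h2 : (2 : K) ≠ 0) (t : K) (l : S K) :
    ∃ y n : S K, (tau n = t ∨ tau n = -t) ∧ (tau (y * l * y⁻¹ * n) = t ∨ tau (y * l * y⁻¹ * n) = -t) := by
  by_cases hl : ent l 0 1 = 0 ∧ ent l 1 0 = 0 ∧ ent l 0 0 * 1 = ent l 1 1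
  · obtain ⟨h01, h10, h11⟩ := hl
    have hd := det_eq l
    rw [h01, ← h11] at hd
    have h1 : ent l 0 0 = 1 ∨ ent l 0 0 = -1 := by
      have : (ent l 0 0 - 1) * (ent l 0 0 + 1) = 0 := by linear_combination hd
      rcases mul_eq_zero.1 this with h | h
      · left; linear_combination h
      · right; linear_combination h
    refine ⟨1, mk 0 1 (-1) t (by ring), ?_, ?_⟩
    · left
      unfold tau
      simp
    · rw [inv_one, mul_one, one_mul]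
      unfold tau
      rw [ent_mul, ent_mul, mk_00, mk_01, mk_10, mk_11, h01, h10, ← h11]
      rcases h1 with h | h
      · left; rw [h]; ring
      · right; rw [h]; ring
  · obtain ⟨y, hy⟩ := exists_twisted l 1 one_ne_zero hl 0
    have hone : conjGL (dgl (1 : K) one_ne_zero) y⁻¹ = y⁻¹ := by
      rw [conjGL_dgl_ent]
      refine ext_ent ?_ ?_ ?_ ?_ <;> simp
    rw [hone] at hy
    obtain ⟨N, hN⟩ : ∃ N, N = y * l * y⁻¹ := ⟨_, rfl⟩
    rw [← hN] at hy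
    have hd := det_eq N
    rw [hy] at hd
    have h01 : ent N 0 1 ≠ 0 := by
      intro h0
      rw [h0] at hd
      simp at hd
    obtain ⟨t1, t2, d, e, ht1, ht2, hc⟩ := exists_conic h2 (ent N 1 1) t
    -- `n = [[d - t1, b], [c, d]]`, `e = -δ c`, `b = δ (T d + e - t2)`
    refine ⟨y, mk (d - t1) (ent N 0 1 * (ent N 1 1 * d + e - t2)) (-(e / ent N 0 1)) d ?_, ?_, ?_⟩
    · field_simp
      linear_combination hc
    · unfold tau
      rw [mk_00, mk_11]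
      rcases ht1 with h | h <;> [left; right] <;> rw [h] <;> ring
    · rw [← hN]
      have e2 : tau (N * mk (d - t1) (ent N 0 1 * (ent N 1 1 * d + e - t2)) (-(e / ent N 0 1)) d (by
          field_simp
          linear_combination hc)) = t2 := by
        unfold tau
        rw [ent_mul, ent_mul, mk_00, mk_01, mk_10, mk_11, hy]
        field_simp
        linear_combination -(ent N 1 1 * d + e - t2) * hd
      rw [e2]
      exact ht2

/-- an element with trace different from `± 2` has order prime to `p` -/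
theorem pow_of_trace (p : ℕ) [Fact p.Prime] [CharP K p] [Fintype K] (M : S K) (h : (ent M 0 0 + ent M 1 1) ^ 2 ≠ 4) :
    M ^ (Fintype.card K - 1) = 1 ∨ M ^ (Fintype.card K + 1) = 1 := by
  rcases Cfsg.Agent.H426.sl2_pow_cases p M with h1 | h1 | h1
  · exact Or.inl h1
  · exact Or.inr h1
  · exfalso
    apply h
    have h2 : (M ^ 2) ^ p = 1 := by rw [← pow_mul]; exact h1
    -- `(M² - 1)^p = 0`
    have h3 : ((M ^ 2).1 - 1) ^ p = 0 := by
      rw [sub_pow_char_of_commute p (Commute.one_right _), one_pow, sub_eq_zero]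
      have := congrArg Subtype.val h2
      rwa [Matrix.SpecialLinearGroup.coe_pow] at this
    have h4 : (((M ^ 2).1 - 1).det) = 0 := by
      have := congrArg Matrix.det h3
      rw [Matrix.det_pow, Matrix.det_zero] at this
      exact pow_eq_zero_iff (Fact.out : p.Prime).ne_zero |>.1 this
    rw [Matrix.det_fin_two] at h4
    have hd := det_eq M
    have e00 : ((M ^ 2).1 - 1) 0 0 = ent M 0 0 * ent M 0 0 + ent M 0 1 * ent M 1 0 - 1 := by
      rw [Matrix.sub_apply, Matrix.one_apply_eq, pow_two]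
      congr 1
      exact ent_mul M M 0 0
    have e01 : ((M ^ 2).1 - 1) 0 1 = ent M 0 0 * ent M 0 1 + ent M 0 1 * ent M 1 1 := by
      rw [Matrix.sub_apply, Matrix.one_apply_ne (by decide), sub_zero, pow_two]
      exact ent_mul M M 0 1
    have e10 : ((M ^ 2).1 - 1) 1 0 = ent M 1 0 * ent M 0 0 + ent M 1 1 * ent M 1 0 := by
      rw [Matrix.sub_apply, Matrix.one_apply_ne (by decide), sub_zero, pow_two]
      exact ent_mul M M 1 0
    have e11 : ((M ^ 2).1 - 1) 1 1 = ent M 1 0 * ent M 0 1 + ent M 1 1 * ent M 1 1 - 1 := by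
      rw [Matrix.sub_apply, Matrix.one_apply_eq, pow_two]
      congr 1
      exact ent_mul M M 1 1
    rw [e00, e01, e10, e11] at h4
    have e : (ent M 0 0 * ent M 1 1 - ent M 0 1 * ent M 1 0) ^ 2 - ((ent M 0 0 + ent M 1 1) ^ 2 -
        2 * (ent M 0 0 * ent M 1 1 - ent M 0 1 * ent M 1 0)) + 1 = 0 := by linear_combination h4
    rw [hd] at e
    linear_combination -e

/-- parameters -/
theorem exists_t0 (h2 : (2 : K) ≠ 0) : ∃ t : K, t ≠ 0 ∧ t ^ 2 + 4 ≠ 0 := by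
  by_cases h5 : (5 : K) = 0
  · refine ⟨2, h2, fun h => one_ne_zero (α := K) ?_⟩
    have h8 : (8 : K) = 0 := by linear_combination h
    linear_combination 2 * h8 - 3 * h5
  · exact ⟨1, one_ne_zero, fun h => h5 (by linear_combination h)⟩

end Cfsg.Agent.H148.SLTwo
end

-- part: H148/CoordW
section
/-!
# Groups of type `G₂` and `³D₄`: coordinates on `Qb` modulo `⟨X 2, X 3, X 4⟩`, fixed points (helper148)
-/

set_option autoImplicit false

namespace Cfsg.Agent.H148.Hex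

open Cfsg.Agent.SplitTwo Cfsg.Agent.TitsThree.RankTwoZ Cfsg.Agent.Lib.SL2Mat Cfsg.Agent.Cit.HexBase
  Cfsg.Agent.Cit.HexBase.HexGrp Cfsg.Agent.H148.SLTwo
open scoped commutatorElement

universe u

variable {E : Type*} [Field E] {σ : E ≃+* E} {L : Type u} [Group L] (c : HexGrp σ L)

/-- the unipotent radical of the long root parabolic subgroup -/
abbrev Qb : Finset (ZMod (2 * 6)) := {1, 2, 3, 4, 5}
/-- its opposite -/
abbrev Qb' : Finset (ZMod (2 * 6)) := {7, 8, 9, 10, 11}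
/-- the unipotent radical of the short root parabolic subgroup -/
abbrev Qa : Finset (ZMod (2 * 6)) := {2, 3, 4, 5, 6}
/-- its opposite -/
abbrev Qa' : Finset (ZMod (2 * 6)) := {8, 9, 10, 11, 0}

/-- coordinates modulo `Sg {2, 3, 4}` -/
def W (g : L) (a5 a1 : E) : Prop := ∃ k ∈ Sg c.X {2, 3, 4}, g = c.x5 a5 * c.x1 a1 * k

variable {c}

theorem W.mem {g : L} {a5 a1 : E} (h : W c g a5 a1) : g ∈ Sg c.X Qb := by
  obtain ⟨k, hk, rfl⟩ := h
  exact mul_mem (mul_mem (c.sg (by decide) (c.mem5 _)) (c.sg (by decide) (c.mem1 _))) (Sg_mono (by decide +kernel) hk)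

theorem W.congr {g g' : L} {a5 a1 b5 b1 : E} (h : W c g a5 a1) (e : g = g') (e5 : a5 = b5) (e1 : a1 = b1) :
    W c g' b5 b1 := by
  subst e e5 e1
  exact h

theorem conjN5 (a : E) : ∀ g ∈ Sg c.X {2, 3, 4}, c.x5 a * g * (c.x5 a)⁻¹ ∈ Sg c.X {2, 3, 4} := fun g hg =>
  c.conj_mem_Sg (k := 5) (by decide +kernel) (c.mem5 a) hg

theorem conjN1 (a : E) : ∀ g ∈ Sg c.X {2, 3, 4}, c.x1 a * g * (c.x1 a)⁻¹ ∈ Sg c.X {2, 3, 4} := fun g hg =>
  c.conj_mem_Sg (k := 1) (by decide +kernel) (c.mem1 a) hg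

/-- `k x5 b = x5 b k'` -/
theorem N_x5 (b : E) {k : L} (hk : k ∈ Sg c.X {2, 3, 4}) : ∃ k' ∈ Sg c.X {2, 3, 4}, k * c.x5 b = c.x5 b * k' := by
  refine ⟨(c.x5 b)⁻¹ * k * c.x5 b, ?_, by group⟩
  have := conjN5 (c := c) (-b) k hk
  rwa [c.x5_neg, inv_inv] at this

theorem N_x1 (b : E) {k : L} (hk : k ∈ Sg c.X {2, 3, 4}) : ∃ k' ∈ Sg c.X {2, 3, 4}, k * c.x1 b = c.x1 b * k' := by
  refine ⟨(c.x1 b)⁻¹ * k * c.x1 b, ?_, by group⟩
  have := conjN1 (c := c) (-b) k hk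
  rwa [c.x1_neg, inv_inv] at this

theorem x1_x5 (a b : E) : ∃ k ∈ Sg c.X {2, 3, 4}, c.x1 a * c.x5 b = c.x5 b * c.x1 a * k := by
  refine ⟨kk (c.x1 a) (c.x5 b), ?_, mul_eq_kk _ _⟩
  rw [c.par.rel.c15]
  exact mul_mem (mul_mem (c.sg (by decide) (c.mem2 (neg_fix (trc_fix c.cube _ _)))) (c.sg (by decide) (c.mem3 _)))
    (c.sg (by decide) (c.mem4 (trc_fix c.cube _ _)))

theorem W.mul {g h : L} {a5 a1 b5 b1 : E} (hg : W c g a5 a1) (hh : W c h b5 b1) : W c (g * h) (a5 + b5) (a1 + b1) := by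
  obtain ⟨k, hk, rfl⟩ := hg
  obtain ⟨l, hl, rfl⟩ := hh
  obtain ⟨k', hk', e1⟩ := N_x5 (c := c) b5 hk
  obtain ⟨k'', hk'', e2⟩ := N_x1 (c := c) b1 hk'
  obtain ⟨j, hj, e3⟩ := x1_x5 (c := c) a1 b5
  obtain ⟨j', hj', e4⟩ := N_x1 (c := c) b1 hj
  refine ⟨j' * k'' * l, mul_mem (mul_mem hj' hk'') hl, ?_⟩
  rw [c.x5_add, c.x1_add]
  calc c.x5 a5 * c.x1 a1 * k * (c.x5 b5 * c.x1 b1 * l)
      = c.x5 a5 * c.x1 a1 * (k * c.x5 b5) * c.x1 b1 * l := by group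
    _ = c.x5 a5 * (c.x1 a1 * c.x5 b5) * (k' * c.x1 b1) * l := by rw [e1]; group
    _ = c.x5 a5 * (c.x5 b5 * c.x1 a1 * j) * (c.x1 b1 * k'') * l := by rw [e2, e3]
    _ = c.x5 a5 * c.x5 b5 * c.x1 a1 * (j * c.x1 b1) * k'' * l := by group
    _ = _ := by rw [e4]; group

variable (c)

theorem w0 {g : L} (hg : g ∈ Sg c.X {2, 3, 4}) : W c g 0 0 := ⟨g, hg, by rw [c.x5_zero, c.x1_zero]; group⟩
theorem w5 (a : E) : W c (c.x5 a) a 0 := ⟨1, one_mem _, by rw [c.x1_zero]; group⟩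
theorem w1 (a : E) : W c (c.x1 a) 0 a := ⟨1, one_mem _, by rw [c.x5_zero]; group⟩

theorem exists_W {g : L} (hg : g ∈ Sg c.X Qb) : ∃ a5 a1, W c g a5 a1 := by
  have hv1 : g ∈ Sg c.X (insert 5 {1, 2, 3, 4}) := Sg_mono (by decide +kernel) hg
  obtain ⟨a5, h5, v, hv, rfl⟩ := c.exists_mul (k := 5) (s := {1, 2, 3, 4}) (by decide +kernel) hv1
  have hv2 : v ∈ Sg c.X (insert 1 {2, 3, 4}) := hv
  obtain ⟨a1, h1, k, hk, rfl⟩ := c.exists_mul (k := 1) (s := {2, 3, 4}) (by decide +kernel) hv2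
  obtain ⟨b5, rfl⟩ := (c.par.mem5 _).1 h5
  obtain ⟨b1, rfl⟩ := (c.par.mem1 _).1 h1
  exact ⟨b5, b1, k, hk, by group⟩

variable {c}

theorem W.unique {g : L} {a5 a1 b5 b1 : E} (h : W c g a5 a1) (h' : W c g b5 b1) : a5 = b5 ∧ a1 = b1 := by
  obtain ⟨k, hk, e⟩ := h
  obtain ⟨k', hk', e'⟩ := h'
  have h1 := c.peel (k := 5) (s := {1, 2, 3, 4}) (by decide +kernel) (c.mem5 a5)
    (mul_mem (c.sg (by decide) (c.mem1 a1)) (Sg_mono (by decide +kernel) hk) : c.x1 a1 * k ∈ Sg c.X {1, 2, 3, 4}) (c.mem5 b5)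
    (mul_mem (c.sg (by decide) (c.mem1 b1)) (Sg_mono (by decide +kernel) hk') : c.x1 b1 * k' ∈ Sg c.X {1, 2, 3, 4})
    (by rw [← mul_assoc, ← mul_assoc, ← e, e'])
  have h2 := c.peel (k := 1) (s := {2, 3, 4}) (by decide +kernel) (c.mem1 a1) hk (c.mem1 b1) hk' h1.2
  exact ⟨c.x5_inj h1.1, c.x1_inj h2.1⟩

theorem W.mem0 {g : L} {a5 a1 : E} (h : W c g a5 a1) (e5 : a5 = 0) (e1 : a1 = 0) : g ∈ Sg c.X {2, 3, 4} := by
  obtain ⟨k, hk, rfl⟩ := h
  rw [e5, e1, c.x5_zero, c.x1_zero, one_mul, one_mul]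
  exact hk

variable (c)

theorem lo_x5 (t : ↥(fx σ)) (a : E) : W c (c.pa (lo t) * c.x5 a * (c.pa (lo t))⁻¹) a (t * a) := by
  have ht : σ (-(t : E)) = -(t : E) := neg_fix t.2
  have h := c.conj61 a (-(t : E)) ht
  have h2 : c.n6 * c.x6 (-(t : E)) * c.n6⁻¹ = c.pa (lo t) := by
    have e : c.x6 (-(t : E)) = c.pa (up (-t)) := (c.pa_up (-t)).symm
    rw [e, HexGrp.n6, ← map_inv, ← map_mul, ← map_mul, wm_up']
    congr 2
    ring
  obtain ⟨k, hk⟩ : ∃ k, k = c.x2 (-(t : E) * nrm σ a) * c.x3 (-(-(t : E) * shp σ a)) *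
    c.x4 ((-(t : E)) ^ 2 * nrm σ a) := ⟨_, rfl⟩
  have hkm : k ∈ Sg c.X {2, 3, 4} := by
    rw [hk]
    exact mul_mem (mul_mem (c.sg (by decide) (c.mem2 (mul_fix ht (c.nf a)))) (c.sg (by decide) (c.mem3 _)))
      (c.sg (by decide) (c.mem4 (mul_fix (by rw [map_pow, ht]) (c.nf a))))
  have hk2 : c.n6 * k * c.n6⁻¹ ∈ Sg c.X {2, 3, 4} := conj_Sg c.maps_n6 (by decide +kernel) hkm
  have e : c.pa (lo t) * c.x5 a * (c.pa (lo t))⁻¹ = c.x5 a * (c.n6 * k * c.n6⁻¹) * c.x1 (t * a) := by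
    have e5 : c.x1 (t * a) = c.n6 * c.x5 (-(t : E) * a) * c.n6⁻¹ := by
      rw [n6_x5]
      congr 1
      ring
    rw [← h2, ← n6_x1 (c := c) a, e5]
    calc _ = c.n6 * (c.x6 (-(t : E)) * c.x1 a * (c.x6 (-(t : E)))⁻¹) * c.n6⁻¹ := by group
      _ = _ := by rw [h, ← hk]; group
  rw [e]
  exact (((w5 c a).mul (w0 c hk2)).mul (w1 c _)).congr rfl (by ring) (by ring)

theorem up_x1 (t : ↥(fx σ)) (a : E) : W c (c.pa (up t) * c.x1 a * (c.pa (up t))⁻¹) (t * a) a := by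
  have ht : σ (t : E) = (t : E) := t.2
  have h := c.conj61 a (t : E) ht
  obtain ⟨k, hk⟩ : ∃ k, k = c.x2 ((t : E) * nrm σ a) * c.x3 (-((t : E) * shp σ a)) *
    c.x4 ((t : E) ^ 2 * nrm σ a) := ⟨_, rfl⟩
  have hkm : k ∈ Sg c.X {2, 3, 4} := by
    rw [hk]
    exact mul_mem (mul_mem (c.sg (by decide) (c.mem2 (mul_fix ht (c.nf a)))) (c.sg (by decide) (c.mem3 _)))
      (c.sg (by decide) (c.mem4 (mul_fix (by rw [map_pow, ht]) (c.nf a))))
  rw [c.pa_up, h, ← hk]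
  exact ((w1 c a).mul ((w0 c hkm).mul (w5 c _))).congr rfl (by ring) (by ring)

theorem comm56 (t : ↥(fx σ)) (a : E) : c.pa (up t) * c.x5 a * (c.pa (up t))⁻¹ = c.x5 a := by
  rw [c.pa_up, ← eq_of_kk (c.par.rel.c56 a t t.2)]
  group

theorem comm01 (t : ↥(fx σ)) (a : E) : c.pa (lo t) * c.x1 a * (c.pa (lo t))⁻¹ = c.x1 a := by
  have h := c.comm (k := 0) (j := 1) (by decide) (by decide) ((c.pa_lo _).2 ⟨t, rfl⟩) (c.mem1 a)
  have h0 : bt (0 : ZMod (2 * 6)) 1 = ∅ := by decide +kernel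
  rw [h0] at h
  have h1 : ⁅c.pa (lo t), c.x1 a⁆ = 1 := by
    have : Sg c.X ∅ = ⊥ := by unfold Sg; simp
    rw [this] at h
    exact Subgroup.mem_bot.1 h
  rw [commutatorElement_def] at h1
  exact mul_inv_eq_one.1 h1

variable {c}

/-- `pa` on `Qb` modulo `Sg {2, 3, 4}` -/
theorem W.pa {g : L} {a5 a1 : E} (h : W c g a5 a1) (m : SL2 ↥(fx σ)) :
    W c (c.pa m * g * (c.pa m)⁻¹) (ent m 0 0 * a5 + ent m 0 1 * a1) (ent m 1 0 * a5 + ent m 1 1 * a1) := by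
  have hN : ∀ (m : SL2 ↥(fx σ)) (k : L), k ∈ Sg c.X {2, 3, 4} → c.pa m * k * (c.pa m)⁻¹ ∈ Sg c.X {2, 3, 4} :=
    fun m k hk => by
      obtain ⟨t2, b, t4, hV⟩ := exists_V c hk
      exact (V.pa c hV m).mem
  have hu : ∀ (s : ↥(fx σ)) {g : L} {a5 a1 : E}, W c g a5 a1 →
      W c (c.pa (up s) * g * (c.pa (up s))⁻¹) (a5 + s * a1) a1 := by
    rintro s g a5 a1 ⟨k, hk, rfl⟩
    have e : c.pa (up s) * (c.x5 a5 * c.x1 a1 * k) * (c.pa (up s))⁻¹ =
        (c.pa (up s) * c.x5 a5 * (c.pa (up s))⁻¹) * (c.pa (up s) * c.x1 a1 * (c.pa (up s))⁻¹) *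
          (c.pa (up s) * k * (c.pa (up s))⁻¹) := by group
    rw [e, comm56]
    exact (((w5 c a5).mul (up_x1 c s a1)).mul (w0 c (hN _ k hk))).congr rfl (by ring) (by ring)
  have hl : ∀ (s : ↥(fx σ)) {g : L} {a5 a1 : E}, W c g a5 a1 →
      W c (c.pa (lo s) * g * (c.pa (lo s))⁻¹) a5 (a1 + s * a5) := by
    rintro s g a5 a1 ⟨k, hk, rfl⟩
    have e : c.pa (lo s) * (c.x5 a5 * c.x1 a1 * k) * (c.pa (lo s))⁻¹ =
        (c.pa (lo s) * c.x5 a5 * (c.pa (lo s))⁻¹) * (c.pa (lo s) * c.x1 a1 * (c.pa (lo s))⁻¹) *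
          (c.pa (lo s) * k * (c.pa (lo s))⁻¹) := by group
    rw [e, comm01]
    exact (((lo_x5 c s a5).mul (w1 c a1)).mul (w0 c (hN _ k hk))).congr rfl (by ring) (by ring)
  obtain ⟨p, q, r, s, rfl⟩ := exists_up_lo m
  refine (hu p (hl q (hu r (hl s h)))).congr ?_ ?_ ?_
  · rw [map_mul, map_mul, map_mul]
    group
  · simp only [ent_mul, up_00, up_01, up_10, up_11, lo_00, lo_01, lo_10, lo_11]
    push_cast
    ring
  · simp only [ent_mul, up_00, up_01, up_10, up_11, lo_00, lo_01, lo_10, lo_11]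
    push_cast
    ring

/-- the torus on `Qb` modulo `Sg {2, 3, 4}` -/
theorem W.act {g s : L} {a5 a1 c1 c6 : E} (h : W c g a5 a1) (hs : c.Act s c1 c6) :
    W c (s * g * s⁻¹) (c6 * c1 * a5) (c1 * a1) := by
  obtain ⟨k, hk, rfl⟩ := h
  refine ⟨s * k * s⁻¹, c.T0_conj ⟨_, _, hs⟩ hk, ?_⟩
  rw [← hs.a5, ← hs.a1]
  group

theorem V.act {g s : L} {t2 b t4 c1 c6 : E} (h : V c g t2 b t4) (hs : c.Act s c1 c6) :
    V c (s * g * s⁻¹) (c6 * nrm σ c1 * t2) (c6 * shp σ c1 * b) (c6 ^ 2 * nrm σ c1 * t4) := by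
  obtain ⟨h2, h4, rfl⟩ := h
  refine ⟨mul_fix (mul_fix hs.fix (c.nf c1)) h2, mul_fix (mul_fix (by rw [map_pow, hs.fix]) (c.nf c1)) h4, ?_⟩
  rw [← hs.a2 _ h2, ← hs.a3, ← hs.a4 _ h4]
  group

/-! ### Fixed point free action -/

/-- `x` normalises `Q` and acts fixed point freely on it -/
def Fpf (x : L) (Q : Subgroup L) : Prop := (∀ g ∈ Q, x * g * x⁻¹ ∈ Q) ∧ ∀ g ∈ Q, x * g * x⁻¹ = g → g = 1

theorem lin_zero {K : Type*} [Field K] {a b d e u v : K} (h1 : u = a * u + b * v) (h2 : v = d * u + e * v)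
    (h : (1 - a) * (1 - e) - b * d ≠ 0) : u = 0 ∧ v = 0 := by
  constructor
  · have : ((1 - a) * (1 - e) - b * d) * u = 0 := by linear_combination (1 - e) * h1 + b * h2
    exact (mul_eq_zero.1 this).resolve_left h
  · have : ((1 - a) * (1 - e) - b * d) * v = 0 := by linear_combination (1 - a) * h2 + d * h1
    exact (mul_eq_zero.1 this).resolve_left h

variable (c)

/-- criterion for a fixed point free action on `Qb` -/
theorem fpf_Qb (m : SL2 ↥(fx σ)) {s : L} {c1 c6 : E} (hs : c.Act s c1 c6)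
    (hA : 1 - c1 * (c6 * ent m 0 0 + ent m 1 1) + c1 ^ 2 * c6 ≠ 0) (hB : c6 * shp σ c1 ≠ 1)
    (hC : 1 - nrm σ c1 * c6 * (c6 * ent m 0 0 + ent m 1 1) + nrm σ c1 ^ 2 * c6 ^ 3 ≠ 0) :
    Fpf (c.pa m * s) (Sg c.X Qb) := by
  have hd : ((ent m 0 0 : ↥(fx σ)) : E) * ((ent m 1 1 : ↥(fx σ)) : E) -
      ((ent m 0 1 : ↥(fx σ)) : E) * ((ent m 1 0 : ↥(fx σ)) : E) = 1 := by
    have := congrArg (fun x : ↥(fx σ) => (x : E)) (det_eq m)
    simpa using this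
  constructor
  · intro g hg
    have h1 := c.T0_conj ⟨_, _, hs⟩ hg
    have h2 := pa_conj c (by decide +kernel) (by decide +kernel) m _ h1
    have e : c.pa m * s * g * (c.pa m * s)⁻¹ = c.pa m * (s * g * s⁻¹) * (c.pa m)⁻¹ := by group
    rwa [e]
  · intro g hg e
    have e' : c.pa m * (s * g * s⁻¹) * (c.pa m)⁻¹ = g :=
      (show c.pa m * (s * g * s⁻¹) * (c.pa m)⁻¹ = c.pa m * s * g * (c.pa m * s)⁻¹ by group).trans e
    obtain ⟨a5, a1, hW⟩ := exists_W c hg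
    have h1 := ((hW.act hs).pa m).congr e' rfl rfl
    obtain ⟨k5, k1⟩ := hW.unique h1
    obtain ⟨z5, z1⟩ := lin_zero (u := a5) (v := a1) (a := ((ent m 0 0 : ↥(fx σ)) : E) * (c6 * c1)) (b := ((ent m 0 1 : ↥(fx σ)) : E) * c1)
      (d := ((ent m 1 0 : ↥(fx σ)) : E) * (c6 * c1)) (e := ((ent m 1 1 : ↥(fx σ)) : E) * c1) (by linear_combination k5)
      (by linear_combination k1) (by
        intro h
        apply hA
        linear_combination h - c1 ^ 2 * c6 * hd)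
    obtain ⟨t2, b, t4, hV⟩ := exists_V c (hW.mem0 z5 z1)
    have h2 := (V.pa c (hV.act hs) m).congr e' rfl rfl rfl
    obtain ⟨k2, k3, k4⟩ := hV.unique h2
    have zb : b = 0 := by
      have : (c6 * shp σ c1 - 1) * b = 0 := by linear_combination -k3
      exact (mul_eq_zero.1 this).resolve_left (sub_ne_zero.2 hB)
    obtain ⟨z2, z4⟩ := lin_zero (u := t2) (v := t4) (a := ((ent m 1 1 : ↥(fx σ)) : E) * (c6 * nrm σ c1)) (b := -((ent m 1 0 : ↥(fx σ)) : E) * (c6 ^ 2 * nrm σ c1))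
      (d := -((ent m 0 1 : ↥(fx σ)) : E) * (c6 * nrm σ c1)) (e := ((ent m 0 0 : ↥(fx σ)) : E) * (c6 ^ 2 * nrm σ c1))
      (by linear_combination k2) (by linear_combination k4) (by
        intro h
        apply hC
        linear_combination h - nrm σ c1 ^ 2 * c6 ^ 3 * hd)
    have e3 := hV.2.2
    rw [e3, z2, zb, z4, c.x2_zero, c.x3_zero, c.x4_zero]
    group

end Cfsg.Agent.H148.Hex
end

-- part: H148/Gauss
section
/-!
# Groups of type `G₂` and `³D₄`: a Gauss decomposition with prescribed torus part (helper148)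

`exists_weak_gauss`: if the fixed field has at least three elements, every `g ≠ 1` is conjugate to an element
`v * pa l * u`, `v ∈ Qb'`, `u ∈ Qb`, `l ∈ SL(2,F)`.
-/

set_option autoImplicit false

namespace Cfsg.Agent.H148.Hex

open Cfsg.Agent.SplitTwo Cfsg.Agent.TitsThree.RankTwoZ Cfsg.Agent.Lib.SL2Mat Cfsg.Agent.Cit.HexBase
  Cfsg.Agent.Cit.HexBase.HexGrp Cfsg.Agent.H148.SLTwo
open scoped commutatorElement

universe u

variable {E : Type*} [Field E] {σ : E ≃+* E} {L : Type u} [Group L] (c : HexGrp σ L)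

theorem coe_ne' {r : ↥(fx σ)} (hr : r ≠ 0) : (r : E) ≠ 0 := fun h => hr (Subtype.ext h)

/-- `pa (dg r)` past `pb` -/
theorem pa_dg_pb' (r : ↥(fx σ)) (hr : r ≠ 0) (x : SL2 E) :
    c.pa (dg r hr) * c.pb x =
      c.pb (conjGL (dgl (r : E)⁻¹ (inv_ne_zero (coe_ne' hr))) x) * c.pa (dg r hr) := by
  rw [← (c.act_a r hr).pb x]
  group

theorem pa_dg_up (r : ↥(fx σ)) (hr : r ≠ 0) (a : E) :
    c.pa (dg r hr) * c.pb (up a) = c.pb (up ((r : E)⁻¹ * a)) * c.pa (dg r hr) := by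
  rw [pa_dg_pb', conjGL_dgl_up]

/-- `q' * (pb M * pa (dg r)) * q` -/
def FA (g q' : L) (M : SL2 E) (r : ↥(fx σ)) (hr : r ≠ 0) (q : L) : Prop :=
  q' ∈ Sg c.X Qa' ∧ q ∈ Sg c.X Qa ∧ g = q' * (c.pb M * c.pa (dg r hr)) * q

/-- the `L_α`-parts of all conjugates are central -/
def Cen (g : L) : Prop := ∀ y q' M r hr q, FA c (y * g * y⁻¹) q' M r hr q →
  ent M 0 1 = 0 ∧ ent M 1 0 = 0 ∧ ent M 0 0 * (r : E)⁻¹ = ent M 1 1

variable {c}

theorem Cen.conj {g : L} (h : Cen c g) (y : L) : Cen c (y * g * y⁻¹) := by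
  intro z q' M r hr q hF
  refine h (z * y) q' M r hr q ?_
  have e : z * y * g * (z * y)⁻¹ = z * (y * g * y⁻¹) * z⁻¹ := by group
  rwa [e]

theorem FA.conj_pb {g q' : L} {M : SL2 E} {r : ↥(fx σ)} {hr : r ≠ 0} {q : L} (h : FA c g q' M r hr q) (m : SL2 E) :
    FA c (c.pb m * g * (c.pb m)⁻¹) (c.pb m * q' * (c.pb m)⁻¹)
      (m * M * conjGL (dgl (r : E)⁻¹ (inv_ne_zero (coe_ne' hr))) m⁻¹) r hr (c.pb m * q * (c.pb m)⁻¹) := by
  obtain ⟨h1, h2, rfl⟩ := h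
  refine ⟨pb_conj c (by decide +kernel) (by decide +kernel) m q' h1,
    pb_conj c (by decide +kernel) (by decide +kernel) m q h2, ?_⟩
  have e := pa_dg_pb' c r hr m⁻¹
  rw [map_mul, map_mul]
  calc c.pb m * (q' * (c.pb M * c.pa (dg r hr)) * q) * (c.pb m)⁻¹
      = c.pb m * q' * (c.pb m)⁻¹ * (c.pb m * c.pb M * (c.pa (dg r hr) * c.pb m⁻¹)) * (c.pb m * q * (c.pb m)⁻¹) := by
        rw [map_inv]; group
    _ = _ := by rw [e]; group

/-- the form of an element of the big cell -/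
theorem FA_of {q' q : L} (hq' : q' ∈ Sg c.X Qa') (hq : q ∈ Sg c.X Qa) (a s b : E) (hs : s ≠ 0) (r : ↥(fx σ)) (hr : r ≠ 0) :
    FA c (q' * c.pb (lo a) * (c.pb (dg s hs) * c.pa (dg r hr)) * c.pb (up b) * q) q'
      (lo a * dg s hs * up ((r : E)⁻¹ * b)) r hr q := by
  refine ⟨hq', hq, ?_⟩
  have e := pa_dg_up c r hr b
  rw [map_mul, map_mul]
  calc q' * c.pb (lo a) * (c.pb (dg s hs) * c.pa (dg r hr)) * c.pb (up b) * q
      = q' * c.pb (lo a) * c.pb (dg s hs) * (c.pa (dg r hr) * c.pb (up b)) * q := by group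
    _ = _ := by rw [e]; group

theorem Cen.cell {g : L} (h : Cen c g) {y q' q : L} (hq' : q' ∈ Sg c.X Qa') (hq : q ∈ Sg c.X Qa) {a s b : E} {hs : s ≠ 0}
    {r : ↥(fx σ)} {hr : r ≠ 0}
    (e : y * g * y⁻¹ = q' * c.pb (lo a) * (c.pb (dg s hs) * c.pa (dg r hr)) * c.pb (up b) * q) :
    a = 0 ∧ b = 0 ∧ s ^ 2 * (r : E)⁻¹ = 1 := by
  have hF := FA_of (c := c) hq' hq a s b hs r hr
  rw [← e] at hF
  obtain ⟨h1, h2, h3⟩ := h _ _ _ _ _ _ hF
  have hr' := coe_ne' hr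
  simp only [ent_mul, lo_00, lo_01, lo_10, lo_11, dg_00, dg_01, dg_10, dg_11, up_00, up_01, up_10, up_11] at h1 h2 h3
  have ha : a = 0 := by
    have : a * s = 0 := by linear_combination h2
    exact (mul_eq_zero.1 this).resolve_right hs
  have hb : b = 0 := by
    have h4 : s * ((r : E)⁻¹ * b) = 0 := by linear_combination h1
    exact (mul_eq_zero.1 ((mul_eq_zero.1 h4).resolve_left hs)).resolve_left (inv_ne_zero hr')
  refine ⟨ha, hb, ?_⟩
  rw [ha, hb] at h3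
  have h5 : s * (r : E)⁻¹ = s⁻¹ := by linear_combination h3
  calc s ^ 2 * (r : E)⁻¹ = s * (s * (r : E)⁻¹) := by ring
    _ = 1 := by rw [h5, mul_inv_cancel₀ hs]

theorem ldu_pa {M : SL2 ↥(fx σ)} (h : ent M 0 0 ≠ 0) : ∃ x w hw x', c.pa M = c.pa (lo x) * c.pa (dg w hw) * c.pa (up x') := by
  refine ⟨ent M 1 0 / ent M 0 0, ent M 0 0, h, ent M 0 1 / ent M 0 0, ?_⟩
  rw [← map_mul, ← map_mul]
  exact congrArg c.pa (ldu M h)

/-- `q = x6 d * q2`: the component in `X 5` vanishes -/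
theorem Cen.five {g : L} (h : Cen c g) {z0 : ↥(fx σ)} (hz0 : z0 ≠ 0) (hz1 : z0 ≠ 1) {q' t q : L} (hq' : q' ∈ Sg c.X Qa')
    (hq : q ∈ Sg c.X Qa) (ht : IsT c t) {c6 : E} (hA : c.Act t 1 c6) (hg : g = q' * t * q) {b2 b3 b5 b6 : E}
    (hN : c.NF q b2 b3 b5 b6) : b5 = 0 := by
  obtain ⟨w6, h6, q2, hq2, rfl⟩ := c.exists_mul (k := 6) (s := {2, 3, 4, 5}) (by decide +kernel)
    (Sg_mono (by decide +kernel) hq : q ∈ Sg c.X (insert 6 {2, 3, 4, 5}))
  obtain ⟨d0, hd0, rfl⟩ := (c.par.mem6 _).1 h6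
  obtain ⟨q2', hq2', w0, h0, rfl⟩ := c.exists_mul' (k := 0) (s := {8, 9, 10, 11}) (by decide +kernel)
    (Sg_mono (by decide +kernel) hq' : q' ∈ Sg c.X (insert 0 {8, 9, 10, 11}))
  obtain ⟨b, rfl⟩ := (c.pa_lo _).1 h0
  obtain ⟨d, hd⟩ : ∃ d : ↥(fx σ), d = ⟨d0, hd0⟩ := ⟨_, rfl⟩
  have e6 : c.x6 d0 = c.pa (up d) := by rw [hd]; exact (c.pa_up ⟨d0, hd0⟩).symm
  obtain ⟨a5, a1, hW⟩ := exists_W c (Sg_mono (by decide +kernel) hq2 : q2 ∈ Sg c.X Qb)
  -- the component of `q2` in `X 1` is trivial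
  have ha1 : a1 = 0 := by
    obtain ⟨x5', h5, v, hv, e5⟩ := c.exists_mul (k := 5) (s := {2, 3, 4}) (by decide +kernel)
      (Sg_mono (by decide +kernel) hq2 : q2 ∈ Sg c.X (insert 5 {2, 3, 4}))
    obtain ⟨b5', rfl⟩ := (c.par.mem5 _).1 h5
    have hW' : W c q2 b5' 0 := ⟨v, hv, by rw [c.x1_zero, mul_one]; exact e5⟩
    exact (hW.unique hW').2
  subst ha1
  -- the coordinate of `q`
  have hb5 : b5 = a5 := by
    obtain ⟨k, hk, ek⟩ := hW
    obtain ⟨t2, bb, t4, f2, f4, ev⟩ := exists_V c hk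
    have n1 : c.NF (c.x6 d0 * q2) t2 bb a5 d0 := by
      rw [ek, c.x1_zero, mul_one, ev]
      exact ((c.nf6 hd0).mul ((c.nf5 a5).mul (((c.nf2 f2).mul (c.nf3 bb)).mul (c.nf4 f4)))).congr rfl (by ring)
        (by ring) (by ring) (by ring)
    exact (hN.unique n1).2.2.1
  rw [hb5]
  -- choice of `z`
  obtain ⟨z, hz, hz'⟩ : ∃ z : ↥(fx σ), z ≠ 0 ∧ 1 - d * z ≠ 0 := by
    by_cases hd' : d = 0
    · exact ⟨1, one_ne_zero, by rw [hd', zero_mul, sub_zero]; exact one_ne_zero⟩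
    · refine ⟨z0 / d, div_ne_zero hz0 hd', ?_⟩
      rw [mul_div_cancel₀ _ hd', sub_ne_zero]
      exact hz1.symm
  have hpa := hA.pa (up d * lo (-z))
  obtain ⟨m1, hm1⟩ : ∃ m1, m1 = conjGL (dgl (⟨c6, hA.fix⟩ : ↥(fx σ)) (sub_ne _ hA.ne6)) (up d * lo (-z)) := ⟨_, rfl⟩
  rw [← hm1] at hpa
  have e00 : ent (lo (z + b) * m1) 0 0 = 1 - d * z := by
    rw [hm1, conjGL_dgl_ent, ent_mul, lo_00, lo_01, mk_00, mk_10, ent_mul, up_00, up_01, lo_00, lo_10]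
    ring
  obtain ⟨x, w, hw, x', eM⟩ := ldu_pa (c := c) (M := lo (z + b) * m1) (by rw [e00]; exact hz')
  obtain ⟨up', hup', eup⟩ := T0_comm_left (c := c) (s := {6}) ht.mem (g := c.pa (up x')) (pa_up_mem c (by decide) _)
  obtain ⟨s, hs, r, hr, ets⟩ := ht
  have hWm := hW.pa (lo z)
  rw [lo_00, lo_01, lo_10, lo_11] at hWm
  obtain ⟨k, hk, ek⟩ := hWm
  -- the positive side
  obtain ⟨ε, hε⟩ : ∃ ε : E, ε = ((z : ↥(fx σ)) : E) * a5 := ⟨_, rfl⟩
  have ek2 : c.pa (lo z) * q2 * (c.pa (lo z))⁻¹ = c.x5 a5 * c.x1 ε * k := by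
    rw [ek, hε]
    congr 2
    · congr 1
      push_cast
      ring
    · congr 1
      ring
  have hpos : (c.x1 ε)⁻¹ * (up' * c.x5 a5) * c.x1 ε * k ∈ Sg c.X Qa := by
    refine mul_mem ?_ (Sg_mono (by decide +kernel) hk)
    have h1 := c.conj_mem_Sg (k := 1) (s := Qa) (by decide +kernel) (c.mem1 (-ε))
      (mul_mem (Sg_mono (by decide +kernel) hup') (c.sg (by decide) (c.mem5 a5)) : up' * c.x5 a5 ∈ Sg c.X Qa)
    rwa [c.x1_neg, inv_inv] at h1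
  -- the negative side
  have hneg : c.pa (lo z) * q2' * (c.pa (lo z))⁻¹ * c.pa (lo x) ∈ Sg c.X (insert 7 Qa') := by
    refine mul_mem (Sg_mono (by decide +kernel) (pa_conj c (s := Qb') (by decide +kernel) (by decide +kernel) (lo z) q2'
      (Sg_mono (by decide +kernel) hq2'))) (pa_lo_mem c (by decide) _)
  obtain ⟨q3, hq3, w7, h7, e7⟩ := c.exists_mul' (k := 7) (s := Qa') (by decide +kernel) hneg
  obtain ⟨a, rfl⟩ := (c.pb_lo _).1 h7
  have final : c.pa (lo z) * g * (c.pa (lo z))⁻¹ = q3 * c.pb (lo a) * (c.pb (dg s hs) * c.pa (dg (w * r)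
      (mul_ne_zero hw hr))) * c.pb (up ε) * ((c.x1 ε)⁻¹ * (up' * c.x5 a5) * c.x1 ε * k) := by
    have e1 : c.pa (dg w hw) * t = c.pb (dg s hs) * c.pa (dg (w * r) (mul_ne_zero hw hr)) := by
      rw [ets, ← dg_mul_dg w r hw hr, map_mul, ← mul_assoc, ← mul_assoc,
        c.T0_comm (pa_dg_T0 c w hw) (pb_dg_T0 c s hs)]
    rw [c.pb_up, ← e7, hg, e6, ← e1]
    calc c.pa (lo z) * (q2' * c.pa (lo b) * t * (c.pa (up d) * q2)) * (c.pa (lo z))⁻¹
        = (c.pa (lo z) * q2' * (c.pa (lo z))⁻¹) * (c.pa (lo z) * c.pa (lo b) * (t * (c.pa (up d) * (c.pa (lo z))⁻¹) * t⁻¹) * t) *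
            (c.pa (lo z) * q2 * (c.pa (lo z))⁻¹) := by group
      _ = (c.pa (lo z) * q2' * (c.pa (lo z))⁻¹) * (c.pa (lo (z + b) * m1) * t) * (c.x5 a5 * c.x1 ε * k) := by
          rw [ek2, ← map_inv, lo_inv, ← map_mul c.pa (up d), hpa, ← map_mul, lo_mul, ← map_mul]
      _ = (c.pa (lo z) * q2' * (c.pa (lo z))⁻¹) * (c.pa (lo x) * c.pa (dg w hw) * (c.pa (up x') * t)) *
            (c.x5 a5 * c.x1 ε * k) := by rw [eM]; group
      _ = _ := by rw [eup]; group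
  obtain ⟨-, hb, -⟩ := h.cell hq3 hpos final
  rw [hε] at hb
  exact (mul_eq_zero.1 hb).resolve_left (coe_ne' hz)

end Cfsg.Agent.H148.Hex
end

-- part: H148/GaussB
section
/-!
# Groups of type `G₂` and `³D₄`: a Gauss decomposition with prescribed torus part, II (helper148)
-/

set_option autoImplicit false

namespace Cfsg.Agent.H148.Hex

open Cfsg.Agent.SplitTwo Cfsg.Agent.TitsThree.RankTwoZ Cfsg.Agent.Lib.SL2Mat Cfsg.Agent.Cit.HexBase
  Cfsg.Agent.Cit.HexBase.HexGrp Cfsg.Agent.H148.SLTwo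
open scoped commutatorElement

universe u

variable {E : Type*} [Field E] {σ : E ≃+* E} {L : Type u} [Group L] {c : HexGrp σ L}

/-- the component of `q'` in `X 11` vanishes -/
theorem Cen.eleven {g : L} (h : Cen c g) {z0 : ↥(fx σ)} (hz0 : z0 ≠ 0) (hz1 : z0 ≠ 1) {q' t q : L}
    (hq' : q' ∈ Sg c.X Qa') (hq : q ∈ Sg c.X Qa) (ht : IsT c t) {c6 : E} (hA : c.Act t 1 c6) (hg : g = q' * t * q) :
    ∃ v ∈ Sg c.X {8, 9, 10}, ∃ b, q' = v * c.pa (lo b) := by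
  obtain ⟨w6, h6, q2, hq2, rfl⟩ := c.exists_mul (k := 6) (s := {2, 3, 4, 5}) (by decide +kernel)
    (Sg_mono (by decide +kernel) hq : q ∈ Sg c.X (insert 6 {2, 3, 4, 5}))
  obtain ⟨d0, hd0, rfl⟩ := (c.par.mem6 _).1 h6
  obtain ⟨q2', hq2', w0, h0, rfl⟩ := c.exists_mul' (k := 0) (s := {8, 9, 10, 11}) (by decide +kernel)
    (Sg_mono (by decide +kernel) hq' : q' ∈ Sg c.X (insert 0 {8, 9, 10, 11}))
  obtain ⟨b, rfl⟩ := (c.pa_lo _).1 h0
  obtain ⟨d, hd⟩ : ∃ d : ↥(fx σ), d = ⟨d0, hd0⟩ := ⟨_, rfl⟩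
  have e6 : c.x6 d0 = c.pa (up d) := by rw [hd]; exact (c.pa_up ⟨d0, hd0⟩).symm
  -- transport to the positive side by `n3`
  have hq4 : (n3 c)⁻¹ * q2' * n3 c ∈ Sg c.X {1, 2, 3, 4} := by
    have := conj_Sg (maps_n3_inv c) (s := {8, 9, 10, 11}) (t := {1, 2, 3, 4}) (by decide +kernel) hq2'
    rwa [inv_inv] at this
  obtain ⟨w1, h1, k, hk, ek⟩ := c.exists_mul (k := 1) (s := {2, 3, 4}) (by decide +kernel)
    (Sg_mono (by decide +kernel) hq4 : (n3 c)⁻¹ * q2' * n3 c ∈ Sg c.X (insert 1 {2, 3, 4}))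
  obtain ⟨a1, rfl⟩ := (c.par.mem1 _).1 h1
  have hW : W c ((n3 c)⁻¹ * q2' * n3 c) 0 a1 := ⟨k, hk, by rw [c.x5_zero, one_mul]; exact ek⟩
  -- choice of `z`
  obtain ⟨z, hz, hz'⟩ : ∃ z : ↥(fx σ), z ≠ 0 ∧ 1 + z * b ≠ 0 := by
    by_cases hb' : b = 0
    · exact ⟨1, one_ne_zero, by rw [hb', mul_zero, add_zero]; exact one_ne_zero⟩
    · refine ⟨-(z0 / b), neg_ne_zero.2 (div_ne_zero hz0 hb'), ?_⟩
      rw [neg_mul, div_mul_cancel₀ _ hb', ← sub_eq_add_neg, sub_ne_zero]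
      exact hz1.symm
  have hpa := hA.pa (up (d - z))
  obtain ⟨m1, hm1⟩ : ∃ m1, m1 = conjGL (dgl (⟨c6, hA.fix⟩ : ↥(fx σ)) (sub_ne _ hA.ne6)) (up (d - z)) := ⟨_, rfl⟩
  rw [← hm1] at hpa
  have e00 : ent (up z * lo b * m1) 0 0 = 1 + z * b := by
    rw [hm1, conjGL_dgl_up, ent_mul, ent_mul, ent_mul, up_00, up_00, up_01, up_10, lo_00, lo_01, lo_10, lo_11]
    ring
  obtain ⟨x, w, hw, x', eM⟩ := ldu_pa (c := c) (M := up z * lo b * m1) (by rw [e00]; exact hz')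
  obtain ⟨up', hup', eup⟩ := T0_comm_left (c := c) (s := {6}) ht.mem (g := c.pa (up x')) (pa_up_mem c (by decide) _)
  obtain ⟨s, hs, r, hr, ets⟩ := ht
  have hWm := hW.pa (up z)
  rw [up_00, up_01, up_10, up_11] at hWm
  obtain ⟨k', hk', ek'⟩ := hWm
  obtain ⟨ε, hε⟩ : ∃ ε : E, ε = ((z : ↥(fx σ)) : E) * a1 := ⟨_, rfl⟩
  have ek2 : c.pa (up z) * q2' * (c.pa (up z))⁻¹ =
      (n3 c * c.x5 ε * (n3 c)⁻¹) * (n3 c * (c.x1 a1 * k') * (n3 c)⁻¹) := by
    have e5 : ((1 : ↥(fx σ)) : E) * 0 + (z : E) * a1 = ε := by rw [hε]; ring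
    have e1 : ((0 : ↥(fx σ)) : E) * 0 + ((1 : ↥(fx σ)) : E) * a1 = a1 := by push_cast; ring
    rw [e5, e1] at ek'
    have hn := comm_pa_n3 c (up z)
    have hn' : n3 c * c.pa (up z) = c.pa (up z) * n3 c := mul_inv_eq_iff_eq_mul.1 hn
    calc c.pa (up z) * q2' * (c.pa (up z))⁻¹
        = (c.pa (up z) * n3 c) * ((n3 c)⁻¹ * q2' * n3 c) * (c.pa (up z) * n3 c)⁻¹ := by group
      _ = n3 c * (c.pa (up z) * ((n3 c)⁻¹ * q2' * n3 c) * (c.pa (up z))⁻¹) * (n3 c)⁻¹ := by rw [← hn']; group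
      _ = _ := by rw [ek']; group
  obtain ⟨a, ha⟩ : ∃ a, c.pb (lo a) = n3 c * c.x5 ε * (n3 c)⁻¹ :=
    (c.pb_lo _).1 (maps_mem (maps_n3 c) (c.mem5 ε) (by decide))
  -- the positive side
  have hpos1 : c.pa (up z) * q2 * (c.pa (up z))⁻¹ ∈ Sg c.X (insert 1 {2, 3, 4, 5}) :=
    pa_conj c (s := Qb) (by decide +kernel) (by decide +kernel) (up z) q2 (Sg_mono (by decide +kernel) hq2)
  obtain ⟨w1', h1', q3, hq3, e3⟩ := c.exists_mul (k := 1) (s := {2, 3, 4, 5}) (by decide +kernel) hpos1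
  obtain ⟨e, rfl⟩ := (c.par.mem1 _).1 h1'
  have hpos : (c.x1 e)⁻¹ * up' * c.x1 e * q3 ∈ Sg c.X Qa := by
    refine mul_mem ?_ (Sg_mono (by decide +kernel) hq3)
    have h1 := c.conj_mem_Sg (k := 1) (s := Qa) (by decide +kernel) (c.mem1 (-e)) (Sg_mono (by decide +kernel) hup')
    rwa [c.x1_neg, inv_inv] at h1
  -- the negative side
  have hv2 : n3 c * (c.x1 a1 * k') * (n3 c)⁻¹ * c.pa (lo x) ∈ Sg c.X Qa' := by
    refine mul_mem (Sg_mono (by decide +kernel) (conj_Sg (maps_n3 c) (s := {1, 2, 3, 4}) (t := {8, 9, 10, 11})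
      (by decide +kernel) (mul_mem (c.sg (by decide) (c.mem1 a1)) (Sg_mono (by decide +kernel) hk')))) (pa_lo_mem c (by decide) _)
  have hneg := pb_conj c (s := Qa') (by decide +kernel) (by decide +kernel) (lo a) _ hv2
  have final : c.pa (up z) * g * (c.pa (up z))⁻¹ =
      (c.pb (lo a) * (n3 c * (c.x1 a1 * k') * (n3 c)⁻¹ * c.pa (lo x)) * (c.pb (lo a))⁻¹) * c.pb (lo a) *
      (c.pb (dg s hs) * c.pa (dg (w * r) (mul_ne_zero hw hr))) * c.pb (up e) * ((c.x1 e)⁻¹ * up' * c.x1 e * q3) := by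
    have e1 : c.pa (dg w hw) * t = c.pb (dg s hs) * c.pa (dg (w * r) (mul_ne_zero hw hr)) := by
      rw [ets, ← dg_mul_dg w r hw hr, map_mul, ← mul_assoc, ← mul_assoc,
        c.T0_comm (pa_dg_T0 c w hw) (pb_dg_T0 c s hs)]
    rw [c.pb_up, ← e1, ha, hg, e6]
    calc c.pa (up z) * (q2' * c.pa (lo b) * t * (c.pa (up d) * q2)) * (c.pa (up z))⁻¹
        = (c.pa (up z) * q2' * (c.pa (up z))⁻¹) * (c.pa (up z) * c.pa (lo b) * (t * (c.pa (up d) * (c.pa (up z))⁻¹) * t⁻¹) * t) *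
            (c.pa (up z) * q2 * (c.pa (up z))⁻¹) := by group
      _ = (c.pa (up z) * q2' * (c.pa (up z))⁻¹) * (c.pa (up z * lo b * m1) * t) * (c.x1 e * q3) := by
          rw [e3, ← map_inv, up_inv, ← map_mul c.pa (up d), up_mul, ← sub_eq_add_neg, hpa, ← map_mul, ← map_mul]
      _ = ((n3 c * c.x5 ε * (n3 c)⁻¹) * (n3 c * (c.x1 a1 * k') * (n3 c)⁻¹)) *
            (c.pa (lo x) * c.pa (dg w hw) * (c.pa (up x') * t)) * (c.x1 e * q3) := by rw [eM, ek2]; group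
      _ = _ := by rw [eup]; group
  obtain ⟨ha0, -, -⟩ := h.cell hneg hpos final
  have hε0 : c.x5 ε = c.x5 0 := by
    rw [ha0, lo_zero, map_one] at ha
    rw [c.x5_zero]
    have : n3 c * c.x5 ε * (n3 c)⁻¹ = 1 := ha.symm
    rw [mul_inv_eq_one] at this
    exact mul_eq_left.1 this
  have h1 : ((z : ↥(fx σ)) : E) * a1 = 0 := by rw [← hε]; exact c.x5_inj hε0
  have ha1 : a1 = 0 := (mul_eq_zero.1 h1).resolve_left (coe_ne' hz)
  rw [ha1, c.x1_zero, one_mul] at ek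
  refine ⟨q2', ?_, b, rfl⟩
  have : q2' = n3 c * k * (n3 c)⁻¹ := by rw [← ek]; group
  rw [this]
  exact conj_Sg (maps_n3 c) (by decide +kernel) hk

/-! ### Normal forms under `n1` -/

theorem mem_single {k : ZMod (2 * 6)} {g : L} (h : g ∈ Sg c.X {k}) : g ∈ c.X k :=
  (Sg_le fun j hj => by rw [Finset.mem_singleton.1 hj] : Sg c.X {k} ≤ c.X k) h

/-- `n1` on the normal form -/
theorem NF_n1 {g : L} {b2 b3 b5 b6 : E} (h : c.NF g b2 b3 b5 b6) :
    ∃ d3 d5, c.NF (c.n1 * g * c.n1⁻¹) (-b6) d3 d5 b2 ∧ (d3 = 0 → b5 = 0) ∧ (d5 = 0 → b3 = 0) := by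
  obtain ⟨f2, f6, b4, f4, rfl⟩ := h
  have m3 : c.n1 * c.x3 b3 * c.n1⁻¹ ∈ c.X 5 := maps_mem c.maps_n1 (c.mem3 b3) (by decide)
  have m5 : c.n1 * c.x5 b5 * c.n1⁻¹ ∈ c.X 3 := maps_mem c.maps_n1 (c.mem5 b5) (by decide)
  have m4 : c.n1 * c.x4 b4 * c.n1⁻¹ ∈ c.X 4 := maps_mem c.maps_n1 (c.mem4 f4) (by decide)
  obtain ⟨d5, e5⟩ := (c.par.mem5 _).1 m3
  obtain ⟨d3, e3⟩ := (c.par.mem3 _).1 m5
  obtain ⟨d4, g4, e4⟩ := (c.par.mem4 _).1 m4
  refine ⟨d3, d5, ?_, ?_, ?_⟩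
  · have k2 := c.nf6 f2
    rw [← n1_x2 b2 f2] at k2
    have k6 := c.nf2 (neg_fix f6)
    rw [← n1_x6 b6 f6] at k6
    have k3 := c.nf5 d5
    rw [e5] at k3
    have k5 := c.nf3 d3
    rw [e3] at k5
    have k4 := c.nf4 g4
    rw [e4] at k4
    exact ((((k2.mul k3).mul k4).mul k5).mul k6).congr (by group) (by ring) (by ring) (by ring) (by ring)
  · intro h
    rw [h, c.x3_zero] at e3
    have : c.n1 * c.x5 b5 * c.n1⁻¹ = 1 := e3.symm
    rw [mul_inv_eq_one] at this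
    have h1 : c.x5 b5 = c.x5 0 := by rw [c.x5_zero]; exact mul_eq_left.1 this
    exact c.x5_inj h1
  · intro h
    rw [h, c.x5_zero] at e5
    have : c.n1 * c.x3 b3 * c.n1⁻¹ = 1 := e5.symm
    rw [mul_inv_eq_one] at this
    have h1 : c.x3 b3 = c.x3 0 := by rw [c.x3_zero]; exact mul_eq_left.1 this
    exact c.x3_inj h1

theorem NF.mem4' {g : L} {b2 b3 b5 b6 : E} (h : c.NF g b2 b3 b5 b6) (h2 : b2 = 0) (h3 : b3 = 0) (h5 : b5 = 0)
    (h6 : b6 = 0) : g ∈ c.X 4 := by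
  obtain ⟨f2, f6, b4, f4, rfl⟩ := h
  rw [h2, h3, h5, h6, c.x2_zero, c.x3_zero, c.x5_zero, c.x6_zero, one_mul, one_mul, mul_one, mul_one]
  exact c.mem4 f4

/-- an element of `Qa` all of whose conjugates by `pb` have trivial component in `X 5` -/
theorem mem_X4_of_five {q : L} (hq : q ∈ Sg c.X Qa)
    (h : ∀ (m : SL2 E) b2 b3 b5 b6, c.NF (c.pb m * q * (c.pb m)⁻¹) b2 b3 b5 b6 → b5 = 0) : q ∈ c.X 4 := by
  have key : ∀ {q : L} {b2 b3 b5 b6 : E}, c.NF q b2 b3 b5 b6 →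
      (∀ (m : SL2 E) b2 b3 b5 b6, c.NF (c.pb m * q * (c.pb m)⁻¹) b2 b3 b5 b6 → b5 = 0) → b5 = 0 ∧ b6 = 0 := by
    intro q b2 b3 b5 b6 hN h
    have h0 : b5 = 0 := h 1 b2 b3 b5 b6 (by rw [map_one]; exact hN.congr (by group) rfl rfl rfl rfl)
    have h1 := h (up (-1)) _ _ _ _ ((hN.conj1 1).congr (by rw [c.pb_up, c.x1_neg]; group) rfl rfl rfl rfl)
    refine ⟨h0, ?_⟩
    rw [h0] at h1
    linear_combination h1
  obtain ⟨b2, b3, b5, b6, hN⟩ := c.exists_NF hq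
  obtain ⟨k5, k6⟩ := key hN h
  obtain ⟨d3, d5, hN', -, h35⟩ := NF_n1 hN
  obtain ⟨j5, j6⟩ := key hN' (by
    intro m b2 b3 b5 b6 hm
    refine h (m * wm 1 one_ne_zero) b2 b3 b5 b6 (hm.congr ?_ rfl rfl rfl rfl)
    rw [map_mul, HexGrp.n1]
    group)
  exact NF.mem4' hN j6 (h35 j5) k5 k6

/-- an element of `Qa` all of whose conjugates by `pb` have trivial component in `X 3` -/
theorem mem_X4_of_three {q : L} (hq : q ∈ Sg c.X Qa)
    (h : ∀ (m : SL2 E) b2 b3 b5 b6, c.NF (c.pb m * q * (c.pb m)⁻¹) b2 b3 b5 b6 → b3 = 0) : q ∈ c.X 4 := by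
  refine mem_X4_of_five hq fun m b2 b3 b5 b6 hN => ?_
  obtain ⟨d3, d5, hN', h3, -⟩ := NF_n1 hN
  refine h3 (h (wm 1 one_ne_zero * m) _ _ _ _ (hN'.congr ?_ rfl rfl rfl rfl))
  rw [map_mul, HexGrp.n1]
  group

theorem NF_of_456 {v : L} (hv : v ∈ Sg c.X {4, 5, 6}) : ∃ b5 b6, c.NF v 0 0 b5 b6 := by
  obtain ⟨w4, h4, v1, hv1, rfl⟩ := c.exists_mul (k := 4) (s := {5, 6}) (by decide +kernel) hv
  obtain ⟨w5, h5, v2, hv2, rfl⟩ := c.exists_mul (k := 5) (s := {6}) (by decide +kernel) hv1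
  obtain ⟨b4, f4, rfl⟩ := (c.par.mem4 _).1 h4
  obtain ⟨b5, rfl⟩ := (c.par.mem5 _).1 h5
  obtain ⟨b6, f6, rfl⟩ := (c.par.mem6 _).1 (mem_single hv2)
  exact ⟨b5, b6, ((c.nf4 f4).mul ((c.nf5 b5).mul (c.nf6 f6))).congr rfl (by ring) (by ring) (by ring) (by ring)⟩

/-- both unipotent parts lie in the long root groups `X 4`, `X 10` -/
theorem Cen.four {g : L} (h : Cen c g) {z0 : ↥(fx σ)} (hz0 : z0 ≠ 0) (hz1 : z0 ≠ 1) {q' t q : L}
    (hq' : q' ∈ Sg c.X Qa') (hq : q ∈ Sg c.X Qa) (ht : IsT c t) {c6 : E} (hA : c.Act t 1 c6) (hg : g = q' * t * q) :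
    q ∈ c.X 4 ∧ q' ∈ c.X 10 := by
  have hcomm : ∀ m : SL2 E, c.pb m * t = t * c.pb m := by
    intro m
    have h1 := hA.pb m
    have h2 : conjGL (dgl (1 : E) hA.ne1) m = m := by
      rw [conjGL_dgl_ent]
      refine ext_ent ?_ ?_ ?_ ?_ <;> simp
    rw [h2, mul_inv_eq_iff_eq_mul] at h1
    exact h1.symm
  have hm : ∀ m : SL2 E, c.pb m * g * (c.pb m)⁻¹ = (c.pb m * q' * (c.pb m)⁻¹) * t * (c.pb m * q * (c.pb m)⁻¹) := by
    intro m
    rw [hg]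
    calc c.pb m * (q' * t * q) * (c.pb m)⁻¹ = c.pb m * q' * (c.pb m)⁻¹ * (c.pb m * t) * q * (c.pb m)⁻¹ := by group
      _ = _ := by rw [hcomm]; group
  have hQ' : ∀ m : SL2 E, c.pb m * q' * (c.pb m)⁻¹ ∈ Sg c.X Qa' := fun m =>
    pb_conj c (by decide +kernel) (by decide +kernel) m q' hq'
  have hQ : ∀ m : SL2 E, c.pb m * q * (c.pb m)⁻¹ ∈ Sg c.X Qa := fun m =>
    pb_conj c (by decide +kernel) (by decide +kernel) m q hq
  constructor
  · exact mem_X4_of_five hq fun m b2 b3 b5 b6 hN => (h.conj (c.pb m)).five hz0 hz1 (hQ' m) (hQ m) ht hA (hm m) hN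
  · -- transport by `n4`
    have hq5 : c.n4⁻¹ * q' * c.n4 ∈ Sg c.X Qa := by
      have hinv : Maps c.X c.n4⁻¹ (fun k => 2 - k) := c.maps_n4.inv fun k => by ring
      have := conj_Sg hinv (s := Qa') (t := Qa) (by decide +kernel) hq'
      rwa [inv_inv] at this
    have h4 : c.n4⁻¹ * q' * c.n4 ∈ c.X 4 := by
      refine mem_X4_of_three hq5 fun m b2 b3 b5 b6 hN => ?_
      obtain ⟨v, hv, b, e⟩ := (h.conj (c.pb m)).eleven hz0 hz1 (hQ' m) (hQ m) ht hA (hm m)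
      have hcm : c.pb m * c.n4⁻¹ = c.n4⁻¹ * c.pb m := by
        have := c.comm_pb_p4 m (wm 1 one_ne_zero)
        rw [show c.p4 (wm 1 one_ne_zero) = c.n4 from rfl] at this
        calc c.pb m * c.n4⁻¹ = c.n4⁻¹ * (c.n4 * c.pb m) * c.n4⁻¹ := by group
          _ = _ := by rw [← this]; group
      have hinv : Maps c.X c.n4⁻¹ (fun k => 2 - k) := c.maps_n4.inv fun k => by ring
      have e1 : c.pb m * (c.n4⁻¹ * q' * c.n4) * (c.pb m)⁻¹ = (c.n4⁻¹ * v * c.n4) * (c.n4⁻¹ * c.pa (lo b) * c.n4) := by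
        calc c.pb m * (c.n4⁻¹ * q' * c.n4) * (c.pb m)⁻¹ = (c.pb m * c.n4⁻¹) * q' * (c.pb m * c.n4⁻¹)⁻¹ := by group
          _ = c.n4⁻¹ * (c.pb m * q' * (c.pb m)⁻¹) * c.n4 := by rw [hcm]; group
          _ = _ := by rw [e]; group
      have hv' : c.n4⁻¹ * v * c.n4 ∈ Sg c.X {4, 5, 6} := by
        have := conj_Sg hinv (s := {8, 9, 10}) (t := {4, 5, 6}) (by decide +kernel) hv
        rwa [inv_inv] at this
      have hb' : c.n4⁻¹ * c.pa (lo b) * c.n4 ∈ c.X 2 := maps_mem' c.maps_n4 ((c.pa_lo _).2 ⟨b, rfl⟩) (by decide)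
      obtain ⟨d5, d6, hN1⟩ := NF_of_456 hv'
      obtain ⟨d2, f2, ed2⟩ := (c.par.mem2 _).1 hb'
      have hN2 := c.nf2 f2
      rw [ed2] at hN2
      have hN3 := (hN1.mul hN2).congr e1.symm rfl rfl rfl rfl
      have := (hN.unique hN3).2.1
      rw [this]
      ring
    have e : q' = c.n4 * (c.n4⁻¹ * q' * c.n4) * c.n4⁻¹ := by group
    rw [e]
    exact maps_mem c.maps_n4 h4 (by decide)

/-! ### The Weyl group on `IsT` -/

theorem n6_pb_dg (s : E) (hs : s ≠ 0) : c.n6 * c.pb (dg s hs) * c.n6⁻¹ =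
    c.pb (dg s hs) * c.pa (dg ⟨nrm σ s, c.nf s⟩ (sub_ne _ (nrm_ne hs))) := by
  have h1 := (c.act_b s hs).n6
  have h2 := (c.act_b s hs).mul (c.act_a ⟨nrm σ s, c.nf s⟩ (sub_ne _ (nrm_ne hs)))
  have hn := nrm_ne (σ := σ) hs
  refine h1.unique (h2.congr rfl ?_ ?_)
  · change s ^ 2 * (nrm σ s)⁻¹ = (nrm σ s)⁻¹ * s ^ 2
    ring
  · change (nrm σ s)⁻¹ * (nrm σ s) ^ 2 = ((nrm σ s)⁻¹)⁻¹
    field_simp

theorem n6_pa_dg (r : ↥(fx σ)) (hr : r ≠ 0) : c.n6 * c.pa (dg r hr) * c.n6⁻¹ = c.pa (dg r⁻¹ (inv_ne_zero hr)) := by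
  rw [HexGrp.n6, ← map_inv, ← map_mul, ← map_mul]
  congr 1
  rw [ent_inv]
  refine ext_ent ?_ ?_ ?_ ?_ <;> simp [ent_mul]

theorem IsT.n6 {t : L} (ht : IsT c t) : IsT c (c.n6 * t * c.n6⁻¹) := by
  obtain ⟨s, hs, r, hr, rfl⟩ := ht
  have e : c.n6 * (c.pb (dg s hs) * c.pa (dg r hr)) * c.n6⁻¹ =
      (c.n6 * c.pb (dg s hs) * c.n6⁻¹) * (c.n6 * c.pa (dg r hr) * c.n6⁻¹) := by group
  rw [e, n6_pb_dg, n6_pa_dg]
  exact ((isT_pb c s hs).mul (isT_pa c _ _)).mul (isT_pa c _ _)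

theorem T0_pa_pb {q' q t : L} : q' * t * q = q' * c.pb (lo 0) * t * c.pb (up 0) * q := by
  rw [lo_zero, up_zero, map_one, mul_one, mul_one]

/-- an element all of whose `L_α`-parts are central is trivial -/
theorem Cen.eq_one {g : L} (h : Cen c g) {z0 : ↥(fx σ)} (hz0 : z0 ≠ 0) (hz1 : z0 ≠ 1) : g = 1 := by
  -- an element in the cell
  have key : ∀ {g q' t q : L}, Cen c g → q' ∈ Sg c.X Qa' → q ∈ Sg c.X Qa → IsT c t → g = q' * t * q →
      ∃ c6, c.Act t 1 c6 ∧ q ∈ c.X 4 ∧ q' ∈ c.X 10 := by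
    intro g q' t q h hq' hq ht hg
    have ht' := ht
    obtain ⟨s, hs, r, hr, ets⟩ := ht'
    obtain ⟨-, -, h1⟩ := h.cell (y := 1) (a := 0) (b := 0) (hs := hs) (hr := hr) hq' hq (by
      rw [lo_zero, up_zero, map_one, mul_one, mul_one, ← ets, hg]
      group)
    have hA := (c.act_b s hs).mul (c.act_a r hr)
    rw [← ets, h1] at hA
    obtain ⟨h4, h10⟩ := h.four hz0 hz1 hq' hq ht hA hg
    exact ⟨_, hA, h4, h10⟩
  obtain ⟨y, v, hv, t, ht, u, hu, e⟩ := exists_conj_cell (c := c) g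
  obtain ⟨q', hq', w7, h7, rfl⟩ := c.exists_mul' (k := 7) (s := Qa') (by decide +kernel)
    (Sg_mono (by decide +kernel) hv : v ∈ Sg c.X (insert 7 Qa'))
  obtain ⟨w1, h1, q, hq, rfl⟩ := c.exists_mul (k := 1) (s := Qa) (by decide +kernel)
    (Sg_mono (by decide +kernel) hu : u ∈ Sg c.X (insert 1 Qa))
  obtain ⟨a, rfl⟩ := (c.pb_lo _).1 h7
  obtain ⟨b, rfl⟩ := (c.par.mem1 _).1 h1
  have hts := ht
  obtain ⟨s, hs, r, hr, ets⟩ := hts
  obtain ⟨ha, hb, -⟩ := h.cell (y := y) (a := a) (b := b) (hs := hs) (hr := hr) hq' hq (by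
    rw [e, c.pb_up, ← ets]
    group)
  have hg1 : y * g * y⁻¹ = q' * t * q := by
    rw [e, ha, hb, lo_zero, map_one, c.x1_zero]
    group
  obtain ⟨c6, hA, h4, h10⟩ := key (h.conj y) hq' hq ht hg1
  -- conjugate by `n6`
  have h8 : c.n6 * q' * c.n6⁻¹ ∈ c.X 8 := maps_mem c.maps_n6 h10 (by decide)
  have h2 : c.n6 * q * c.n6⁻¹ ∈ c.X 2 := maps_mem c.maps_n6 h4 (by decide)
  obtain ⟨d6, hA', k4, k10⟩ := key (g := c.n6 * (y * g * y⁻¹) * c.n6⁻¹) ((h.conj y).conj c.n6)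
    (q' := c.n6 * q' * c.n6⁻¹) (t := c.n6 * t * c.n6⁻¹) (q := c.n6 * q * c.n6⁻¹)
    (c.sg (by decide) h8) (c.sg (by decide) h2) ht.n6 (by rw [hg1]; group)
  have z2 := c.eq_one_of_ne (by decide) h2 k4
  have z8 := c.eq_one_of_ne (by decide) h8 k10
  have hA6 := hA.n6
  -- comparison of the weights
  obtain ⟨a1, e1⟩ : ∃ x : L, x = c.n6 * t * c.n6⁻¹ := ⟨_, rfl⟩
  have w1 : c6 * 1 = 1 := by
    have p1 := hA6.a1 1
    have p2 := hA'.a1 1
    rw [p1] at p2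
    have := c.x1_inj p2
    linear_combination this
  have hc6 : c6 = 1 := by rw [mul_one] at w1; exact w1
  rw [hc6] at hA
  have ht1 := hA.eq_one
  have zq : q = 1 := by
    have : c.n6 * q * c.n6⁻¹ = 1 := z2
    rw [mul_inv_eq_one] at this
    exact mul_eq_left.1 this
  have zq' : q' = 1 := by
    have : c.n6 * q' * c.n6⁻¹ = 1 := z8
    rw [mul_inv_eq_one] at this
    exact mul_eq_left.1 this
  rw [zq, zq', ht1, mul_one, mul_one] at hg1
  have : y * g = y := mul_inv_eq_one.1 hg1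
  exact mul_eq_left.1 this

/-- **Weak Gauss decomposition.** -/
theorem exists_weak_gauss {z0 : ↥(fx σ)} (hz0 : z0 ≠ 0) (hz1 : z0 ≠ 1) {g : L} (hg : g ≠ 1) :
    ∃ y : L, ∃ v ∈ Sg c.X Qb', ∃ l : SL2 ↥(fx σ), ∃ u ∈ Sg c.X Qb, y * g * y⁻¹ = v * c.pa l * u := by
  by_contra hcon
  apply hg
  refine Cen.eq_one (c := c) (g := g) ?_ hz0 hz1
  intro y q' M r hr q hF
  by_contra hM
  apply hcon
  obtain ⟨m, hm⟩ := exists_twisted M (r : E)⁻¹ (inv_ne_zero (coe_ne' hr)) hM 1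
  obtain ⟨h1, h2, h3⟩ := hF.conj_pb m
  obtain ⟨N, hN⟩ : ∃ N, N = m * M * conjGL (dgl (r : E)⁻¹ (inv_ne_zero (coe_ne' hr))) m⁻¹ := ⟨_, rfl⟩
  rw [← hN] at hm h3
  have hN2 : N = lo (ent N 1 0) * up (ent N 0 1) := by
    have h5 : ent N 0 0 ≠ 0 := by rw [hm]; exact one_ne_zero
    have h6 := ldu N h5
    have h7 : dg (ent N 0 0) h5 = 1 := by
      refine ext_ent ?_ ?_ ?_ ?_ <;> simp [hm]
    rw [h7, hm, div_one, div_one, mul_one] at h6
    exact h6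
  obtain ⟨a, ha⟩ : ∃ a, a = ent N 1 0 := ⟨_, rfl⟩
  obtain ⟨b, hb⟩ : ∃ b, b = ent N 0 1 := ⟨_, rfl⟩
  rw [← ha, ← hb] at hN2
  -- the two unipotent parts
  have hv : c.pb m * q' * (c.pb m)⁻¹ * c.pb (lo a) ∈ Sg c.X (insert 0 Qb') :=
    mul_mem (Sg_mono (by decide +kernel) h1) (pb_lo_mem c (by decide) _)
  obtain ⟨up', hup', eup⟩ := T0_comm_left (c := c) (s := {1}) (pa_dg_T0 c r hr) (g := c.pb (up b))
    (pb_up_mem c (by decide) _)
  have hu : up' * (c.pb m * q * (c.pb m)⁻¹) ∈ Sg c.X (insert 6 Qb) :=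
    mul_mem (Sg_mono (by decide +kernel) hup') (Sg_mono (by decide +kernel) h2)
  obtain ⟨v, hv1, w0, h0, ev⟩ := c.exists_mul' (k := 0) (s := Qb') (by decide +kernel) hv
  obtain ⟨w6, h6, u, hu1, eu⟩ := c.exists_mul (k := 6) (s := Qb) (by decide +kernel) hu
  obtain ⟨b0, rfl⟩ := (c.pa_lo _).1 h0
  obtain ⟨d0, hd0, rfl⟩ := (c.par.mem6 _).1 h6
  refine ⟨c.pb m * y, v, hv1, lo b0 * dg r hr * up ⟨d0, hd0⟩, u, hu1, ?_⟩
  have e6 : c.x6 d0 = c.pa (up ⟨d0, hd0⟩) := (c.pa_up ⟨d0, hd0⟩).symm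
  rw [map_mul, map_mul]
  calc c.pb m * y * g * (c.pb m * y)⁻¹ = c.pb m * (y * g * y⁻¹) * (c.pb m)⁻¹ := by group
    _ = c.pb m * q' * (c.pb m)⁻¹ * c.pb (lo a) * (c.pb (up b) * c.pa (dg r hr)) * (c.pb m * q * (c.pb m)⁻¹) := by
        rw [h3, hN2, map_mul]; group
    _ = (c.pb m * q' * (c.pb m)⁻¹ * c.pb (lo a)) * c.pa (dg r hr) * (up' * (c.pb m * q * (c.pb m)⁻¹)) := by
        rw [eup]; group
    _ = _ := by rw [ev, eu, e6]; group

end Cfsg.Agent.H148.Hex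
end

-- part: H148/Prod
section
/-!
# Products of two conjugates in groups of type `G₂` and `³D₄` (helper148)
-/

set_option autoImplicit false

namespace Cfsg.Agent.H148.Hex

open Cfsg.Agent.SplitTwo Cfsg.Agent.TitsThree.RankTwoZ Cfsg.Agent.Lib.SL2Mat Cfsg.Agent.Cit.HexBase
  Cfsg.Agent.Cit.HexBase.HexGrp Cfsg.Agent.H148.SLTwo

universe u

section general

variable {L : Type*} [Group L]

/-- `y` is a conjugate of `x` -/
def Cj (x y : L) : Prop := ∃ a, y = a * x * a⁻¹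

theorem Cj.refl (x : L) : Cj x x := ⟨1, by group⟩

theorem Cj.trans {x y z : L} (h : Cj x y) (h' : Cj y z) : Cj x z := by
  obtain ⟨a, rfl⟩ := h
  obtain ⟨b, rfl⟩ := h'
  exact ⟨b * a, by group⟩

theorem Cj.symm {x y : L} (h : Cj x y) : Cj y x := by
  obtain ⟨a, rfl⟩ := h
  exact ⟨a⁻¹, by group⟩

/-- `g` is a product of two conjugates of `x` -/
def Pr (x g : L) : Prop := ∃ u v, g = (u * x * u⁻¹) * (v * x * v⁻¹)

theorem Pr.of {x x1 x2 g : L} (h1 : Cj x x1) (h2 : Cj x x2) (e : g = x1 * x2) : Pr x g := by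
  obtain ⟨a, rfl⟩ := h1
  obtain ⟨b, rfl⟩ := h2
  exact ⟨a, b, e⟩

theorem Pr.conj {x g : L} (h : Pr x g) (y : L) : Pr x (y * g * y⁻¹) := by
  obtain ⟨u, v, rfl⟩ := h
  exact ⟨y * u, y * v, by group⟩

theorem Pr.of_conj {x g : L} (y : L) (h : Pr x (y * g * y⁻¹)) : Pr x g := by
  have := h.conj y⁻¹
  have e : y⁻¹ * (y * g * y⁻¹) * y⁻¹⁻¹ = g := by group
  rwa [e] at this

theorem Fpf.left [Finite L] {Q : Subgroup L} {x v : L} (h : Fpf x Q) (hv : v ∈ Q) : Cj x (v * x) := by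
  let f : Q → Q := fun y => ⟨y.1 * (x * y.1⁻¹ * x⁻¹), mul_mem y.2 (h.1 _ (inv_mem y.2))⟩
  have hinj : Function.Injective f := by
    intro a b hab
    have e : a.1 * (x * a.1⁻¹ * x⁻¹) = b.1 * (x * b.1⁻¹ * x⁻¹) := congrArg Subtype.val hab
    have e2 : x * (b.1⁻¹ * a.1) * x⁻¹ = b.1⁻¹ * a.1 := by
      calc x * (b.1⁻¹ * a.1) * x⁻¹ = b.1⁻¹ * (b.1 * (x * b.1⁻¹ * x⁻¹)) * (x * a.1 * x⁻¹) := by group
        _ = b.1⁻¹ * (a.1 * (x * a.1⁻¹ * x⁻¹)) * (x * a.1 * x⁻¹) := by rw [e]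
        _ = _ := by group
    have e3 := h.2 _ (mul_mem (inv_mem b.2) a.2) e2
    exact Subtype.ext (inv_mul_eq_one.1 e3).symm
  have hsurj : Function.Surjective f := Finite.surjective_of_injective hinj
  obtain ⟨y, hy⟩ := hsurj ⟨v, hv⟩
  refine ⟨y.1, ?_⟩
  have e : y.1 * (x * y.1⁻¹ * x⁻¹) = v := congrArg Subtype.val hy
  rw [← e]
  group

theorem Fpf.right [Finite L] {Q : Subgroup L} {x u : L} (h : Fpf x Q) (hu : u ∈ Q) : Cj x (x * u) := by
  have h1 := h.left (h.1 u hu)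
  have e : x * u * x⁻¹ * x = x * u := by group
  rwa [e] at h1

/-- the product of two fixed point free elements -/
theorem Pr.cell [Finite L] {Q Q' : Subgroup L} {x x1 x2 g y v u : L} (h1 : Cj x x1) (h2 : Cj x x2)
    (f1 : Fpf x1 Q') (f2 : Fpf x2 Q) (hv : v ∈ Q') (hu : u ∈ Q) (e : y * g * y⁻¹ = v * (x1 * x2) * u) : Pr x g := by
  refine Pr.of_conj y (Pr.of (h1.trans (f1.left hv)) (h2.trans (f2.right hu)) ?_)
  rw [e]
  group

/-- transport of fixed point freeness -/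
theorem Fpf.of_conj {Q Q' : Subgroup L} {x n : L} (h1 : ∀ g ∈ Q', n * g * n⁻¹ ∈ Q) (h2 : ∀ g ∈ Q, n⁻¹ * g * n ∈ Q')
    (h : Fpf (n * x * n⁻¹) Q) : Fpf x Q' := by
  constructor
  · intro g hg
    have := h2 _ (h.1 _ (h1 g hg))
    have e : n⁻¹ * (n * x * n⁻¹ * (n * g * n⁻¹) * (n * x * n⁻¹)⁻¹) * n = x * g * x⁻¹ := by group
    rwa [e] at this
  · intro g hg e
    have := h.2 _ (h1 g hg) (by
      rw [← e]
      calc n * x * n⁻¹ * (n * (x * g * x⁻¹) * n⁻¹) * (n * x * n⁻¹)⁻¹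
          = n * (x * (x * g * x⁻¹) * x⁻¹) * n⁻¹ := by group
        _ = _ := by rw [e, e])
    rw [mul_inv_eq_one] at this
    exact mul_eq_left.1 this

end general

variable {E : Type*} [Field E] {σ : E ≃+* E} {L : Type u} [Group L] (c : HexGrp σ L)

/-- criterion for a fixed point free action on `Qb'` -/
theorem fpf_Qb' (m : SL2 ↥(fx σ)) {s : L} {c1 c6 : E} (hs : c.Act s c1 c6)
    (hA : 1 - (c6 * c1)⁻¹ * (c6 * ent m 0 0 + ent m 1 1) + (c6 * c1)⁻¹ ^ 2 * c6 ≠ 0)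
    (hB : c6 * shp σ (c6 * c1)⁻¹ ≠ 1)
    (hC : 1 - nrm σ (c6 * c1)⁻¹ * c6 * (c6 * ent m 0 0 + ent m 1 1) + nrm σ (c6 * c1)⁻¹ ^ 2 * c6 ^ 3 ≠ 0) :
    Fpf (c.pa m * s) (Sg c.X Qb') := by
  have h := fpf_Qb c m (Act.n3 hs) hA hB hC
  have e : n3 c * (c.pa m * s) * (n3 c)⁻¹ = c.pa m * (n3 c * s * (n3 c)⁻¹) := by
    calc n3 c * (c.pa m * s) * (n3 c)⁻¹ = (n3 c * c.pa m * (n3 c)⁻¹) * (n3 c * s * (n3 c)⁻¹) := by group
      _ = _ := by rw [comm_pa_n3]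
  rw [← e] at h
  refine Fpf.of_conj (n := n3 c) (fun g hg => conj_Sg (maps_n3 c) (by decide +kernel) hg) (fun g hg => ?_) h
  have := conj_Sg (maps_n3_inv c) (s := Qb) (t := Qb') (by decide +kernel) hg
  rwa [inv_inv] at this

/-- conjugation of the middle factor by `pa` -/
theorem gauss_conj_pa {g y v u : L} {l : SL2 ↥(fx σ)} (hv : v ∈ Sg c.X Qb') (hu : u ∈ Sg c.X Qb)
    (e : y * g * y⁻¹ = v * c.pa l * u) (m : SL2 ↥(fx σ)) :
    ∃ v' ∈ Sg c.X Qb', ∃ u' ∈ Sg c.X Qb, (c.pa m * y) * g * (c.pa m * y)⁻¹ = v' * c.pa (m * l * m⁻¹) * u' := by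
  refine ⟨c.pa m * v * (c.pa m)⁻¹, pa_conj c (by decide +kernel) (by decide +kernel) m v hv,
    c.pa m * u * (c.pa m)⁻¹, pa_conj c (by decide +kernel) (by decide +kernel) m u hu, ?_⟩
  rw [map_mul, map_mul, map_inv]
  calc c.pa m * y * g * (c.pa m * y)⁻¹ = c.pa m * (y * g * y⁻¹) * (c.pa m)⁻¹ := by group
    _ = _ := by rw [e]; group

end Cfsg.Agent.H148.Hex
end

-- part: H148/EvenSL
section
/-!
# Lemmas on `SL(2,K)`, `K` finite of characteristic two (helper148)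
-/

set_option autoImplicit false

namespace Cfsg.Agent.H148.SLTwo

open Cfsg.Agent.Lib.SL2Mat

variable {K : Type*} [Field K]

/-- the trace -/
def tr (m : S K) : K := ent m 0 0 + ent m 1 1

theorem conj_one (y : S K) : conjGL (dgl (1 : K) one_ne_zero) y = y := by
  rw [conjGL_dgl_ent]
  refine ext_ent ?_ ?_ ?_ ?_ <;> simp

theorem tr_conj (y M : S K) : tr (y * M * y⁻¹) = tr M := by
  have hd := det_eq y
  unfold tr
  rw [ent_inv]
  simp only [ent_mul, mk_00, mk_01, mk_10, mk_11]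
  linear_combination (ent M 0 0 + ent M 1 1) * hd

theorem tr_inv (M : S K) : tr M⁻¹ = tr M := by
  unfold tr
  rw [ent_inv, mk_00, mk_11]
  ring

/-- a nonscalar matrix is conjugate to a matrix with prescribed first entry -/
theorem exists_entry (M : S K) (hM : ¬ (ent M 0 1 = 0 ∧ ent M 1 0 = 0 ∧ ent M 0 0 = ent M 1 1)) (κ : K) :
    ∃ y : S K, ent (y * M * y⁻¹) 0 0 = κ := by
  obtain ⟨y, hy⟩ := exists_twisted M 1 one_ne_zero (by rwa [mul_one]) κ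
  rw [conj_one] at hy
  exact ⟨y, hy⟩

/-- regular split semisimple elements -/
theorem exists_diag (M : S K) (e : K) (he : e ≠ 0) (h1 : e ≠ e⁻¹) (h : tr M = e + e⁻¹) :
    ∃ y : S K, y * M * y⁻¹ = dg e he := by
  obtain ⟨y, hy⟩ := exists_entry M (by
    rintro ⟨h01, h10, h00⟩
    have hd := det_eq M
    rw [h01, ← h00] at hd
    unfold tr at h
    rw [← h00] at h
    apply h1
    have h3 : (e - e⁻¹) ^ 2 = 0 := by
      have h4 : e * e⁻¹ = 1 := mul_inv_cancel₀ he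
      linear_combination (-(e + e⁻¹) - (ent M 0 0 + ent M 0 0)) * h + 4 * hd - 4 * h4
    have := pow_eq_zero_iff (by norm_num) |>.1 h3
    linear_combination this) e
  have ht := tr_conj y M
  obtain ⟨N, hN⟩ : ∃ N, N = y * M * y⁻¹ := ⟨_, rfl⟩
  rw [← hN] at hy ht
  have h11 : ent N 1 1 = e⁻¹ := by
    rw [h] at ht
    unfold tr at ht
    rw [hy] at ht
    linear_combination ht
  have hd := det_eq N
  rw [hy, h11, mul_inv_cancel₀ he] at hd
  have h0 : ent N 0 1 * ent N 1 0 = 0 := by linear_combination -hd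
  have hne : e⁻¹ - e ≠ 0 := fun h => h1 (by linear_combination -h)
  have key : ∀ z : S K, z * dg e he * z⁻¹ = N → ∃ y : S K, y * M * y⁻¹ = dg e he := by
    intro z hz
    refine ⟨z⁻¹ * y, ?_⟩
    have : y * M * y⁻¹ = z * dg e he * z⁻¹ := by rw [← hN, hz]
    calc z⁻¹ * y * M * (z⁻¹ * y)⁻¹ = z⁻¹ * (y * M * y⁻¹) * z := by group
      _ = _ := by rw [this]; group
  rcases mul_eq_zero.1 h0 with h0 | h0
  · refine key (lo (-(ent N 1 0 / (e⁻¹ - e)))) ?_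
    rw [lo_inv]
    refine ext_ent ?_ ?_ ?_ ?_ <;>
      simp only [ent_mul, lo_00, lo_01, lo_10, lo_11, dg_00, dg_01, dg_10, dg_11, hy, h0, h11]
    · ring
    · ring
    · have : ent N 1 0 / (e⁻¹ - e) * (e⁻¹ - e) = ent N 1 0 := div_mul_cancel₀ _ hne
      linear_combination this
    · ring
  · refine key (up (ent N 0 1 / (e⁻¹ - e))) ?_
    rw [up_inv]
    refine ext_ent ?_ ?_ ?_ ?_ <;>
      simp only [ent_mul, up_00, up_01, up_10, up_11, dg_00, dg_01, dg_10, dg_11, hy, h0, h11]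
    · ring
    · have : ent N 0 1 / (e⁻¹ - e) * (e⁻¹ - e) = ent N 0 1 := div_mul_cancel₀ _ hne
      linear_combination this
    · ring
    · ring

/-- In characteristic two every element is, up to conjugation, a product of two elements of trace `e + e⁻¹`. -/
theorem exists_pair_even [Finite K] [CharP K 2] (e : K) (he : e ≠ 0) (l : S K) :
    ∃ y n : S K, tr n = e + e⁻¹ ∧ tr (y * l * y⁻¹ * n) = e + e⁻¹ := by
  have h20 : (2 : K) = 0 := by exact_mod_cast CharP.cast_eq_zero K 2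
  by_cases hl : ent l 0 1 = 0 ∧ ent l 1 0 = 0 ∧ ent l 0 0 = ent l 1 1
  · obtain ⟨h01, h10, h11⟩ := hl
    have hd := det_eq l
    rw [h01, ← h11] at hd
    have h1 : ent l 0 0 = 1 := by
      have : (ent l 0 0 - 1) ^ 2 = 0 := by linear_combination hd + (1 - ent l 0 0) * h20
      have := pow_eq_zero_iff (by norm_num) |>.1 this
      linear_combination this
    refine ⟨1, dg e he, ?_, ?_⟩
    · unfold tr
      simp
    · rw [inv_one, mul_one, one_mul]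
      unfold tr
      rw [ent_mul, ent_mul, dg_00, dg_01, dg_10, dg_11, h01, h10, ← h11, h1]
      ring
  · obtain ⟨y, hy⟩ := exists_entry l hl 0
    obtain ⟨N, hN⟩ : ∃ N, N = y * l * y⁻¹ := ⟨_, rfl⟩
    rw [← hN] at hy
    have hd := det_eq N
    rw [hy] at hd
    have h01 : ent N 0 1 ≠ 0 := by
      intro h0
      rw [h0] at hd
      simp at hd
    obtain ⟨s, hs⟩ : ∃ s, s = e + e⁻¹ := ⟨_, rfl⟩
    obtain ⟨T, hT⟩ : ∃ T, T = ent N 1 1 := ⟨_, rfl⟩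
    -- the conic
    obtain ⟨u, d, hud⟩ : ∃ u d : K, d ^ 2 + T * u * d + u ^ 2 - s * (u + d) + 1 = 0 := by
      by_cases h0 : T = 0
      · refine ⟨0, e, ?_⟩
        rw [h0, hs]
        have h4 : e * e⁻¹ = 1 := mul_inv_cancel₀ he
        linear_combination -h4
      · obtain ⟨r, hr⟩ := FiniteField.isSquare_of_char_two (F := K) (ringChar.eq_iff.2 inferInstance) (1 + s ^ 2 / T)
        have hr' : r ^ 2 = 1 + s ^ 2 / T := by rw [hr]; ring
        refine ⟨s / T + r, s / T, ?_⟩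
        field_simp
        have e1 : T * r ^ 2 = T + s ^ 2 := by rw [hr']; field_simp
        linear_combination T * e1 + (s ^ 2 + T ^ 2 + s * T * r) * h20
    rw [← hs]
    refine ⟨y, mk (s - d) (ent N 0 1 * (u + T * d - s)) (u / ent N 0 1) d ?_, ?_, ?_⟩
    · field_simp
      linear_combination -hud
    · unfold tr
      rw [mk_00, mk_11]
      ring
    · rw [← hN]
      unfold tr
      rw [ent_mul, ent_mul, mk_00, mk_01, mk_10, mk_11, hy, ← hT]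
      field_simp
      linear_combination -(u + T * d - s) * hd
end Cfsg.Agent.H148.SLTwo
end

-- part: H148/Even
section
/-!
# Thompson's conjecture for groups of type `G₂` and `³D₄` in characteristic two, large fields (helper148)
-/

set_option autoImplicit false

namespace Cfsg.Agent.H148.Hex

open Cfsg.Agent.SplitTwo Cfsg.Agent.TitsThree.RankTwoZ Cfsg.Agent.Lib.SL2Mat Cfsg.Agent.Cit.HexBase
  Cfsg.Agent.Cit.HexBase.HexGrp Cfsg.Agent.H148.SLTwo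

universe u

variable {E : Type*} [Field E] {σ : E ≃+* E} {L : Type u} [Group L] (c : HexGrp σ L)

variable {c} in
theorem Act.pow' {g : L} {c1 c6 : E} (h : c.Act g c1 c6) (n : ℕ) : c.Act (g ^ n) (c1 ^ n) (c6 ^ n) := by
  induction n with
  | zero => rw [pow_zero, pow_zero, pow_zero]; exact c.act_one
  | succ n ih => rw [pow_succ, pow_succ, pow_succ]; exact ih.mul h

variable {c} in
/-- torus elements have order dividing `|E| - 1` -/
theorem T0_pow [Fintype E] {t : L} (ht : t ∈ c.T0) : t ^ (Fintype.card E - 1) = 1 := by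
  obtain ⟨c1, c6, h⟩ := ht
  have h1 := Act.pow' h (Fintype.card E - 1)
  rw [FiniteField.pow_card_sub_one_eq_one c1 h.ne1, FiniteField.pow_card_sub_one_eq_one c6 h.ne6] at h1
  exact h1.eq_one

theorem T0_odd [Finite E] [CharP E 2] {t : L} (ht : t ∈ c.T0) : ¬ 2 ∣ orderOf t := by
  have := Fintype.ofFinite E
  intro hd
  have h1 := hd.trans (orderOf_dvd_of_pow_eq_one (T0_pow ht))
  have hcard : 2 ∣ Fintype.card E := by
    have := (inferInstance : Fact (Nat.Prime 2))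
    obtain ⟨n, -, hn⟩ := FiniteField.card E 2
    rw [hn]
    exact dvd_pow_self 2 n.ne_zero
  have hpos : 1 ≤ Fintype.card E := Fintype.card_pos
  omega

/-- an element of weight `c6 = 1` commutes with `pa` -/
theorem comm_pa_of_one {s : L} {c1 : E} (hs : c.Act s c1 1) (m : SL2 ↥(fx σ)) : s * c.pa m = c.pa m * s := by
  have h1 := hs.pa m
  have h2 : conjGL (dgl (⟨1, hs.fix⟩ : ↥(fx σ)) (sub_ne _ hs.ne6)) m = m := conj_one m
  rw [h2] at h1
  exact mul_inv_eq_iff_eq_mul.1 h1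

/-- criterion, weight `c6 = 1` -/
theorem fpf_one (e : ↥(fx σ)) (he : e ≠ 0) {s : L} {c1 : E} (hs : c.Act s c1 1) {m : SL2 ↥(fx σ)}
    (hm : tr m = e + e⁻¹) (h1 : c1 ≠ e) (h1' : c1 * e ≠ 1) (h2 : shp σ c1 ≠ 1) (h3 : nrm σ c1 ≠ e)
    (h3' : nrm σ c1 * e ≠ 1) : Fpf (c.pa m * s) (Sg c.X Qb) := by
  have heE := coe_ne' he
  have e1 : ((ent m 0 0 : ↥(fx σ)) : E) + ((ent m 1 1 : ↥(fx σ)) : E) = (e : E) + (e : E)⁻¹ := by
    have := congrArg (fun x : ↥(fx σ) => (x : E)) hm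
    exact this
  have key : ∀ x : E, x ≠ e → x * e ≠ 1 → 1 - x * ((e : E) + (e : E)⁻¹) + x ^ 2 ≠ 0 := by
    intro x hx hx' h0
    have h4 : (e : E) * (e : E)⁻¹ = 1 := mul_inv_cancel₀ heE
    have : (x - e) * (x - (e : E)⁻¹) = 0 := by linear_combination h0 + h4
    rcases mul_eq_zero.1 this with h | h
    · exact hx (by linear_combination h)
    · apply hx'
      have : x = (e : E)⁻¹ := by linear_combination h
      rw [this, inv_mul_cancel₀ heE]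
  refine fpf_Qb c m hs ?_ ?_ ?_
  · rw [one_mul, e1, mul_one]
    exact key c1 h1 h1'
  · rwa [one_mul]
  · rw [mul_one, one_mul, e1, one_pow, mul_one]
    exact key _ h3 h3'

variable {c} in
theorem act_n3_one {s : L} {c1 : E} (hs : c.Act s c1 1) : c.Act (n3 c * s * (n3 c)⁻¹) c1⁻¹ 1 :=
  (Act.n3 hs).congr rfl (by rw [one_mul]) rfl

/-- criterion on `Qb'`, weight `c6 = 1` -/
theorem fpf_one' (e : ↥(fx σ)) (he : e ≠ 0) {s : L} {c1 : E} (hs : c.Act s c1 1) {m : SL2 ↥(fx σ)}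
    (hm : tr m = e + e⁻¹) (h1 : c1 ≠ e) (h1' : c1 * e ≠ 1) (h2 : shp σ c1 ≠ 1) (h3 : nrm σ c1 ≠ e)
    (h3' : nrm σ c1 * e ≠ 1) : Fpf (c.pa m * s) (Sg c.X Qb') := by
  have heE := coe_ne' he
  have hne := hs.ne1
  have hN := nrm_ne (σ := σ) hne
  have h := fpf_one c e he (act_n3_one hs) hm (fun h => h1' (by rw [← h, mul_inv_cancel₀ hne]))
    (fun h => h1 (by field_simp at h; exact h.symm))
    (fun h => h2 (by
      have h5 : shp σ c1 * shp σ c1⁻¹ = 1 := by rw [← shp_mul, mul_inv_cancel₀ hne]; unfold shp; simp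
      rw [h, mul_one] at h5
      exact h5))
    (fun h => h3' (by rw [← h, nrm_inv, mul_inv_cancel₀ hN]))
    (fun h => h3 (by rw [nrm_inv] at h; field_simp at h; exact h.symm))
  have e : n3 c * (c.pa m * s) * (n3 c)⁻¹ = c.pa m * (n3 c * s * (n3 c)⁻¹) := by
    calc n3 c * (c.pa m * s) * (n3 c)⁻¹ = (n3 c * c.pa m * (n3 c)⁻¹) * (n3 c * s * (n3 c)⁻¹) := by group
      _ = _ := by rw [comm_pa_n3]
  rw [← e] at h
  refine Fpf.of_conj (n := n3 c) (fun g hg => conj_Sg (maps_n3 c) (by decide +kernel) hg) (fun g hg => ?_) h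
  have := conj_Sg (maps_n3_inv c) (s := Qb) (t := Qb') (by decide +kernel) hg
  rwa [inv_inv] at this

theorem cj_split {e : ↥(fx σ)} (he : e ≠ 0) (h1 : e ≠ e⁻¹) {s : L} {c1 : E} (hs : c.Act s c1 1) {m : SL2 ↥(fx σ)}
    (hm : tr m = e + e⁻¹) : Cj (c.pa (dg e he) * s) (c.pa m * s) := by
  obtain ⟨y, hy⟩ := exists_diag m e he h1 hm
  refine Cj.symm ⟨c.pa y, ?_⟩
  have h2 := comm_pa_of_one c hs y⁻¹
  rw [← hy, map_mul, map_mul]
  calc c.pa y * c.pa m * c.pa y⁻¹ * s = c.pa y * c.pa m * (c.pa y⁻¹ * s) := by group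
    _ = _ := by rw [← h2, map_inv]; group

theorem cj_inv_n3 {s : L} {c1 : E} (hs : c.Act s c1 1) (m : SL2 ↥(fx σ)) : Cj (c.pa m * s) (c.pa m * s⁻¹) := by
  refine ⟨n3 c, ?_⟩
  have h1 : n3 c * s * (n3 c)⁻¹ = s⁻¹ := (act_n3_one hs).unique (hs.inv.congr rfl rfl inv_one)
  calc c.pa m * s⁻¹ = (n3 c * c.pa m * (n3 c)⁻¹) * (n3 c * s * (n3 c)⁻¹) := by rw [h1, comm_pa_n3]
    _ = _ := by group

/-- **Thompson's conjecture in characteristic two**, split case. -/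
theorem even_main [Finite L] [Finite E] [CharP E 2] {e : ↥(fx σ)} (he : e ≠ 0) (he1 : e ≠ 1) {s : L} {c1 : E}
    (hs : c.Act s c1 1) (h1 : c1 ≠ e) (h1' : c1 * e ≠ 1) (h2 : shp σ c1 ≠ 1) (h3 : nrm σ c1 ≠ e)
    (h3' : nrm σ c1 * e ≠ 1) : ∃ x : L, ¬ 2 ∣ orderOf x ∧ ∀ g : L, g ≠ 1 → Pr x g := by
  have : CharP ↥(fx σ) 2 := (Subfield.subtype (fx σ)).charP (Subfield.subtype (fx σ)).injective 2
  have h20 : (2 : ↥(fx σ)) = 0 := by exact_mod_cast CharP.cast_eq_zero ↥(fx σ) 2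
  have hee : e ≠ e⁻¹ := by
    intro h
    apply he1
    have h4 : e * e = 1 := by
      calc e * e = e * e⁻¹ := by rw [← h]
        _ = 1 := mul_inv_cancel₀ he
    have : (e - 1) ^ 2 = 0 := by linear_combination h4 + (1 - e) * h20
    have := pow_eq_zero_iff (by norm_num) |>.1 this
    linear_combination this
  refine ⟨c.pa (dg e he) * s, T0_odd c (mul_mem (pa_dg_T0 c e he) ⟨_, _, hs⟩), fun g hg => ?_⟩
  obtain ⟨y, v, hv, l, u, hu, e0⟩ := exists_weak_gauss (c := c) he he1 hg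
  obtain ⟨m, n, hn1, hn2⟩ := exists_pair_even e he l
  obtain ⟨v', hv', u', hu', e'⟩ := gauss_conj_pa c hv hu e0 m
  have hn3 : tr n⁻¹ = e + e⁻¹ := by rw [tr_inv, hn1]
  have hinv := hs.inv.congr rfl rfl inv_one
  have hne := hs.ne1
  have heE := coe_ne' he
  have hN := nrm_ne (σ := σ) hne
  refine Pr.cell (x1 := c.pa (m * l * m⁻¹ * n) * s) (x2 := c.pa n⁻¹ * s⁻¹)
    (Q := Sg c.X Qb) (Q' := Sg c.X Qb') (y := c.pa m * y) (v := v') (u := u')
    (cj_split c he hee hs hn2) ((cj_split c he hee hs hn3).trans (cj_inv_n3 c hs _))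
    (fpf_one' c e he hs hn2 h1 h1' h2 h3 h3') ?_ hv' hu' ?_
  · refine fpf_one c e he hinv hn3 (fun h => h1' (by rw [← h, mul_inv_cancel₀ hne]))
      (fun h => h1 (by field_simp at h; exact h.symm))
      (fun h => h2 (by
        have h5 : shp σ c1 * shp σ c1⁻¹ = 1 := by rw [← shp_mul, mul_inv_cancel₀ hne]; unfold shp; simp
        rw [h, mul_one] at h5
        exact h5))
      (fun h => h3' (by rw [← h, nrm_inv, mul_inv_cancel₀ hN]))
      (fun h => h3 (by rw [nrm_inv] at h; field_simp at h; exact h.symm))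
  · rw [e']
    congr 2
    have h5 := comm_pa_of_one c hs n⁻¹
    calc c.pa (m * l * m⁻¹) = c.pa (m * l * m⁻¹ * n) * c.pa n⁻¹ := by rw [← map_mul, mul_inv_cancel_right]
      _ = c.pa (m * l * m⁻¹ * n) * (c.pa n⁻¹ * s) * s⁻¹ := by group
      _ = _ := by rw [← h5]; group

/-- the torus of the short root `3` -/
theorem act_p3_dg (z : E) (hz : z ≠ 0) : c.Act (p3 c (dg z hz)) (nrm σ z / z ^ 2) 1 := by
  have hN := nrm_ne (σ := σ) hz
  have h1 := (c.act_b z hz).n6.n1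
  refine h1.congr ?_ ?_ ?_
  · rw [p3_apply]
    group
  · field_simp
  · have h2 : nrm σ ((nrm σ z)⁻¹ * z ^ 2) = (nrm σ z)⁻¹ := by
      rw [nrm_mul, nrm_inv, nrm_of_fix (c.nf z), show z ^ 2 = z * z from pow_two z, nrm_mul]
      field_simp
    rw [h2]
    field_simp

end Cfsg.Agent.H148.Hex
end
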