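import Cfsg.Agent.H148.OddSL_mg
set_option linter.all false

-- part: H148/SmallSL
section
/-!
# Lemmas on `SL(2,K)`, `K` finite of characteristic two: nonsplit elements (helper148)
-/

set_option autoImplicit false

namespace Cfsg.Agent.H148.SLTwo

open Cfsg.Agent.Lib.SL2Mat

variable {K : Type*} [Field K]

theorem two_eq_zero (K : Type*) [Field K] [CharP K 2] : (2 : K) = 0 := by exact_mod_cast CharP.cast_eq_zero K 2

theorem exists_sqrt [Finite K] [CharP K 2] (a : K) : ∃ r : K, r ^ 2 = a := by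
  obtain ⟨r, hr⟩ := FiniteField.isSquare_of_char_two (F := K) (ringChar.eq_iff.2 inferInstance) a
  exact ⟨r, by rw [hr]; ring⟩

/-- the companion matrix -/
def comp (K : Type*) [Field K] [CharP K 2] (t : K) : S K := mk 0 1 1 t (by linear_combination -two_eq_zero K)

/-- a nonscalar matrix is conjugate to the companion matrix of its characteristic polynomial -/
theorem exists_comp [Finite K] [CharP K 2] (M : S K) (hM : ¬ (ent M 0 1 = 0 ∧ ent M 1 0 = 0 ∧ ent M 0 0 = ent M 1 1)) :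
    ∃ y : S K, y * M * y⁻¹ = comp K (tr M) := by
  obtain ⟨y, hy⟩ := exists_entry M hM 0
  have ht := tr_conj y M
  obtain ⟨N, hN⟩ : ∃ N, N = y * M * y⁻¹ := ⟨_, rfl⟩
  rw [← hN] at hy ht
  have hd := det_eq N
  rw [hy] at hd
  have h01 : ent N 0 1 ≠ 0 := by
    intro h0
    rw [h0] at hd
    simp at hd
  have h11 : ent N 1 1 = tr M := by
    rw [← ht]
    unfold tr
    rw [hy, zero_add]
  obtain ⟨r, hr⟩ := exists_sqrt (ent N 0 1)
  have hr0 : r ≠ 0 := by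
    intro h
    rw [h] at hr
    exact h01 (by rw [← hr]; ring)
  refine ⟨dg r⁻¹ (inv_ne_zero hr0) * y, ?_⟩
  have e1 : dg r⁻¹ (inv_ne_zero hr0) * y * M * (dg r⁻¹ (inv_ne_zero hr0) * y)⁻¹ =
      dg r⁻¹ (inv_ne_zero hr0) * N * (dg r⁻¹ (inv_ne_zero hr0))⁻¹ := by rw [hN]; group
  rw [e1]
  have h10 : ent N 1 0 = -(r ^ 2)⁻¹ := by
    rw [hr]
    field_simp
    linear_combination -hd
  have h2 := two_eq_zero K
  rw [ent_inv (dg r⁻¹ (inv_ne_zero hr0))]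
  unfold comp
  refine ext_ent ?_ ?_ ?_ ?_ <;>
    simp only [ent_mul, mk_00, mk_01, mk_10, mk_11, dg_00, dg_01, dg_10, dg_11, hy, h11, h10, ← hr, inv_inv]
  · ring
  · field_simp
    ring
  · field_simp
    linear_combination -h2
  · field_simp
    ring

theorem tau_ne {K : Type*} [Field K] [CharP K 2] {τ : K} (h : ∀ x : K, x ^ 2 + τ * x + 1 ≠ 0) : τ ≠ 0 := by
  intro h0
  apply h 1
  rw [h0]
  linear_combination two_eq_zero K

theorem exists_comp' [Finite K] [CharP K 2] {τ : K} (h : ∀ x : K, x ^ 2 + τ * x + 1 ≠ 0) {M : S K} (hM : tr M = τ) :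
    ∃ y : S K, y * M * y⁻¹ = comp K τ := by
  rw [← hM]
  refine exists_comp M ?_
  rintro ⟨h01, h10, h00⟩
  apply tau_ne h
  rw [← hM]
  unfold tr
  rw [h00]
  linear_combination ent M 1 1 * two_eq_zero K

/-- products of two elements of trace `τ` -/
theorem exists_pair_irr [Finite K] [CharP K 2] {τ : K} {l : S K} (hl : l = 1 ∨ tr l ≠ 0) :
    ∃ y n : S K, tr n = τ ∧ tr (y * l * y⁻¹ * n) = τ := by
  have h20 := two_eq_zero K
  rcases hl with rfl | hl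
  · refine ⟨1, comp K τ, ?_, ?_⟩
    · unfold tr comp
      simp
    · rw [inv_one, mul_one, one_mul, one_mul]
      unfold tr comp
      simp
  · obtain ⟨y, hy⟩ := exists_entry l (by
      rintro ⟨-, -, h⟩
      apply hl
      unfold tr
      rw [h]
      linear_combination ent l 1 1 * h20) 0
    have ht := tr_conj y l
    obtain ⟨N, hN⟩ : ∃ N, N = y * l * y⁻¹ := ⟨_, rfl⟩
    rw [← hN] at hy ht
    have hd := det_eq N
    rw [hy] at hd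
    have h01 : ent N 0 1 ≠ 0 := by
      intro h0
      rw [h0] at hd
      simp at hd
    obtain ⟨T, hT⟩ : ∃ T, T = ent N 1 1 := ⟨_, rfl⟩
    have h0 : T ≠ 0 := by
      rw [hT]
      intro h
      apply hl
      rw [← ht]
      unfold tr
      rw [hy, h, zero_add]
    obtain ⟨r, hr'⟩ := exists_sqrt (1 + τ ^ 2 / T)
    obtain ⟨u, d, hud⟩ : ∃ u d : K, d ^ 2 + T * u * d + u ^ 2 - τ * (u + d) + 1 = 0 := by
      refine ⟨τ / T + r, τ / T, ?_⟩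
      field_simp
      have e1 : T * r ^ 2 = T + τ ^ 2 := by rw [hr']; field_simp
      linear_combination T * e1 + (τ ^ 2 + T ^ 2 + τ * T * r) * h20
    refine ⟨y, mk (τ - d) (ent N 0 1 * (u + T * d - τ)) (u / ent N 0 1) d ?_, ?_, ?_⟩
    · field_simp
      linear_combination -hud
    · unfold tr
      rw [mk_00, mk_11]
      ring
    · rw [← hN]
      unfold tr
      rw [ent_mul, ent_mul, mk_00, mk_01, mk_10, mk_11, hy, ← hT]
      field_simp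
      linear_combination -(u + T * d - τ) * hd

end Cfsg.Agent.H148.SLTwo
end

-- part: H148/SmallCore
section
/-!
# Groups of type `G₂` and `³D₄` over small fields of characteristic two: the class (helper148)

Hypotheses: characteristic two, all norms are `1`.
-/

set_option autoImplicit false

namespace Cfsg.Agent.H148.Hex

open Cfsg.Agent.SplitTwo Cfsg.Agent.TitsThree.RankTwoZ Cfsg.Agent.Lib.SL2Mat Cfsg.Agent.Cit.HexBase
  Cfsg.Agent.Cit.HexBase.HexGrp Cfsg.Agent.H148.SLTwo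

universe u

variable {E : Type*} [Field E] {σ : E ≃+* E} {L : Type u} [Group L] (c : HexGrp σ L)

theorem charP_fx [CharP E 2] : CharP ↥(fx σ) 2 :=
  (Subfield.subtype (fx σ)).charP (Subfield.subtype (fx σ)).injective 2

/-- criterion for a nonsplit element times an element of the centre of the Levi subgroup -/
theorem fpf_irr [CharP E 2] {τ : ↥(fx σ)} (hτ : ∀ x : E, x ^ 2 + τ * x + 1 ≠ 0) (hN : ∀ s : E, s ≠ 0 → nrm σ s = 1)
    {s : L} {c1 : E} (hs : c.Act s c1 1) (h1 : c1 ≠ 1) {m : SL2 ↥(fx σ)} (hm : tr m = τ) :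
    Fpf (c.pa m * s) (Sg c.X Qb) := by
  have h20 := two_eq_zero E
  have hne := hs.ne1
  have e1 : ((ent m 0 0 : ↥(fx σ)) : E) + ((ent m 1 1 : ↥(fx σ)) : E) = (τ : E) :=
    congrArg (fun x : ↥(fx σ) => (x : E)) hm
  have hn := hN c1 hne
  refine fpf_Qb c m hs ?_ ?_ ?_
  · rw [one_mul, e1, mul_one]
    intro h
    apply hτ c1
    linear_combination h + c1 * τ * h20
  · rw [one_mul]
    intro h
    apply h1
    have : nrm σ c1 = c1 * shp σ c1 := by unfold nrm shp; ring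
    rw [h, hn] at this
    rw [this, mul_one]
  · rw [mul_one, one_mul, e1, one_pow, mul_one, hn]
    intro h
    apply hτ 1
    linear_combination h + τ * h20

theorem fpf_irr' [CharP E 2] {τ : ↥(fx σ)} (hτ : ∀ x : E, x ^ 2 + τ * x + 1 ≠ 0) (hN : ∀ s : E, s ≠ 0 → nrm σ s = 1)
    {s : L} {c1 : E} (hs : c.Act s c1 1) (h1 : c1 ≠ 1) {m : SL2 ↥(fx σ)} (hm : tr m = τ) :
    Fpf (c.pa m * s) (Sg c.X Qb') := by
  have h := fpf_irr c hτ hN (act_n3_one hs) (fun h => h1 (inv_eq_one.1 h)) hm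
  have e : n3 c * (c.pa m * s) * (n3 c)⁻¹ = c.pa m * (n3 c * s * (n3 c)⁻¹) := by
    calc n3 c * (c.pa m * s) * (n3 c)⁻¹ = (n3 c * c.pa m * (n3 c)⁻¹) * (n3 c * s * (n3 c)⁻¹) := by group
      _ = _ := by rw [comm_pa_n3]
  rw [← e] at h
  refine Fpf.of_conj (n := n3 c) (fun g hg => conj_Sg (maps_n3 c) (by decide +kernel) hg) (fun g hg => ?_) h
  have := conj_Sg (maps_n3_inv c) (s := Qb) (t := Qb') (by decide +kernel) hg
  rwa [inv_inv] at this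

/-- the data of the class -/
structure Dat [CharP E 2] (τ : ↥(fx σ)) (s0 : L) (c1 : E) : Prop where
  irr : ∀ x : E, x ^ 2 + τ * x + 1 ≠ 0
  nrm1 : ∀ s : E, s ≠ 0 → nrm σ s = 1
  act : c.Act s0 c1 1
  ne1 : c1 ≠ 1

variable {c} {τ : ↥(fx σ)} {s0 : L} {c1 : E}

theorem Dat.irr' [CharP E 2] (D : Dat c τ s0 c1) (x : ↥(fx σ)) : x ^ 2 + τ * x + 1 ≠ 0 := fun h =>
  D.irr x (congrArg Subtype.val h)

/-- the element -/
theorem Dat.cj [Finite E] [CharP E 2] [CharP ↥(fx σ) 2] (D : Dat c τ s0 c1) {m : SL2 ↥(fx σ)} (hm : tr m = τ) :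
    Cj (c.pa (comp ↥(fx σ) τ) * s0) (c.pa m * s0) := by
  obtain ⟨y, hy⟩ := exists_comp' (K := ↥(fx σ)) D.irr' hm
  refine Cj.symm ⟨c.pa y, ?_⟩
  have h2 := comm_pa_of_one c D.act y⁻¹
  rw [← hy, map_mul, map_mul]
  calc c.pa y * c.pa m * c.pa y⁻¹ * s0 = c.pa y * c.pa m * (c.pa y⁻¹ * s0) := by group
    _ = _ := by rw [← h2, map_inv]; group

theorem Dat.cj' [Finite E] [CharP E 2] [CharP ↥(fx σ) 2] (D : Dat c τ s0 c1) {m : SL2 ↥(fx σ)} (hm : tr m = τ) :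
    Cj (c.pa (comp ↥(fx σ) τ) * s0) (c.pa m * s0⁻¹) :=
  (D.cj hm).trans (cj_inv_n3 c D.act m)

theorem Dat.inv [CharP E 2] (D : Dat c τ s0 c1) : Dat c τ s0⁻¹ c1⁻¹ where
  irr := D.irr
  nrm1 := D.nrm1
  act := D.act.inv.congr rfl rfl inv_one
  ne1 h := D.ne1 (inv_eq_one.1 h)

/-- `x` is conjugate to its inverse -/
theorem Dat.cj_inv [Finite E] [CharP E 2] [CharP ↥(fx σ) 2] (D : Dat c τ s0 c1) :
    Cj (c.pa (comp ↥(fx σ) τ) * s0) (c.pa (comp ↥(fx σ) τ) * s0)⁻¹ := by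
  have h1 : tr (comp ↥(fx σ) τ)⁻¹ = τ := by rw [tr_inv]; unfold tr comp; simp
  have h2 := D.cj' h1
  have e : (c.pa (comp ↥(fx σ) τ) * s0)⁻¹ = c.pa (comp ↥(fx σ) τ)⁻¹ * s0⁻¹ := by
    rw [← comm_pa_of_one c D.act, mul_inv_rev, map_inv]
  rwa [e]

theorem Pr.inv {x g : L} (h1 : Cj x x⁻¹) (h : Pr x g) : Pr x g⁻¹ := by
  obtain ⟨a, ha⟩ := h1
  obtain ⟨u, v, rfl⟩ := h
  refine ⟨v * a, u * a, ?_⟩
  have e1 : (v * x * v⁻¹)⁻¹ = v * a * x * (v * a)⁻¹ := by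
    calc (v * x * v⁻¹)⁻¹ = v * x⁻¹ * v⁻¹ := by group
      _ = _ := by rw [ha]; group
  have e2 : (u * x * u⁻¹)⁻¹ = u * a * x * (u * a)⁻¹ := by
    calc (u * x * u⁻¹)⁻¹ = u * x⁻¹ * u⁻¹ := by group
      _ = _ := by rw [ha]; group
  rw [mul_inv_rev, e1, e2]

theorem tr_comp {K : Type*} [Field K] [CharP K 2] (t : K) : tr (comp K t) = t := by
  unfold tr comp
  simp

/-- the order of the element is odd -/
theorem Dat.odd [Finite E] [CharP E 2] [CharP ↥(fx σ) 2] (D : Dat c τ s0 c1) :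
    ¬ 2 ∣ orderOf (c.pa (comp ↥(fx σ) τ) * s0) := by
  have := Fintype.ofFinite E
  have := Fintype.ofFinite ↥(fx σ)
  have hodd : ∀ (K : Type _) [Field K] [Fintype K] [CharP K 2], 2 ∣ Fintype.card K := by
    intro K _ _ _
    have := (inferInstance : Fact (Nat.Prime 2))
    obtain ⟨n, -, hn⟩ := FiniteField.card K 2
    rw [hn]
    exact dvd_pow_self 2 n.ne_zero
  have hE := hodd E
  have hF := hodd ↥(fx σ)
  have hpE : 1 ≤ Fintype.card E := Fintype.card_pos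
  have hpF : 1 ≤ Fintype.card ↥(fx σ) := Fintype.card_pos
  have key : ∀ n : ℕ, n % 2 = 1 → (comp ↥(fx σ) τ) ^ n = 1 → ¬ 2 ∣ orderOf (c.pa (comp ↥(fx σ) τ) * s0) := by
    intro n hn h1 hd
    have hc : Commute (c.pa (comp ↥(fx σ) τ)) s0 := (comm_pa_of_one c D.act _).symm
    have h2 : (c.pa (comp ↥(fx σ) τ) * s0) ^ (n * (Fintype.card E - 1)) = 1 := by
      rw [hc.mul_pow, pow_mul, ← map_pow, h1, map_one, one_pow, one_mul, mul_comm, pow_mul, T0_pow ⟨_, _, D.act⟩, one_pow]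
    have h3 := hd.trans (orderOf_dvd_of_pow_eq_one h2)
    rcases Nat.prime_two.dvd_mul.1 h3 with h4 | h4 <;> omega
  rcases pow_of_trace 2 (comp ↥(fx σ) τ) (by
    intro h
    have h1 : tr (comp ↥(fx σ) τ) ^ 2 = 4 := h
    rw [tr_comp] at h1
    apply tau_ne (K := ↥(fx σ)) D.irr'
    have : τ ^ 2 = 0 := by linear_combination h1 + 2 * two_eq_zero ↥(fx σ)
    exact pow_eq_zero_iff (by norm_num) |>.1 this) with h | h
  · exact key _ (by omega) h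
  · exact key _ (by omega) h

/-- the products obtained from a decomposition -/
theorem Dat.cell [Finite L] [Finite E] [CharP E 2] [CharP ↥(fx σ) 2] (D : Dat c τ s0 c1) {g y v u κ : L} {k : E}
    {l : SL2 ↥(fx σ)} (hv : v ∈ Sg c.X Qb') (hu : u ∈ Sg c.X Qb) (hκ : c.Act κ k 1)
    (hk : k = 1 ∨ k = c1 ^ 2 ∨ k * c1 ^ 2 = 1) (hl : l = 1 ∨ tr l ≠ 0) (e : y * g * y⁻¹ = v * (c.pa l * κ) * u) :
    Pr (c.pa (comp ↥(fx σ) τ) * s0) g := by
  obtain ⟨m, n, hn1, hn2⟩ := exists_pair_irr (τ := τ) hl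
  have hn3 : tr n⁻¹ = τ := by rw [tr_inv, hn1]
  have hcc := comm_pa_of_one c hκ m⁻¹
  -- conjugation by `pa m`
  have e' : (c.pa m * y) * g * (c.pa m * y)⁻¹ =
      (c.pa m * v * (c.pa m)⁻¹) * (c.pa (m * l * m⁻¹) * κ) * (c.pa m * u * (c.pa m)⁻¹) := by
    rw [map_mul, map_mul]
    calc c.pa m * y * g * (c.pa m * y)⁻¹ = c.pa m * (y * g * y⁻¹) * (c.pa m)⁻¹ := by group
      _ = (c.pa m * v * (c.pa m)⁻¹) * (c.pa m * c.pa l * (κ * c.pa m⁻¹)) * (c.pa m * u * (c.pa m)⁻¹) := by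
        rw [e, map_inv]; group
      _ = _ := by rw [hcc]; group
  have hv' := pa_conj c (s := Qb') (by decide +kernel) (by decide +kernel) m v hv
  have hu' := pa_conj c (s := Qb) (by decide +kernel) (by decide +kernel) m u hu
  have D' := D.inv
  have hne := D.act.ne1
  -- the three cases
  have key : ∀ (a b : L) (ca cb : E), c.Act a ca 1 → c.Act b cb 1 → ca ≠ 1 → cb ≠ 1 → a * b = κ →
      Cj (c.pa (comp ↥(fx σ) τ) * s0) (c.pa (m * l * m⁻¹ * n) * a) → Cj (c.pa (comp ↥(fx σ) τ) * s0) (c.pa n⁻¹ * b) →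
      Pr (c.pa (comp ↥(fx σ) τ) * s0) g := by
    intro a b ca cb ha hb hca hcb hab h1 h2
    refine Pr.cell (x1 := c.pa (m * l * m⁻¹ * n) * a) (x2 := c.pa n⁻¹ * b)
      (Q := Sg c.X Qb) (Q' := Sg c.X Qb') (y := c.pa m * y) h1 h2
      (fpf_irr' c D.irr D.nrm1 ha hca hn2) (fpf_irr c D.irr D.nrm1 hb hcb hn3) hv' hu' ?_
    rw [e']
    congr 2
    have h5 := comm_pa_of_one c ha n⁻¹
    calc c.pa (m * l * m⁻¹) * κ = c.pa (m * l * m⁻¹ * n) * c.pa n⁻¹ * (a * b) := by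
          rw [hab, ← map_mul, mul_inv_cancel_right]
      _ = c.pa (m * l * m⁻¹ * n) * (c.pa n⁻¹ * a) * b := by group
      _ = _ := by rw [← h5]; group
  rcases hk with hk | hk | hk
  · refine key s0 s0⁻¹ c1 c1⁻¹ D.act D'.act D.ne1 D'.ne1 ?_ (D.cj hn2) (D.cj' hn3)
    rw [mul_inv_cancel]
    exact (c.act_one).unique (hκ.congr rfl hk rfl)
  · refine key s0 s0 c1 c1 D.act D.act D.ne1 D.ne1 ?_ (D.cj hn2) (D.cj hn3)
    exact (D.act.mul D.act).unique (hκ.congr rfl (by rw [hk]; ring) (by ring))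
  · refine key s0⁻¹ s0⁻¹ c1⁻¹ c1⁻¹ D'.act D'.act D'.ne1 D'.ne1 ?_ (D.cj' hn2) (D.cj' hn3)
    refine (D'.act.mul D'.act).unique (hκ.congr rfl ?_ (by ring))
    field_simp
    linear_combination hk

end Cfsg.Agent.H148.Hex
end

-- part: H148/SmallFrame
section
/-!
# Groups of type `G₂` and `³D₄` over small fields of characteristic two: frames (helper148)
-/

set_option autoImplicit false

namespace Cfsg.Agent.H148.Hex

open Cfsg.Agent.SplitTwo Cfsg.Agent.TitsThree.RankTwoZ Cfsg.Agent.Lib.SL2Mat Cfsg.Agent.Cit.HexBase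
  Cfsg.Agent.Cit.HexBase.HexGrp Cfsg.Agent.H148.SLTwo

universe u

variable {E : Type*} [Field E] {σ : E ≃+* E} {L : Type u} [Group L] {c : HexGrp σ L}

/-- the cubic form of an element of `Qa` -/
def cf (σ : E ≃+* E) (b2 b3 b5 b6 x y : E) : E :=
  nrm σ y * b2 + trc σ (x * shp σ y) b3 + trc σ (shp σ x * y) b5 + nrm σ x * b6

theorem neg_eq [CharP E 2] (a : E) : -a = a := by
  have := two_eq_zero E
  linear_combination -a * this

theorem cf_smul (b2 b3 b5 b6 x y t : E) (hc : ∀ a : E, σ (σ (σ a)) = a) :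
    cf σ b2 b3 b5 b6 (t * x) (t * y) = nrm σ t * cf σ b2 b3 b5 b6 x y := by
  unfold cf nrm shp trc
  simp only [map_mul, hc]
  ring

theorem NF_act {t g : L} {c1 c6 b2 b3 b5 b6 : E} (ht : c.Act t c1 c6) (h : c.NF g b2 b3 b5 b6) :
    c.NF (t * g * t⁻¹) (c6 * nrm σ c1 * b2) (c6 * shp σ c1 * b3) (c6 * c1 * b5) (c6 * b6) := by
  obtain ⟨f2, f6, b4, f4, rfl⟩ := h
  refine ⟨mul_fix (mul_fix ht.fix (c.nf c1)) f2, mul_fix ht.fix f6, c6 ^ 2 * nrm σ c1 * b4,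
    mul_fix (mul_fix (by rw [map_pow, ht.fix]) (c.nf c1)) f4, ?_⟩
  rw [← ht.a2 _ f2, ← ht.a3, ← ht.a4 _ f4, ← ht.a5, ← ht.a6 _ f6]
  group

theorem n1_pb_up (x : E) : c.n1 * c.pb (up (-x)) * c.n1⁻¹ = c.pb (lo x) := by
  rw [HexGrp.n1, ← map_inv, ← map_mul, ← map_mul, wm_up']
  congr 2
  ring

/-- the component in `X 6` of the conjugates by `pb` -/
theorem NF_pb [CharP E 2] (hN : ∀ s : E, s ≠ 0 → nrm σ s = 1) {q : L} {b2 b3 b5 b6 : E}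
    (hq : c.NF (c.n1⁻¹ * q * c.n1) b2 b3 b5 b6) (m : SL2 E) {d2 d3 d5 d6 : E}
    (h : c.NF (c.pb m * q * (c.pb m)⁻¹) d2 d3 d5 d6) : d6 = cf σ b2 b3 b5 b6 (ent m 1 0) (ent m 1 1) := by
  have hd := det_eq m
  by_cases h11 : ent m 1 1 = 0
  · have h10 : ent m 1 0 ≠ 0 := by
      intro h0
      rw [h11, h0] at hd
      simp at hd
    have e : m = up (ent m 0 0 / ent m 1 0) * dg (ent m 1 0)⁻¹ (inv_ne_zero h10) * wm (-1) (neg_ne_zero.2 one_ne_zero) := by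
      refine ext_ent ?_ ?_ ?_ ?_ <;>
        simp only [ent_mul, up_00, up_01, up_10, up_11, dg_00, dg_01, dg_10, dg_11, wm_00, wm_01, wm_10, wm_11]
      · field_simp
        ring
      · rw [h11] at hd
        field_simp
        linear_combination -hd
      · simp
      · simp [h11]
    have eb : c.pb m = c.x1 (ent m 0 0 / ent m 1 0) * c.pb (dg (ent m 1 0)⁻¹ (inv_ne_zero h10)) * c.n1⁻¹ := by
      rw [c.n1_inv, ← c.pb_up, ← map_mul, ← map_mul]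
      exact congrArg c.pb e
    have hA := c.act_b (ent m 1 0)⁻¹ (inv_ne_zero h10)
    have h1 := NF_act hA hq
    have h2 := h1.conj1 (-(ent m 0 0 / ent m 1 0))
    have h3 := h2.congr (g' := c.pb m * q * (c.pb m)⁻¹) (by
      rw [c.x1_neg, eb]
      group) rfl rfl rfl rfl
    obtain ⟨-, -, -, e6⟩ := h.unique h3
    rw [e6, h11]
    unfold cf
    rw [hN _ (inv_ne_zero h10), hN _ h10]
    unfold nrm trc shp
    simp
  · have e : m = up (ent m 0 1 / ent m 1 1) * dg (ent m 1 1)⁻¹ (inv_ne_zero h11) * lo (ent m 1 0 / ent m 1 1) := by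
      refine ext_ent ?_ ?_ ?_ ?_ <;>
        simp only [ent_mul, up_00, up_01, up_10, up_11, dg_00, dg_01, dg_10, dg_11, lo_00, lo_01, lo_10, lo_11]
      · field_simp
        linear_combination hd
      · field_simp
        ring
      · field_simp
        ring
      · field_simp
        ring
    have h0 := hq.conj1 (ent m 1 0 / ent m 1 1)
    obtain ⟨k3, k5, h0', -, -⟩ := NF_n1 h0
    have hA := c.act_b (ent m 1 1)⁻¹ (inv_ne_zero h11)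
    have h1 := NF_act hA h0'
    have h2 := h1.conj1 (-(ent m 0 1 / ent m 1 1))
    have eb : c.pb m = c.x1 (ent m 0 1 / ent m 1 1) * c.pb (dg (ent m 1 1)⁻¹ (inv_ne_zero h11)) *
        (c.n1 * (c.x1 (ent m 1 0 / ent m 1 1))⁻¹ * c.n1⁻¹) := by
      rw [← c.x1_neg, ← c.pb_up, ← c.pb_up, n1_pb_up, ← map_mul, ← map_mul]
      exact congrArg c.pb e
    have h3 := h2.congr (g' := c.pb m * q * (c.pb m)⁻¹) (by
      rw [c.x1_neg, eb]
      group) rfl rfl rfl rfl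
    obtain ⟨-, -, -, e6⟩ := h.unique h3
    rw [e6, hN _ (inv_ne_zero h11), inv_one, one_mul]
    have h4 := cf_smul (σ := σ) b2 b3 b5 b6 (ent m 1 0 / ent m 1 1) 1 (ent m 1 1) c.cube
    rw [mul_div_cancel₀ _ h11, mul_one, hN _ h11, one_mul] at h4
    rw [h4]
    have h5 : nrm σ (1 : E) = 1 := nrm_one
    have h6 : shp σ (1 : E) = 1 := by unfold shp; simp
    unfold cf
    rw [h5, h6, mul_one, mul_one]
    have := neg_eq (trc σ (ent m 1 0 / ent m 1 1) b3)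
    linear_combination this

/-- the component in `X 2` of the conjugates by `pb` -/
theorem NF_pb' [CharP E 2] (hN : ∀ s : E, s ≠ 0 → nrm σ s = 1) {q : L} {b2 b3 b5 b6 : E}
    (hq : c.NF (c.n1⁻¹ * q * c.n1) b2 b3 b5 b6) (m : SL2 E) {d2 d3 d5 d6 : E}
    (h : c.NF (c.pb m * q * (c.pb m)⁻¹) d2 d3 d5 d6) : d2 = cf σ b2 b3 b5 b6 (ent m 0 0) (ent m 0 1) := by
  obtain ⟨k3, k5, h1, -, -⟩ := NF_n1 h
  have h2 := NF_pb hN hq (wm 1 one_ne_zero * m) (h1.congr (by rw [map_mul, HexGrp.n1]; group) rfl rfl rfl rfl)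
  rw [h2]
  simp only [ent_mul, wm_10, wm_11]
  congr 1
  · rw [inv_one, zero_mul, add_zero, neg_one_mul, neg_eq]
  · rw [inv_one, zero_mul, add_zero, neg_one_mul, neg_eq]

/-! ### The opposite side -/

theorem n6_pa_up (t : ↥(fx σ)) : c.n6 * c.pa (up t) * c.n6⁻¹ = c.pa (lo (-t)) := by
  rw [HexGrp.n6, ← map_inv, ← map_mul, ← map_mul, wm_up']
  congr 2
  field_simp

theorem n1_x4 {t : E} (ht : σ t = t) : c.n1 * c.x4 t * c.n1⁻¹ = c.x4 t := by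
  have := c.pb_comm4 (wm 1 one_ne_zero) (c.mem4 ht)
  rw [show c.n1 = c.pb (wm 1 one_ne_zero) from rfl, this]
  group

theorem n4_x2 [CharP E 2] (t : ↥(fx σ)) : c.n4 * c.x2 t * c.n4⁻¹ = c.pa (lo t) := by
  have ht : σ (t : E) = t := t.2
  have e1 : c.n6⁻¹ * c.x2 (t : E) * c.n6 = c.x4 t := by
    have := n6_x4 c ht
    rw [← this]
    group
  have e2 := n1_x4 (c := c) ht
  have e3 := n6_x4 c ht
  have e4 := c.n1_x2 (t : E) ht
  have e5 := n6_pa_up (c := c) t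
  have : CharP ↥(fx σ) 2 := charP_fx
  rw [neg_eq] at e5
  calc c.n4 * c.x2 t * c.n4⁻¹
      = c.n6 * (c.n1 * (c.n6 * (c.n1⁻¹ * (c.n6⁻¹ * c.x2 (t : E) * c.n6) * c.n1) * c.n6⁻¹) * c.n1⁻¹) * c.n6⁻¹ := by
        rw [n4_eq]; group
    _ = c.n6 * (c.n1 * (c.n6 * c.x4 (t : E) * c.n6⁻¹) * c.n1⁻¹) * c.n6⁻¹ := by
        have e6 : c.n1⁻¹ * c.x4 (t : E) * c.n1 = c.x4 t := by
          nth_rewrite 1 [← e2]
          group
        rw [e1, e6]
    _ = c.n6 * c.x6 (t : E) * c.n6⁻¹ := by rw [e3, e4]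
    _ = _ := by rw [← e5, c.pa_up]

theorem n4_inv_mem {q' : L} (h : q' ∈ Sg c.X Qa') : c.n4⁻¹ * q' * c.n4 ∈ Sg c.X Qa := by
  have hinv : Maps c.X c.n4⁻¹ (fun k => 2 - k) := c.maps_n4.inv fun k => by ring
  have := conj_Sg hinv (s := Qa') (t := Qa) (by decide +kernel) h
  rwa [inv_inv] at this

/-- the component in `X 0` of an element of `Qa'` -/
theorem split_Qa' [CharP E 2] {q' : L} {d2 d3 d5 d6 : E} (h : c.NF (c.n4⁻¹ * q' * c.n4) d2 d3 d5 d6) :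
    ∃ v ∈ Sg c.X {8, 9, 10, 11}, q' = v * c.pa (lo ⟨d2, h.1⟩) := by
  obtain ⟨f2, f6, b4, f4, e⟩ := id h
  obtain ⟨w, hw⟩ : ∃ w, w = c.x3 d3 * c.x4 b4 * c.x5 d5 * c.x6 d6 := ⟨_, rfl⟩
  have hwm : w ∈ Sg c.X {3, 4, 5, 6} := by
    rw [hw]
    exact mul_mem (mul_mem (mul_mem (c.sg (by decide) (c.mem3 _)) (c.sg (by decide) (c.mem4 f4)))
      (c.sg (by decide) (c.mem5 _))) (c.sg (by decide) (c.mem6 f6))
  have e1 : q' = (c.n4 * c.x2 d2 * c.n4⁻¹) * (c.n4 * w * c.n4⁻¹) := by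
    have : c.n4⁻¹ * q' * c.n4 = c.x2 d2 * w := by rw [e, hw]; group
    calc q' = c.n4 * (c.n4⁻¹ * q' * c.n4) * c.n4⁻¹ := by group
      _ = _ := by rw [this]; group
  have e2 := n4_x2 (c := c) ⟨d2, h.1⟩
  have h2 : c.n4 * w * c.n4⁻¹ ∈ Sg c.X {8, 9, 10, 11} := conj_Sg c.maps_n4 (by decide +kernel) hwm
  refine ⟨c.pa (lo ⟨d2, h.1⟩) * (c.n4 * w * c.n4⁻¹) * (c.pa (lo ⟨d2, h.1⟩))⁻¹, ?_, ?_⟩
  · exact c.conj_mem_Sg (k := 0) (by decide +kernel) ((c.pa_lo _).2 ⟨_, rfl⟩) h2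
  · rw [inv_mul_cancel_right, ← e2]
    exact e1

theorem split_Qa {q : L} {d2 d3 d5 d6 : E} (h : c.NF q d2 d3 d5 d6) :
    ∃ u ∈ Sg c.X {2, 3, 4, 5}, q = c.pa (up ⟨d6, h.2.1⟩) * u := by
  obtain ⟨f2, f6, b4, f4, e⟩ := id h
  have e6 : c.pa (up ⟨d6, h.2.1⟩) = c.x6 d6 := c.pa_up _
  rw [e6]
  refine ⟨(c.x6 d6)⁻¹ * (c.x2 d2 * c.x3 d3 * c.x4 b4 * c.x5 d5) * c.x6 d6, ?_, by rw [e]; group⟩
  have h1 := c.conj_mem_Sg (k := 6) (s := {2, 3, 4, 5}) (by decide +kernel) (c.mem6 (neg_fix f6))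
    (mul_mem (mul_mem (mul_mem (c.sg (by decide) (c.mem2 f2)) (c.sg (by decide) (c.mem3 d3)))
      (c.sg (by decide) (c.mem4 f4))) (c.sg (by decide) (c.mem5 d5)) : c.x2 d2 * c.x3 d3 * c.x4 b4 * c.x5 d5 ∈ _)
  rwa [c.x6_neg f6, inv_inv] at h1

/-- the decomposition given by a frame -/
theorem FA.cell [CharP E 2] (hN : ∀ s : E, s ≠ 0 → nrm σ s = 1) {g q' q : L} {M : SL2 E} {r : ↥(fx σ)} {hr : r ≠ 0}
    (h : FA c g q' M r hr q) (hs : ent M 0 0 ≠ 0) {a2 a3 a5 a6 b2 b3 b5 b6 : E}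
    (ha : c.NF (c.n4⁻¹ * q' * c.n4) a2 a3 a5 a6) (hb : c.NF q b2 b3 b5 b6) :
    ∃ v ∈ Sg c.X Qb', ∃ u ∈ Sg c.X Qb, g = v * (c.pa (lo ⟨a2, ha.1⟩ * dg r hr * up ⟨b6, hb.2.1⟩) *
      c.pb (dg (ent M 0 0) hs)) * u := by
  obtain ⟨v1, hv1, ev⟩ := split_Qa' ha
  obtain ⟨u1, hu1, eu⟩ := split_Qa hb
  obtain ⟨-, -, e⟩ := h
  have eM := ldu M hs
  obtain ⟨a, ha'⟩ : ∃ a, a = ent M 1 0 / ent M 0 0 := ⟨_, rfl⟩
  obtain ⟨b, hb'⟩ : ∃ b, b = ent M 0 1 / ent M 0 0 := ⟨_, rfl⟩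
  rw [← ha', ← hb'] at eM
  obtain ⟨b1, hb1, e1⟩ := T0_comm_left (c := c) (s := {1}) (pa_dg_T0 c r hr) (g := c.pb (up b)) (pb_up_mem c (by decide) _)
  obtain ⟨A, hA⟩ : ∃ A, A = lo (⟨a2, ha.1⟩ : ↥(fx σ)) := ⟨_, rfl⟩
  obtain ⟨B, hB⟩ : ∃ B, B = up (⟨b6, hb.2.1⟩ : ↥(fx σ)) := ⟨_, rfl⟩
  rw [← hA] at ev
  rw [← hB] at eu
  rw [← hA, ← hB]
  have hact := c.act_b (ent M 0 0) hs
  rw [hN _ hs, inv_one] at hact
  have hcc := comm_pa_of_one c hact (dg r hr * B)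
  have k1 := pa_conj c (s := Qb') (by decide +kernel) (by decide +kernel) A _ (pb_lo_mem c (by decide) a)
  have k2 := pa_conj c (s := Qb) (by decide +kernel) (by decide +kernel) B⁻¹ _ (Sg_mono (by decide +kernel) hb1 : b1 ∈ Sg c.X Qb)
  refine ⟨v1 * (c.pa A * c.pb (lo a) * (c.pa A)⁻¹), mul_mem (Sg_mono (by decide +kernel) hv1) k1,
    (c.pa B⁻¹ * b1 * (c.pa B⁻¹)⁻¹) * u1, mul_mem k2 (Sg_mono (by decide +kernel) hu1), ?_⟩
  have eM' : c.pb M = c.pb (lo a) * c.pb (dg (ent M 0 0) hs) * c.pb (up b) := by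
    rw [← map_mul, ← map_mul]
    exact congrArg c.pb eM
  rw [e, ev, eu, eM']
  calc v1 * c.pa A * (c.pb (lo a) * c.pb (dg (ent M 0 0) hs) * c.pb (up b) * c.pa (dg r hr)) * (c.pa B * u1)
      = v1 * c.pa A * c.pb (lo a) * c.pb (dg (ent M 0 0) hs) * (c.pb (up b) * c.pa (dg r hr)) * c.pa B * u1 := by group
    _ = v1 * (c.pa A * c.pb (lo a) * (c.pa A)⁻¹) * c.pa A * (c.pb (dg (ent M 0 0) hs) * c.pa (dg r hr * B)) *
          (c.pa B⁻¹ * b1 * (c.pa B⁻¹)⁻¹) * u1 := by rw [e1, map_inv, map_mul c.pa (dg r hr)]; group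
    _ = _ := by rw [hcc, mul_assoc A, map_mul c.pa A]; group

/-- **The condition on a bad element.** -/
theorem Dat.bad [Finite L] [Finite E] [CharP E 2] [CharP ↥(fx σ) 2] {τ : ↥(fx σ)} {s0 : L} {c1 : E} (D : Dat c τ s0 c1)
    {g : L} (hg : ¬ Pr (c.pa (comp ↥(fx σ) τ) * s0) g) {y q' q : L} {M : SL2 E} {r : ↥(fx σ)} {hr : r ≠ 0}
    (hF : FA c (y * g * y⁻¹) q' M r hr q) {a2 a3 a5 a6 b2 b3 b5 b6 : E}
    (ha : c.NF (c.n1⁻¹ * (c.n4⁻¹ * q' * c.n4) * c.n1) a2 a3 a5 a6) (hb : c.NF (c.n1⁻¹ * q * c.n1) b2 b3 b5 b6)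
    (m : SL2 E) (hs : ent (m * M * conjGL (dgl (r : E)⁻¹ (inv_ne_zero (coe_ne' hr))) m⁻¹) 0 0 = 1 ∨
      ent (m * M * conjGL (dgl (r : E)⁻¹ (inv_ne_zero (coe_ne' hr))) m⁻¹) 0 0 = c1 ∨
      ent (m * M * conjGL (dgl (r : E)⁻¹ (inv_ne_zero (coe_ne' hr))) m⁻¹) 0 0 * c1 = 1) :
    (r : E) + (r : E)⁻¹ + r * cf σ a2 a3 a5 a6 (ent m 0 0) (ent m 0 1) * cf σ b2 b3 b5 b6 (ent m 1 0) (ent m 1 1) = 0 ∧
      ¬ ((r : E) = 1 ∧ cf σ a2 a3 a5 a6 (ent m 0 0) (ent m 0 1) = 0 ∧ cf σ b2 b3 b5 b6 (ent m 1 0) (ent m 1 1) = 0) := by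
  have hF' := hF.conj_pb m
  obtain ⟨N, hNe⟩ : ∃ N, N = m * M * conjGL (dgl (r : E)⁻¹ (inv_ne_zero (coe_ne' hr))) m⁻¹ := ⟨_, rfl⟩
  rw [← hNe] at hF' hs
  have hc1 := D.act.ne1
  have hs0 : ent N 0 0 ≠ 0 := by
    rcases hs with h | h | h
    · rw [h]; exact one_ne_zero
    · rw [h]; exact hc1
    · exact left_ne_zero_of_mul_eq_one h
  have hcomm : c.n4⁻¹ * c.pb m = c.pb m * c.n4⁻¹ := by
    have := c.comm_pb_p4 m (wm 1 one_ne_zero)
    rw [show c.p4 (wm 1 one_ne_zero) = c.n4 from rfl] at this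
    calc c.n4⁻¹ * c.pb m = c.n4⁻¹ * (c.pb m * c.n4) * c.n4⁻¹ := by group
      _ = _ := by rw [this]; group
  have hp : c.n4⁻¹ * (c.pb m * q' * (c.pb m)⁻¹) * c.n4 = c.pb m * (c.n4⁻¹ * q' * c.n4) * (c.pb m)⁻¹ := by
    calc c.n4⁻¹ * (c.pb m * q' * (c.pb m)⁻¹) * c.n4 = (c.n4⁻¹ * c.pb m) * q' * (c.n4⁻¹ * c.pb m)⁻¹ := by group
      _ = _ := by rw [hcomm]; group
  obtain ⟨d2, d3, d5, d6, hd⟩ := c.exists_NF (n4_inv_mem hF'.1)
  obtain ⟨e2, e3, e5, e6, he⟩ := c.exists_NF hF'.2.1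
  obtain ⟨v, hv, u, hu, e⟩ := hF'.cell D.nrm1 hs0 hd he
  have k1 := NF_pb' D.nrm1 ha m (hd.congr hp rfl rfl rfl rfl)
  have k2 := NF_pb D.nrm1 hb m he
  rw [← k1, ← k2]
  obtain ⟨l, hl⟩ : ∃ l, l = lo (⟨d2, hd.1⟩ : ↥(fx σ)) * dg r hr * up ⟨e6, he.2.1⟩ := ⟨_, rfl⟩
  rw [← hl] at e
  have hA := c.act_b (ent N 0 0) hs0
  rw [D.nrm1 _ hs0, inv_one] at hA
  have hbad : ¬ (l = 1 ∨ tr l ≠ 0) := by
    intro hcon
    apply hg
    refine Pr.of_conj y (Pr.of_conj (c.pb m) (D.cell (y := 1) hv hu hA ?_ hcon (by rw [← e]; group)))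
    rcases hs with h | h | h
    · left; rw [h]; ring
    · right; left; rw [h]
    · right; right
      linear_combination (ent N 0 0 * c1 + 1) * h
  push Not at hbad
  obtain ⟨hl1, hl2⟩ := hbad
  have htr : ((tr l : ↥(fx σ)) : E) = (r : E) + (r : E)⁻¹ + r * d2 * e6 := by
    rw [hl]
    unfold tr
    simp only [ent_mul, lo_00, lo_01, lo_10, lo_11, dg_00, dg_01, dg_10, dg_11, up_00, up_01, up_10, up_11]
    push_cast
    ring
  refine ⟨by rw [← htr, hl2]; rfl, ?_⟩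
  rintro ⟨h1, h2, h3⟩
  apply hl1
  rw [hl]
  have h1' : r = 1 := Subtype.ext h1
  have h2' : (⟨d2, hd.1⟩ : ↥(fx σ)) = 0 := Subtype.ext h2
  have h3' : (⟨e6, he.2.1⟩ : ↥(fx σ)) = 0 := Subtype.ext h3
  subst h1'
  rw [h2', h3', lo_zero, up_zero, dg_one', one_mul, one_mul]

end Cfsg.Agent.H148.Hex
end

-- part: H148/SmallBad
section
/-!
# Groups of type `G₂` and `³D₄` over small fields of characteristic two: bad elements (helper148)
-/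

set_option autoImplicit false

namespace Cfsg.Agent.H148.Hex

open Cfsg.Agent.SplitTwo Cfsg.Agent.TitsThree.RankTwoZ Cfsg.Agent.Lib.SL2Mat Cfsg.Agent.Cit.HexBase
  Cfsg.Agent.Cit.HexBase.HexGrp Cfsg.Agent.H148.SLTwo

universe u

variable {E : Type*} [Field E] {σ : E ≃+* E} {L : Type u} [Group L] {c : HexGrp σ L}

/-- the condition on a bad element, homogeneous form -/
theorem bad_hom [Finite L] [Finite E] [CharP E 2] [CharP ↥(fx σ) 2] {τ : ↥(fx σ)} {s0 : L} {c1 : E} (D : Dat c τ s0 c1)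
    {g : L} (hg : ¬ Pr (c.pa (comp ↥(fx σ) τ) * s0) g) {y q' q : L} {M : SL2 E} {r : ↥(fx σ)} {hr : r ≠ 0}
    (hF : FA c (y * g * y⁻¹) q' M r hr q) {a2 a3 a5 a6 b2 b3 b5 b6 : E}
    (ha : c.NF (c.n1⁻¹ * (c.n4⁻¹ * q' * c.n4) * c.n1) a2 a3 a5 a6) (hb : c.NF (c.n1⁻¹ * q * c.n1) b2 b3 b5 b6)
    (p q0 p' q0' : E) (hΔ : p * q0' - q0 * p' ≠ 0)
    (hs : (p * ent M 0 0 + q0 * ent M 1 0) * q0' - (p * ent M 0 1 + q0 * ent M 1 1) * (r * p') = p * q0' - q0 * p' ∨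
      (p * ent M 0 0 + q0 * ent M 1 0) * q0' - (p * ent M 0 1 + q0 * ent M 1 1) * (r * p') = c1 * (p * q0' - q0 * p') ∨
      ((p * ent M 0 0 + q0 * ent M 1 0) * q0' - (p * ent M 0 1 + q0 * ent M 1 1) * (r * p')) * c1 = p * q0' - q0 * p') :
    (r : E) + (r : E)⁻¹ + r * cf σ a2 a3 a5 a6 p q0 * cf σ b2 b3 b5 b6 p' q0' = 0 ∧
      ¬ ((r : E) = 1 ∧ cf σ a2 a3 a5 a6 p q0 = 0 ∧ cf σ b2 b3 b5 b6 p' q0' = 0) := by
  obtain ⟨Δ, hΔe⟩ : ∃ Δ, Δ = p * q0' - q0 * p' := ⟨_, rfl⟩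
  rw [← hΔe] at hΔ hs
  have hdet : p * (q0' / Δ) - q0 * (p' / Δ) = 1 := by
    field_simp
    exact hΔe.symm
  obtain ⟨num, hnum⟩ : ∃ num, num = (p * ent M 0 0 + q0 * ent M 1 0) * q0' - (p * ent M 0 1 + q0 * ent M 1 1) * (r * p') :=
    ⟨_, rfl⟩
  rw [← hnum] at hs
  have he : ent (mk p q0 (p' / Δ) (q0' / Δ) hdet * M *
      conjGL (dgl (r : E)⁻¹ (inv_ne_zero (coe_ne' hr))) (mk p q0 (p' / Δ) (q0' / Δ) hdet)⁻¹) 0 0 = num / Δ := by
    have hr' := coe_ne' hr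
    rw [conjGL_dgl_ent, ent_inv (mk p q0 (p' / Δ) (q0' / Δ) hdet), hnum]
    simp only [ent_mul, mk_00, mk_01, mk_10, mk_11]
    field_simp
    ring
  have h := D.bad hg hF ha hb (mk p q0 (p' / Δ) (q0' / Δ) hdet) (by
    rw [he]
    rcases hs with h | h | h
    · left; rw [h, div_self hΔ]
    · right; left; rw [h, mul_div_cancel_right₀ _ hΔ]
    · right; right; rw [div_mul_eq_mul_div, h, div_self hΔ])
  simp only [mk_00, mk_01, mk_10, mk_11] at h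
  have h4 := cf_smul (σ := σ) b2 b3 b5 b6 (p' / Δ) (q0' / Δ) Δ c.cube
  rw [mul_div_cancel₀ _ hΔ, mul_div_cancel₀ _ hΔ, D.nrm1 _ hΔ, one_mul] at h4
  rw [h4]
  exact h

theorem n4_sq [CharP E 2] : c.n4 * c.n4 = 1 := by
  have : CharP ↥(fx σ) 2 := charP_fx
  rw [HexGrp.n4, ← map_mul]
  have : (wm (1 : ↥(fx σ)) one_ne_zero * wm 1 one_ne_zero : SL2 ↥(fx σ)) = 1 := by
    have h2 := two_eq_zero ↥(fx σ)
    refine ext_ent ?_ ?_ ?_ ?_ <;> simp [ent_mul]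
    · linear_combination -h2
    · linear_combination -h2
  rw [this, map_one]

theorem n1_sq' [CharP E 2] : c.n1 * c.n1 = 1 := by
  rw [HexGrp.n1, ← map_mul]
  have : (wm (1 : E) one_ne_zero * wm 1 one_ne_zero : SL2 E) = 1 := by
    have h2 := two_eq_zero E
    refine ext_ent ?_ ?_ ?_ ?_ <;> simp [ent_mul]
    · linear_combination -h2
    · linear_combination -h2
  rw [this, map_one]

theorem n6_sq' [CharP E 2] : c.n6 * c.n6 = 1 := by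
  have : CharP ↥(fx σ) 2 := charP_fx
  rw [HexGrp.n6, ← map_mul]
  have : (wm (1 : ↥(fx σ)) one_ne_zero * wm 1 one_ne_zero : SL2 ↥(fx σ)) = 1 := by
    have h2 := two_eq_zero ↥(fx σ)
    refine ext_ent ?_ ?_ ?_ ?_ <;> simp [ent_mul]
    · linear_combination -h2
    · linear_combination -h2
  rw [this, map_one]

/-- the mirror image of a frame -/
theorem FA.mirror [CharP E 2] {g q' q : L} {M : SL2 E} (h : FA c g q' M 1 one_ne_zero q) :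
    FA c (c.n4⁻¹ * g⁻¹ * c.n4) (c.n4⁻¹ * q⁻¹ * c.n4) M⁻¹ 1 one_ne_zero (c.n4⁻¹ * q'⁻¹ * c.n4) := by
  obtain ⟨h1, h2, h3⟩ := h
  have hinv : Maps c.X c.n4⁻¹ (fun k => 2 - k) := c.maps_n4.inv fun k => by ring
  refine ⟨?_, ?_, ?_⟩
  · have := conj_Sg hinv (s := Qa) (t := Qa') (by decide +kernel) (inv_mem h2)
    rwa [inv_inv] at this
  · have := conj_Sg hinv (s := Qa') (t := Qa) (by decide +kernel) (inv_mem h1)
    rwa [inv_inv] at this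
  · have hcomm : c.n4⁻¹ * c.pb M⁻¹ = c.pb M⁻¹ * c.n4⁻¹ := by
      have := c.comm_pb_p4 M⁻¹ (wm 1 one_ne_zero)
      rw [show c.p4 (wm 1 one_ne_zero) = c.n4 from rfl] at this
      calc c.n4⁻¹ * c.pb M⁻¹ = c.n4⁻¹ * (c.pb M⁻¹ * c.n4) * c.n4⁻¹ := by group
        _ = _ := by rw [this]; group
    rw [dg_one', map_one, mul_one] at h3 ⊢
    rw [h3]
    calc c.n4⁻¹ * (q' * c.pb M * q)⁻¹ * c.n4 = c.n4⁻¹ * q⁻¹ * c.n4 * (c.n4⁻¹ * c.pb M⁻¹) * q'⁻¹ * c.n4 := by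
          rw [map_inv]; group
      _ = _ := by rw [hcomm]; group

/-- another representation of a frame under `n6`. -/
theorem frame_n6 [CharP E 2] (hN : ∀ s : E, s ≠ 0 → nrm σ s = 1) {v : L} (hv : v ∈ c.X 10) (a s b : E) (hs : s ≠ 0)
    {d : ↥(fx σ)} {u : L} (hu : u ∈ Sg c.X {2, 3, 4, 5}) :
    ∃ u5 k, k ∈ Sg c.X {2, 3, 4} ∧ ∃ v8 ∈ c.X 8, ∃ v11 ∈ c.X 11,
      (∃ k0 ∈ Sg c.X {2, 3, 4}, u = c.x5 u5 * k0) ∧ v8 = c.n6 * v * c.n6⁻¹ ∧
      c.n6 * (v * c.pb (lo a * dg s hs * up b) * (c.pa (up d) * u)) * c.n6⁻¹ =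
        (v8 * v11 * c.pa (lo d)) * c.pb (dg s hs * up (d * b + u5)) * (c.x5 b * k) := by
  have : CharP ↥(fx σ) 2 := charP_fx
  -- the `X 5` component
  obtain ⟨x5', h5, k0, hk0, eu⟩ := c.exists_mul (k := 5) (s := {2, 3, 4}) (by decide +kernel)
    (Sg_mono (by decide +kernel) hu : u ∈ Sg c.X (insert 5 {2, 3, 4}))
  obtain ⟨u5, rfl⟩ := (c.par.mem5 _).1 h5
  have h8 : c.n6 * v * c.n6⁻¹ ∈ c.X 8 := maps_mem c.maps_n6 hv (by decide)
  have h11 : c.n6 * c.pb (lo a) * c.n6⁻¹ ∈ c.X 11 := maps_mem c.maps_n6 ((c.pb_lo _).2 ⟨a, rfl⟩) (by decide)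
  have hact := c.act_b s hs
  rw [hN _ hs, inv_one] at hact
  have et : c.n6 * c.pb (dg s hs) * c.n6⁻¹ = c.pb (dg s hs) := by
    refine hact.n6.unique (hact.congr rfl ?_ ?_)
    · rw [one_mul]
    · rw [inv_one]
  have hkw : c.n6 * k0 * c.n6⁻¹ ∈ Sg c.X {2, 3, 4} := conj_Sg c.maps_n6 (by decide +kernel) hk0
  -- `W` coordinates
  have hW1 := lo_x5 c d b
  have e6 : c.n6 * c.pa (up d) * c.n6⁻¹ = c.pa (lo d) := by
    have := n6_pa_up (c := c) d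
    rwa [neg_eq] at this
  have hlo : (c.pa (lo d))⁻¹ = c.pa (lo d) := by
    rw [← map_inv, lo_inv, neg_eq]
  have hW : W c ((c.pa (lo d) * c.x5 b * (c.pa (lo d))⁻¹) * (c.x1 u5 * (c.n6 * k0 * c.n6⁻¹))) b (d * b + u5) :=
    (hW1.mul ((w1 c u5).mul (w0 c hkw))).congr rfl (by ring) (by ring)
  obtain ⟨k1, hk1, ek⟩ := hW
  -- reorder
  obtain ⟨j, hj, ej⟩ := x1_x5 (c := c) (d * b + u5) b
  refine ⟨u5, j⁻¹ * k1, mul_mem (inv_mem hj) hk1, c.n6 * v * c.n6⁻¹, h8,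
    c.n6 * c.pb (lo a) * c.n6⁻¹, h11, ⟨k0, hk0, eu⟩, rfl, ?_⟩
  have e1 : c.n6 * c.x1 b * c.n6⁻¹ = c.x5 b := n6_x1 b
  have e5 : c.n6 * c.x5 u5 * c.n6⁻¹ = c.x1 u5 := by
    have := n6_x5 (c := c) u5
    rwa [neg_eq] at this
  have e7 := comm_pa_of_one c hact (lo d)
  calc c.n6 * (v * c.pb (lo a * dg s hs * up b) * (c.pa (up d) * u)) * c.n6⁻¹
      = (c.n6 * v * c.n6⁻¹) * (c.n6 * c.pb (lo a) * c.n6⁻¹) * (c.n6 * c.pb (dg s hs) * c.n6⁻¹) *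
          (c.n6 * c.x1 b * c.n6⁻¹) * (c.n6 * c.pa (up d) * c.n6⁻¹) * ((c.n6 * c.x5 u5 * c.n6⁻¹) *
            (c.n6 * k0 * c.n6⁻¹)) := by
        rw [map_mul, map_mul, ← c.pb_up, eu]
        group
    _ = (c.n6 * v * c.n6⁻¹) * (c.n6 * c.pb (lo a) * c.n6⁻¹) * c.pb (dg s hs) *
          c.x5 b * c.pa (lo d) * (c.x1 u5 * (c.n6 * k0 * c.n6⁻¹)) := by rw [et, e1, e6, e5]
    _ = (c.n6 * v * c.n6⁻¹) * (c.n6 * c.pb (lo a) * c.n6⁻¹) * (c.pb (dg s hs) * c.pa (lo d)) *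
          ((c.pa (lo d))⁻¹ * c.x5 b * c.pa (lo d) * (c.x1 u5 * (c.n6 * k0 * c.n6⁻¹))) := by group
    _ = (c.n6 * v * c.n6⁻¹) * (c.n6 * c.pb (lo a) * c.n6⁻¹) * (c.pa (lo d) * c.pb (dg s hs)) *
          (c.pa (lo d) * c.x5 b * (c.pa (lo d))⁻¹ * (c.x1 u5 * (c.n6 * k0 * c.n6⁻¹))) := by
        simp only [e7, hlo]
    _ = _ := by
        rw [ek, map_mul, c.pb_up]
        have e8 : c.x5 b * c.x1 (d * b + u5) = c.x1 (d * b + u5) * c.x5 b * j⁻¹ := by rw [ej]; group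
        rw [e8]
        group

end Cfsg.Agent.H148.Hex
end
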